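import Groth.Agent.EtBC.K558.StageInj

/-!
# Base change maps on a limit of cartesian squares

`isIso_bcQ_limit`: if the base change maps of all stages are isomorphisms then so is that of the limit.
-/

set_option autoImplicit false
universe u
open CategoryTheory CategoryTheory.Limits AlgebraicGeometry Opposite Abelian
open scoped Groth.Agent.Sga4B.EtAbInst
open scoped Groth.Agent.Etcore.EtInst
open Groth.Agent.Etcore.EtInst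

namespace K558.BCLim

open Groth.Agent Groth.Agent.Etcore.HQ K558.Rho K558.LimCl K558.ClsLim K558.LamBC K558.StageLim
open Groth.Agent.Etcore.PullCoh
open Groth.Agent.Topos.H573.SysFrozen

section sq

variable {T S T' S' Y X Y' X' : Scheme.{u}} {g : T ⟶ S} {g' : T' ⟶ S'} {h : Y ⟶ X} {h' : Y' ⟶ X'}
  {u' : T' ⟶ T} {s : S' ⟶ S} {e : Y ⟶ T} {a : X ⟶ S} {e' : Y' ⟶ T'} {a' : X' ⟶ S'} {π : Y' ⟶ Y} {b : X' ⟶ X}
  {Ω : Type u} [Field Ω] [IsSepClosed Ω]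

theorem tri₁ {F : EtCoh.Ab T} {F' : EtCoh.Ab T'} (α : (EtCoh.pull u').obj F ⟶ F') (d : Y' ⟶ T) (hd₂ : e' ≫ u' = d) :
    Tri e' u' d hd₂ α (𝟙 ((EtCoh.pull e').obj F')) (inv (th e' u' d hd₂ F) ≫ (EtCoh.pull e').map α) := by
  unfold Tri
  rw [IsIso.hom_inv_id_assoc, Category.comp_id]

theorem tri₂ {F : EtCoh.Ab T} {F' : EtCoh.Ab T'} (α : (EtCoh.pull u').obj F ⟶ F') (d : Y' ⟶ T) (hd₁ : π ≫ e = d)
    (hd₂ : e' ≫ u' = d) :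
    Tri π e d hd₁ (𝟙 ((EtCoh.pull e).obj F)) (sh α π e e' d hd₁ hd₂)
      (inv (th e' u' d hd₂ F) ≫ (EtCoh.pull e').map α) := by
  unfold Tri
  rw [CategoryTheory.Functor.map_id, Category.id_comp, sh_eq]

/-- The maps on stalks of a commutative cube. -/
theorem Lam_sq (w : u' ≫ g = g' ≫ s) (w₁ : e' ≫ g' = h' ≫ a') (w₂ : e ≫ g = h ≫ a) (w₃ : π ≫ h = h' ≫ b)
    (d : Y' ⟶ T) (hd₁ : π ≫ e = d) (hd₂ : e' ≫ u' = d) (hb : b ≫ a = a' ≫ s)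
    (ξ : Spec (CommRingCat.of Ω) ⟶ X') (ξ₁ : Spec (CommRingCat.of Ω) ⟶ X) (ξ₂ : Spec (CommRingCat.of Ω) ⟶ S')
    (ζ : Spec (CommRingCat.of Ω) ⟶ S) (k₁ : ξ ≫ b = ξ₁) (k₂ : ξ₁ ≫ a = ζ) (k₃ : ξ ≫ a' = ξ₂) (k₄ : ξ₂ ≫ s = ζ)
    {F : EtCoh.Ab T} {F' : EtCoh.Ab T'} (α : (EtCoh.pull u').obj F ⟶ F') (n : ℕ) (y : St g ζ n F) :
    Lam w₁ ξ ξ₂ k₃ (𝟙 ((EtCoh.pull e').obj F')) n (Lam w ξ₂ ζ k₄ α n y) =
      Lam w₃ ξ ξ₁ k₁ (sh α π e e' d hd₁ hd₂) n (Lam w₂ ξ₁ ζ k₂ (𝟙 ((EtCoh.pull e).obj F)) n y) := by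
  have w'' : d ≫ g = h' ≫ a' ≫ s := by rw [← hd₂, Category.assoc, w, ← Category.assoc, w₁, Category.assoc]
  rw [Lam_Lam w w₁ w'' hd₂ rfl ξ ξ₂ ζ k₃ k₄ (by rw [← Category.assoc, k₃, k₄]) (tri₁ α d hd₂) n y,
    Lam_Lam w₂ w₃ w'' hd₁ hb ξ ξ₁ ζ k₁ k₂ (by rw [← Category.assoc, k₃, k₄]) (tri₂ α d hd₁ hd₂) n y]

end sq

theorem Lam_bijective {X S X' S' : Scheme.{u}} {f : X ⟶ S} {s : S' ⟶ S} {f' : X' ⟶ S'} {u' : X' ⟶ X}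
    {Ω : Type u} [Field Ω] [IsSepClosed Ω] (w : u' ≫ f = f' ≫ s) (ξ : Spec (CommRingCat.of Ω) ⟶ S')
    (ζ : Spec (CommRingCat.of Ω) ⟶ S) (hζ : ξ ≫ s = ζ) {F : EtCoh.Ab X} {F' : EtCoh.Ab X'}
    (α : (EtCoh.pull u').obj F ⟶ F') (n : ℕ) (h : Function.Bijective (Lam₀ w ξ α n)) :
    Function.Bijective (Lam w ξ ζ hζ α n) := by
  subst hζ
  exact h

section main

variable {ι : Type u} [Preorder ι] [Nonempty ι] [IsDirected ι (· ≤ ·)]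
    {Xs Ss Ts Ys : ιᵒᵖ ⥤ Scheme.{u}} (fN : Xs ⟶ Ss) (gN : Ts ⟶ Ss) (hN : Ys ⟶ Xs) (eN : Ys ⟶ Ts)
    (sq : ∀ a : ιᵒᵖ, eN.app a ≫ gN.app a = hN.app a ≫ fN.app a)
    (hgqc : ∀ a : ιᵒᵖ, QuasiCompact (gN.app a)) (hgqs : ∀ a : ιᵒᵖ, QuasiSeparated (gN.app a))
    (hhqc : ∀ a : ιᵒᵖ, QuasiCompact (hN.app a)) (hhqs : ∀ a : ιᵒᵖ, QuasiSeparated (hN.app a))
    (hX : ∀ ⦃a b : ιᵒᵖ⦄ (m : a ⟶ b), IsAffineHom (Xs.map m))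
    (hS : ∀ ⦃a b : ιᵒᵖ⦄ (m : a ⟶ b), IsAffineHom (Ss.map m))
    (hT : ∀ ⦃a b : ιᵒᵖ⦄ (m : a ⟶ b), IsAffineHom (Ts.map m))
    (hY : ∀ ⦃a b : ιᵒᵖ⦄ (m : a ⟶ b), IsAffineHom (Ys.map m))
    {cX : Cone Xs} (hcX : IsLimit cX) {cS : Cone Ss} (hcS : IsLimit cS)
    {cT : Cone Ts} (hcT : IsLimit cT) {cY : Cone Ys} (hcY : IsLimit cY)
    (f : cX.pt ⟶ cS.pt) (g : cT.pt ⟶ cS.pt) (h : cY.pt ⟶ cX.pt) (e : cY.pt ⟶ cT.pt)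
    (hf : ∀ a, f ≫ cS.π.app a = cX.π.app a ≫ fN.app a) (hg : ∀ a, g ≫ cS.π.app a = cT.π.app a ≫ gN.app a)
    (hh : ∀ a, h ≫ cX.π.app a = cY.π.app a ≫ hN.app a) (he : ∀ a, e ≫ cT.π.app a = cY.π.app a ≫ eN.app a)
    (c : e ≫ g = h ≫ f) (M : SSys Ts cT) (n : ℕ)
    (hst : ∀ (i : ι) (Ω : Type u) [Field Ω] [IsSepClosed Ω] (ξ : Spec (CommRingCat.of Ω) ⟶ Xs.obj (op i)),
      Function.Bijective (Lam₀ (sq (op i)) ξ (𝟙 ((EtCoh.pull (eN.app (op i))).obj (M.F i))) n))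

include hgqc hgqs hhqc hhqs hX hS hT hY hcX hcS hcT hcY hf hg hh he hst in
theorem bijective_lim {Ω : Type u} [Field Ω] [IsSepClosed Ω] (ξ : Spec (CommRingCat.of Ω) ⟶ cX.pt) :
    Function.Bijective (Lam₀ c ξ (𝟙 ((EtCoh.pull e).obj M.t.pt)) n) := by
  have e1 : ∀ j : ι, (ξ ≫ cX.π.app (op j)) ≫ fN.app (op j) = (ξ ≫ f) ≫ cS.π.app (op j) := fun j => by
    rw [Category.assoc, Category.assoc, hf]
  have hB : ∀ j : ι, Function.Bijective (Lam (sq (op j)) (ξ ≫ cX.π.app (op j)) ((ξ ≫ f) ≫ cS.π.app (op j)) (e1 j)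
      (𝟙 ((EtCoh.pull (eN.app (op j))).obj (M.F j))) n) := fun j => Lam_bijective _ _ _ _ _ _ (hst j Ω _)
  -- the two commutations
  have c1 : ∀ (j : ι) (y : St (gN.app (op j)) ((ξ ≫ f) ≫ cS.π.app (op j)) n (M.F j)),
      Lam₀ c ξ (𝟙 ((EtCoh.pull e).obj M.t.pt)) n (lamj gN hg M (ξ ≫ f) n j y) =
        lamj hN hh (M.pull eN e he) ξ n j (Lam (sq (op j)) (ξ ≫ cX.π.app (op j)) ((ξ ≫ f) ≫ cS.π.app (op j)) (e1 j)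
          (𝟙 ((EtCoh.pull (eN.app (op j))).obj (M.F j))) n y) := by
    intro j y
    have := Lam_sq (hg (op j)).symm c (sq (op j)) (hh (op j)).symm (cY.π.app (op j) ≫ eN.app (op j)) rfl (he (op j))
      (hf (op j)).symm ξ (ξ ≫ cX.π.app (op j)) (ξ ≫ f) ((ξ ≫ f) ≫ cS.π.app (op j)) rfl (e1 j) rfl rfl (M.α j) n y
    rw [← SSys.pull_α M eN e he j] at this
    exact this
  have c2 : ∀ (j k : ι) (hjk : j ≤ k) (y : St (gN.app (op j)) ((ξ ≫ f) ≫ cS.π.app (op j)) n (M.F j)),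
      Lam (sq (op k)) (ξ ≫ cX.π.app (op k)) ((ξ ≫ f) ≫ cS.π.app (op k)) (e1 k)
          (𝟙 ((EtCoh.pull (eN.app (op k))).obj (M.F k))) n (lamij gN M (ξ ≫ f) n hjk y) =
        lamij hN (M.pull eN e he) ξ n hjk (Lam (sq (op j)) (ξ ≫ cX.π.app (op j)) ((ξ ≫ f) ≫ cS.π.app (op j)) (e1 j)
          (𝟙 ((EtCoh.pull (eN.app (op j))).obj (M.F j))) n y) := by
    intro j k hjk y
    exact Lam_sq (gN.naturality (homOfLE hjk).op) (sq (op k)) (sq (op j)) (hN.naturality (homOfLE hjk).op)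
      (Ys.map (homOfLE hjk).op ≫ eN.app (op j)) rfl (eN.naturality (homOfLE hjk).op).symm
      (fN.naturality (homOfLE hjk).op) (ξ ≫ cX.π.app (op k)) (ξ ≫ cX.π.app (op j))
      ((ξ ≫ f) ≫ cS.π.app (op k)) ((ξ ≫ f) ≫ cS.π.app (op j)) (comp_π ξ hjk) (e1 j) (e1 k) (comp_π (ξ ≫ f) hjk)
      (M.φ hjk) n y
  constructor
  · rw [injective_iff_map_eq_zero]
    intro y hy
    obtain ⟨j, v, rfl⟩ := lam_surj gN hg M (ξ ≫ f) n hT hS hgqc hgqs hcT hcS y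
    rw [c1] at hy
    obtain ⟨k, hjk, hk⟩ := lam_inj hN hh (M.pull eN e he) ξ n hY hX hhqc hhqs hcY hcX j _ hy
    rw [← c2 j k hjk] at hk
    have h0 := (injective_iff_map_eq_zero _).1 (hB k).1 _ hk
    rw [← lamj_lamij gN hg M (ξ ≫ f) n hjk v, h0, map_zero]
  · intro z
    obtain ⟨j, w, rfl⟩ := lam_surj hN hh (M.pull eN e he) ξ n hY hX hhqc hhqs hcY hcX z
    obtain ⟨v, rfl⟩ := (hB j).2 w
    exact ⟨lamj gN hg M (ξ ≫ f) n j v, c1 j v⟩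

end main

end K558.BCLim
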