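import Groth.Agent.EtBC.K558.LimCl
import Mathlib.CategoryTheory.Filtered.Final

/-!
# Systems of sheaves over a system of schemes, and classes on the limit

`SSys Ts c`: a system of sheaves `F i` on `Ts i` (indexed by a directed preorder), with a colimit `t.pt` of the
inverse images on the cone point `c.pt`.

* `SSys.pull`: inverse image along a map of systems; `SSys.restrict`: restriction to a cofinal subset `i₀ ≤ i`;
* `SSys.surj`, `SSys.inj`: classes on the limit of a system of qcqs schemes `D i ⟶ Ts i`.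
-/

set_option autoImplicit false
universe u
open CategoryTheory CategoryTheory.Limits AlgebraicGeometry Opposite Abelian
open scoped Groth.Agent.Etcore.EtInst
open Groth.Agent.Etcore.EtInst

namespace K558.ClsLim

open Groth.Agent Groth.Agent.Etcore.HQ Groth.Agent.Etcore.PullCoh Groth.Agent.Etcore.HpullCalc K558.LimCl
open Groth.Agent.Topos.H573.SysBasic Groth.Agent.Topos.H573.SysLim Groth.Agent.Topos.H573.SysDir

section Cocyc

variable {X Y Z : Scheme.{u}}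

theorem th_tr (g : X ⟶ Y) (f : Y ⟶ Z) (gf : X ⟶ Z) (w : g ≫ f = gf) (F : EtCoh.Ab Z) :
    th g f gf w F ≫ tr g f gf w F = 𝟙 _ := inv_congr_tr g f gf w F

theorem tr_th (g : X ⟶ Y) (f : Y ⟶ Z) (gf : X ⟶ Z) (w : g ≫ f = gf) (F : EtCoh.Ab Z) :
    tr g f gf w F ≫ th g f gf w F = 𝟙 _ := by
  rw [← cancel_epi (th g f gf w F), ← Category.assoc, th_tr, Category.id_comp, Category.comp_id]

theorem tri_iff_cocyc (g : X ⟶ Y) (f : Y ⟶ Z) (gf : X ⟶ Z) (w : g ≫ f = gf) {F : EtCoh.Ab Z}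
    {M : EtCoh.Ab Y} {N : EtCoh.Ab X} (α : (EtCoh.pull f).obj F ⟶ M) (β : (EtCoh.pull g).obj M ⟶ N)
    (γ : (EtCoh.pull gf).obj F ⟶ N) : Tri g f gf w α β γ ↔ Cocyc g f gf w α β γ := by
  rw [cocyc_iff, Tri, ← cancel_epi (th g f gf w F) (g := γ), ← Category.assoc (th g f gf w F), th_tr,
    Category.id_comp]

end Cocyc

/-- A system of sheaves. -/
structure SSys {ι : Type u} [Preorder ι] (Ts : ιᵒᵖ ⥤ Scheme.{u}) (c : Cone Ts) where
  /-- the sheaves -/
  F : ∀ i : ι, EtCoh.Ab (Ts.obj (op i))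
  /-- transition maps -/
  φ : ∀ ⦃i j : ι⦄ (h : i ≤ j), (EtCoh.pull (Ts.map (homOfLE h).op)).obj (F i) ⟶ F j
  hφ : ∀ ⦃i j k : ι⦄ (hij : i ≤ j) (hjk : j ≤ k),
    Tri (Ts.map (homOfLE hjk).op) (Ts.map (homOfLE hij).op) (Ts.map (homOfLE (hij.trans hjk)).op)
      (Ts.map_comp (homOfLE hjk).op (homOfLE hij).op).symm (φ hij) (φ hjk) (φ (hij.trans hjk))
  /-- the diagram on the limit -/
  G : ι ⥤ EtCoh.Ab c.pt
  /-- the identification -/
  ψ : ∀ i : ι, (EtCoh.pull (c.π.app (op i))).obj (F i) ≅ G.obj i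
  hψ : ∀ ⦃i j : ι⦄ (hij : i ≤ j), Tri (c.π.app (op j)) (Ts.map (homOfLE hij).op) (c.π.app (op i))
    (c.w (homOfLE hij).op) (φ hij) (ψ j).hom ((ψ i).hom ≫ G.map (homOfLE hij))
  /-- the colimit -/
  t : Cocone G
  ht : IsColimit t

namespace SSys

variable {ι : Type u} [Preorder ι] {Ts : ιᵒᵖ ⥤ Scheme.{u}} {c : Cone Ts} (M : SSys Ts c)

/-- The map to the limit sheaf. -/
noncomputable def α (i : ι) : (EtCoh.pull (c.π.app (op i))).obj (M.F i) ⟶ M.t.pt :=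
  (M.ψ i).hom ≫ M.t.ι.app i

theorem hα ⦃i j : ι⦄ (hij : i ≤ j) : Tri (c.π.app (op j)) (Ts.map (homOfLE hij).op) (c.π.app (op i))
    (c.w (homOfLE hij).op) (M.φ hij) (M.α j) (M.α i) := by
  have h := M.hψ hij
  unfold Tri at h ⊢
  rw [α, α, ← M.t.w (homOfLE hij), ← Category.assoc (M.ψ i).hom, ← Category.assoc, h, Category.assoc]

section pull

variable {D : ιᵒᵖ ⥤ Scheme.{u}} {cD : Cone D} (z : D ⟶ Ts) (zz : cD.pt ⟶ c.pt)
  (hzz : ∀ a, zz ≫ c.π.app a = cD.π.app a ≫ z.app a)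

/-- Inverse image of a system. -/
noncomputable def pull : SSys D cD where
  F i := (EtCoh.pull (z.app (op i))).obj (M.F i)
  φ i j h := sh (M.φ h) (D.map (homOfLE h).op) (z.app (op i)) (z.app (op j))
    (D.map (homOfLE h).op ≫ z.app (op i)) rfl (z.naturality (homOfLE h).op).symm
  hφ i j k hij hjk := sh_tri _ (M.hφ hij hjk) _ _ _ _ _ _ _ _ _ _ _ _ _ _ _ _
  G := M.G ⋙ EtCoh.pull zz
  ψ i := @asIso _ _ _ _ (sh (M.ψ i).hom (cD.π.app (op i)) (z.app (op i)) zz (cD.π.app (op i) ≫ z.app (op i)) rfl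
    (hzz (op i))) inferInstance
  hψ i j hij := by
    have h := sh_tri _ (M.hψ hij) (D.map (homOfLE hij).op) (cD.π.app (op j)) (cD.π.app (op i))
      (cD.w (homOfLE hij).op) (z.app (op i)) (z.app (op j)) zz
      (D.map (homOfLE hij).op ≫ z.app (op i)) rfl (z.naturality (homOfLE hij).op).symm
      (cD.π.app (op j) ≫ z.app (op j)) rfl (hzz (op j)) (cD.π.app (op i) ≫ z.app (op i)) rfl (hzz (op i))
    rw [sh_map] at h
    exact h
  t := (EtCoh.pull zz).mapCocone M.t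
  ht := have := (EtCoh.pullPushAdj zz).leftAdjoint_preservesColimits
    isColimitOfPreserves (EtCoh.pull zz) M.ht

theorem pull_α (i : ι) : (M.pull z zz hzz).α i = sh (M.α i) (cD.π.app (op i)) (z.app (op i)) zz
    (cD.π.app (op i) ≫ z.app (op i)) rfl (hzz (op i)) := (sh_map _ _ _ _ _ _ _ _).symm

end pull

section restrict

/-- The inclusion of `{i | i₀ ≤ i}`. -/
abbrev incl (i₀ : ι) : Set.Ici i₀ ⥤ ι := (Subtype.mono_coe (· ∈ Set.Ici i₀)).functor

instance (i₀ : ι) : (incl i₀).Full := ⟨fun f => ⟨homOfLE (leOfHom f), rfl⟩⟩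

instance (i₀ : ι) : (incl i₀).Faithful := ⟨fun _ => Subsingleton.elim _ _⟩

theorem incl_final [IsDirected ι (· ≤ ·)] (i₀ : ι) : (incl i₀).Final :=
  Functor.final_of_exists_of_isFiltered_of_fullyFaithful (incl i₀) (fun d => by
    obtain ⟨k, h1, h2⟩ := exists_ge_ge i₀ d
    exact ⟨⟨k, h1⟩, ⟨homOfLE h2⟩⟩)

theorem incl_op_initial [IsDirected ι (· ≤ ·)] (i₀ : ι) : (incl i₀).op.Initial :=
  have := incl_final i₀
  inferInstance

/-- Restriction of a system. -/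
noncomputable def restrict [IsDirected ι (· ≤ ·)] (i₀ : ι) :
    SSys ((incl i₀).op ⋙ Ts) (c.whisker (incl i₀).op) where
  F i := M.F i.1
  φ i j h := M.φ (show i.1 ≤ j.1 from h)
  hφ i j k hij hjk := M.hφ (show i.1 ≤ j.1 from hij) (show j.1 ≤ k.1 from hjk)
  G := incl i₀ ⋙ M.G
  ψ i := M.ψ i.1
  hψ i j hij := M.hψ (show i.1 ≤ j.1 from hij)
  t := M.t.whisker (incl i₀)
  ht := have := incl_final i₀
    (Functor.Final.isColimitWhiskerEquiv (incl i₀) M.t).symm M.ht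

theorem restrict_α [IsDirected ι (· ≤ ·)] (i₀ : ι) (i : Set.Ici i₀) : (M.restrict i₀).α i = M.α i.1 := rfl

end restrict

section main

attribute [local instance] pfl

variable [Nonempty ι] [IsDirected ι (· ≤ ·)] (haff : ∀ {i j : ιᵒᵖ} (f : i ⟶ j), IsAffineHom (Ts.map f))
  (hc : IsLimit c) (hqc : ∀ i, CompactSpace (Ts.obj i)) (hqs : ∀ i, QuasiSeparatedSpace (Ts.obj i)) (n : ℕ)

include haff hc hqc hqs

theorem surj₀ (x : HH c.pt M.t.pt n) : ∃ (j : ι) (y : HH (Ts.obj (op j)) (M.F j) n),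
    HHmap (M.α j) n (hp (c.π.app (op j)) (M.F j) n y) = x :=
  @dir_surj ι _ _ _ Ts (fun f => haff f) c.pt (fun a => c.π.app a) (fun f => c.w f) hc hqc hqs
    (fun a => pfl (c.π.app a)) M.F M.φ M.G M.ψ (fun _ _ hij => (tri_iff_cocyc _ _ _ _ _ _ _).1 (M.hψ hij))
    M.t M.ht n x

theorem inj₀ (i : ι) (y : HH (Ts.obj (op i)) (M.F i) n)
    (hy : HHmap (M.α i) n (hp (c.π.app (op i)) (M.F i) n y) = 0) :
    ∃ (j : ι) (h : i ≤ j), HHmap (M.φ h) n (hp (Ts.map (homOfLE h).op) (M.F i) n y) = 0 :=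
  @dir_inj ι _ _ _ Ts (fun f => haff f) c.pt (fun a => c.π.app a) (fun f => c.w f) hc hqc hqs
    (fun a => pfl (c.π.app a)) (fun f => pfl (Ts.map f)) M.F M.φ
    (fun _ _ _ hij hjk => (tri_iff_cocyc _ _ _ _ _ _ _).1 (M.hφ hij hjk)) M.G M.ψ
    (fun _ _ hij => (tri_iff_cocyc _ _ _ _ _ _ _).1 (M.hψ hij))
    M.t M.ht n i y hy

end main

section rel

variable [Nonempty ι] [IsDirected ι (· ≤ ·)] {D : ιᵒᵖ ⥤ Scheme.{u}} {cD : Cone D} (z : D ⟶ Ts) (zz : cD.pt ⟶ c.pt)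
  (hzz : ∀ a, zz ≫ c.π.app a = cD.π.app a ≫ z.app a)
  (haff : ∀ {i j : ιᵒᵖ} (f : i ⟶ j), IsAffineHom (D.map f))
  (hc : IsLimit cD) (hqc : ∀ i, CompactSpace (D.obj i)) (hqs : ∀ i, QuasiSeparatedSpace (D.obj i)) (n : ℕ)

include haff hc hqc hqs

/-- Every class on the limit comes from a stage. -/
theorem surj (x : HQ M.t.pt zz n) : ∃ (j : ι) (y : HQ (M.F j) (z.app (op j)) n),
    cl (M.α j) (cD.π.app (op j)) (z.app (op j)) zz (cD.π.app (op j) ≫ z.app (op j)) rfl (hzz (op j)) n y = x := by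
  obtain ⟨j, y, h⟩ := (M.pull z zz hzz).surj₀ haff hc hqc hqs n x
  rw [pull_α] at h
  exact ⟨j, y, h⟩

/-- A class at a stage which dies on the limit dies at a later stage. -/
theorem inj (i : ι) (y : HQ (M.F i) (z.app (op i)) n)
    (hy : cl (M.α i) (cD.π.app (op i)) (z.app (op i)) zz (cD.π.app (op i) ≫ z.app (op i)) rfl (hzz (op i)) n y = 0) :
    ∃ (j : ι) (h : i ≤ j), cl (M.φ h) (D.map (homOfLE h).op) (z.app (op i)) (z.app (op j))
      (D.map (homOfLE h).op ≫ z.app (op i)) rfl (z.naturality (homOfLE h).op).symm n y = 0 := by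
  refine (M.pull z zz hzz).inj₀ haff hc hqc hqs n i y ?_
  rw [pull_α]
  exact hy

end rel

end SSys

end K558.ClsLim
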