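import Groth.Agent.EtBC.K2.PasteAbs

/-!
# Derived exact functors: associativity and single complexes

* `compD_assoc`: the associativity law for `K2.PasteAbs.compD`;
* `kap L F : L(F[0]) ⟶ (L F)[0]` and its compatibility with `compD`;
* `ups G F : (G F)[0] ⟶ RG (F[0])` and its compatibility with `bcD`.
-/

set_option autoImplicit false
set_option linter.unusedSectionVars false
universe w₁ w₂ w₃ w₄ v₁ v₂ v₃ v₄ u₁ u₂ u₃ u₄
open CategoryTheory CategoryTheory.Limits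

noncomputable section
namespace K558.DAbs
open Groth.Agent.Etrest Groth.Agent.Etrest.RDer1 Groth.Agent.Etrest.RDer2 Groth.Agent.Etrest.RDer3
  Groth.Agent.Etrest.RDer4 Groth.Agent.Etrest.RDer5 K2.PasteAbs

section assoc

variable {A : Type u₁} [Category.{v₁} A] [Abelian A] [HasDerivedCategory.{w₁} A]
  {B : Type u₂} [Category.{v₂} B] [Abelian B] [HasDerivedCategory.{w₂} B]
  {C : Type u₃} [Category.{v₃} C] [Abelian C] [HasDerivedCategory.{w₃} C]
  {D : Type u₄} [Category.{v₄} D] [Abelian D] [HasDerivedCategory.{w₄} D]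
  {L₁ : A ⥤ B} {L₂ : B ⥤ C} {L₃ : C ⥤ D} {M : A ⥤ C} {N : B ⥤ D} {O : A ⥤ D}
  [L₁.Additive] [PreservesFiniteLimits L₁] [PreservesFiniteColimits L₁]
  [L₂.Additive] [PreservesFiniteLimits L₂] [PreservesFiniteColimits L₂]
  [L₃.Additive] [PreservesFiniteLimits L₃] [PreservesFiniteColimits L₃]
  [M.Additive] [PreservesFiniteLimits M] [PreservesFiniteColimits M]
  [N.Additive] [PreservesFiniteLimits N] [PreservesFiniteColimits N]
  [O.Additive] [PreservesFiniteLimits O] [PreservesFiniteColimits O]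
  (α : L₁ ⋙ L₂ ⟶ M) (β : M ⋙ L₃ ⟶ O) (α' : L₂ ⋙ L₃ ⟶ N) (β' : L₁ ⋙ N ⟶ O)

theorem assoc_aux {D₂ D₃ : Type*} [Category* D₂] [Category* D₃] (F : D₂ ⥤ D₃) {a0 a1 a2 a3 a4 : D₂}
    {f1 : a0 ⟶ a1} {f2 : a1 ⟶ a2} {q : a2 ⟶ a3} {mi : a3 ⟶ a4} {m : a4 ⟶ a3} (hm : mi ≫ m = 𝟙 _)
    {z0 z1 z2 z3 : D₃} {f3 : F.obj a3 ⟶ z0} {qb : z0 ⟶ z1} {oi : z1 ⟶ z2}
    {f3' : F.obj a2 ⟶ z3} {qa : z3 ⟶ z0} (n1 : F.map q ≫ f3 = f3' ≫ qa)
    {c0 c1 : D₃} {cα' : F.obj a0 ⟶ c0} {x : F.obj a1 ⟶ c1} {y : c0 ⟶ c1} (e1 : F.map f1 ≫ x = cα' ≫ y)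
    {w1 : D₃} {qa' : z3 ⟶ w1} {ni : w1 ⟶ c1} {nn : c1 ⟶ w1} (hn : ni ≫ nn = 𝟙 _)
    (e2 : x = F.map f2 ≫ f3' ≫ qa' ≫ ni) {qb' : w1 ⟶ z1} (hcx : qa ≫ qb = qa' ≫ qb') :
    F.map (f1 ≫ f2 ≫ q ≫ mi) ≫ F.map m ≫ f3 ≫ qb ≫ oi = cα' ≫ y ≫ nn ≫ qb' ≫ oi := by
  rw [← reassoc_of% e1, e2]
  simp only [Functor.map_comp, Category.assoc]
  rw [reassoc_of% hn, ← reassoc_of% hcx, ← reassoc_of% n1, ← F.map_comp_assoc mi, hm, F.map_id, Category.id_comp]

set_option backward.isDefEq.respectTransparency false in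
/-- The associativity law. -/
theorem compD_assoc (h : ∀ X : A, L₃.map (α.app X) ≫ β.app X = α'.app (L₁.obj X) ≫ β'.app X)
    (K : DerivedCategory A) :
    L₃.mapDerivedCategory.map ((compD α).app K) ≫ (compD β).app K =
      (compD α').app (L₁.mapDerivedCategory.obj K) ≫ (compD β').app K := by
  let τ₁ : (L₁.mapDerivedCategory ⋙ L₂.mapDerivedCategory) ⋙ L₃.mapDerivedCategory ⟶ O.mapDerivedCategory :=
    Functor.whiskerRight (compD α) L₃.mapDerivedCategory ≫ compD β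
  let τ₂ : (L₁.mapDerivedCategory ⋙ L₂.mapDerivedCategory) ⋙ L₃.mapDerivedCategory ⟶ O.mapDerivedCategory :=
    (Functor.associator _ _ _).hom ≫ Functor.whiskerLeft L₁.mapDerivedCategory (compD α') ≫ compD β'
  have key : τ₁ = τ₂ := by
    apply ext_Q
    intro K
    simp only [τ₁, τ₂, NatTrans.comp_app, Functor.whiskerRight_app, Functor.whiskerLeft_app,
      Functor.associator_hom_app, Category.id_comp]
    have hcx : (L₃.mapHomologicalComplex (.up ℤ)).map ((natCx α).app K) ≫ (natCx β).app K =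
        (natCx α').app ((L₁.mapHomologicalComplex (.up ℤ)).obj K) ≫ (natCx β').app K := by
      ext i
      exact h (K.X i)
    have hcx' := congrArg (fun x => DerivedCategory.Q.map x) hcx
    simp only [Functor.map_comp] at hcx'
    have e1 := (compD α').naturality (L₁.mapDerivedCategoryFactors.hom.app K)
    have e2 := compD_app α' ((L₁.mapHomologicalComplex (.up ℤ)).obj K)
    have n1 := L₃.mapDerivedCategoryFactors.hom.naturality ((natCx α).app K)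
    have := assoc_aux L₃.mapDerivedCategory (M.mapDerivedCategoryFactors.inv_hom_id_app K) n1
      (f1 := L₂.mapDerivedCategory.map (L₁.mapDerivedCategoryFactors.hom.app K))
      (f2 := L₂.mapDerivedCategoryFactors.hom.app ((L₁.mapHomologicalComplex (.up ℤ)).obj K))
      e1 (N.mapDerivedCategoryFactors.inv_hom_id_app _) e2 hcx' (oi := O.mapDerivedCategoryFactors.inv.app K)
    rw [compD_app α, compD_app β, compD_app β']
    exact this
  exact (congrArg (fun t => t.app K) key).trans (Category.id_comp _)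

end assoc

section single

variable {A : Type u₁} [Category.{v₁} A] [Abelian A] [HasDerivedCategory.{w₁} A]
  {B : Type u₂} [Category.{v₂} B] [Abelian B] [HasDerivedCategory.{w₂} B]
  {C : Type u₃} [Category.{v₃} C] [Abelian C] [HasDerivedCategory.{w₃} C]

/-- `F` as a complex in degree zero. -/
abbrev sgl {A : Type*} [Category* A] [Abelian A] (F : A) : CochainComplex A ℤ :=
  (HomologicalComplex.single A (.up ℤ) 0).obj F

/-- `G(F[0]) ≅ (G F)[0]` -/
def smc {A B : Type*} [Category* A] [Abelian A] [Category* B] [Abelian B] (G : A ⥤ B) [G.Additive] (F : A) :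
    (G.mapHomologicalComplex (.up ℤ)).obj (sgl F) ≅ sgl (G.obj F) :=
  (HomologicalComplex.singleMapHomologicalComplex G (.up ℤ) 0).app F

theorem smc_hom_f {A B : Type*} [Category* A] [Abelian A] [Category* B] [Abelian B] (G : A ⥤ B) [G.Additive]
    (F : A) : (smc G F).hom.f 0 = G.map (HomologicalComplex.singleObjXSelf (.up ℤ) 0 F).hom ≫
      (HomologicalComplex.singleObjXSelf (.up ℤ) 0 (G.obj F)).inv :=
  HomologicalComplex.singleMapHomologicalComplex_hom_app_self _ _ _ _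

theorem sgl_map_f {A : Type*} [Category* A] [Abelian A] {F F' : A} (φ : F ⟶ F') :
    ((HomologicalComplex.single A (.up ℤ) 0).map φ).f 0 = (HomologicalComplex.singleObjXSelf (.up ℤ) 0 F).hom ≫ φ ≫
      (HomologicalComplex.singleObjXSelf (.up ℤ) 0 F').inv :=
  HomologicalComplex.single_map_f_self _ _ _

/-- `F[0]` in the derived category. -/
abbrev S0 (F : A) : DerivedCategory A := (DerivedCategory.singleFunctor A 0).obj F

variable (L : A ⥤ B) [L.Additive] [PreservesFiniteLimits L] [PreservesFiniteColimits L]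

/-- `L(F[0]) ⟶ (L F)[0]` -/
def kap (F : A) : L.mapDerivedCategory.obj (S0 F) ⟶ S0 (L.obj F) :=
  (L.mapDerivedCategorySingleFunctor 0).hom.app F

instance (F : A) : IsIso (kap L F) := inferInstanceAs (IsIso ((L.mapDerivedCategorySingleFunctor 0).hom.app F))

theorem kap_eq (F : A) : kap L F = L.mapDerivedCategoryFactors.hom.app (sgl F) ≫
    DerivedCategory.Q.map (smc L F).hom := by
  have h := L.mapDerivedCategoryFactors_inv_app_mapDerivedCategorySingleFunctor_hom_app F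
  refine (Iso.inv_comp_eq (L.mapDerivedCategoryFactors.app (sgl F))).1 ?_
  exact h

theorem inv_aux {D : Type*} [Category* D] {a b c : D} (x : a ⟶ b) (y : b ⟶ c) (y' : c ⟶ b) (x' : b ⟶ a)
    (hy : y ≫ y' = 𝟙 _) (hx : x ≫ x' = 𝟙 _) (k : a ⟶ c) [IsIso k] (hk : k = x ≫ y) : inv k = y' ≫ x' := by
  apply IsIso.inv_eq_of_hom_inv_id
  rw [hk, Category.assoc, reassoc_of% hy, hx]

theorem inv_kap_eq (F : A) : inv (kap L F) = DerivedCategory.Q.map (smc L F).inv ≫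
    L.mapDerivedCategoryFactors.inv.app (sgl F) :=
  inv_aux (a := L.mapDerivedCategory.obj (S0 F)) (c := S0 (L.obj F)) (L.mapDerivedCategoryFactors.hom.app (sgl F))
    (DerivedCategory.Q.map (smc L F).hom) (DerivedCategory.Q.map (smc L F).inv)
    (L.mapDerivedCategoryFactors.inv.app (sgl F)) (DerivedCategory.Q.mapIso (smc L F)).hom_inv_id
    (L.mapDerivedCategoryFactors.hom_inv_id_app (sgl F)) (kap L F) (kap_eq L F)

@[reassoc]
theorem kap_nat {F F' : A} (φ : F ⟶ F') : L.mapDerivedCategory.map ((DerivedCategory.singleFunctor A 0).map φ) ≫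
    kap L F' = kap L F ≫ (DerivedCategory.singleFunctor B 0).map (L.map φ) :=
  (L.mapDerivedCategorySingleFunctor 0).hom.naturality φ

variable {L} {M : B ⥤ C} {N : A ⥤ C} [M.Additive] [PreservesFiniteLimits M] [PreservesFiniteColimits M]
  [N.Additive] [PreservesFiniteLimits N] [PreservesFiniteColimits N] (α : L ⋙ M ⟶ N)

theorem smc_aux {B C : Type*} [Category* B] [Category* C] (M : B ⥤ C) {x y z : B} {l : x ⟶ y} {li : y ⟶ z}
    {lh : z ⟶ y} (h₁ : li ≫ lh = 𝟙 _) {q r s t : C} {j : M.obj y ⟶ q} {k : q ⟶ M.obj y} (h₂ : j ≫ k = 𝟙 _)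
    {a : M.obj x ⟶ r} {n : r ⟶ s} {αF : M.obj y ⟶ s} (h : M.map l ≫ αF = a ≫ n) {i' : s ⟶ t} :
    a ≫ n ≫ i' = M.map (l ≫ li) ≫ (M.map lh ≫ j) ≫ k ≫ αF ≫ i' := by
  rw [← reassoc_of% h, M.map_comp]
  simp only [Category.assoc]
  rw [← M.map_comp_assoc li, h₁, M.map_id, Category.id_comp, reassoc_of% h₂]

theorem smc_comp (F : A) : (natCx α).app (sgl F) ≫ (smc N F).hom =
    (M.mapHomologicalComplex (.up ℤ)).map (smc L F).hom ≫ (smc M (L.obj F)).hom ≫
      (HomologicalComplex.single C (.up ℤ) 0).map (α.app F) := by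
  apply HomologicalComplex.to_single_hom_ext
  have h1 := α.naturality (HomologicalComplex.singleObjXSelf (.up ℤ) 0 F).hom
  have h2 := smc_aux M (Iso.inv_hom_id (HomologicalComplex.singleObjXSelf (.up ℤ) 0 (L.obj F)))
    (Iso.inv_hom_id (HomologicalComplex.singleObjXSelf (.up ℤ) 0 (M.obj (L.obj F)))) h1
    (i' := (HomologicalComplex.singleObjXSelf (.up ℤ) 0 (N.obj F)).inv)
  rw [HomologicalComplex.comp_f, HomologicalComplex.comp_f, HomologicalComplex.comp_f, smc_hom_f, smc_hom_f,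
    sgl_map_f, natCx_app_f]
  refine h2.trans ?_
  rw [← smc_hom_f]
  rfl

theorem kap_aux {D₂ D₃ : Type*} [Category* D₂] [Category* D₃] (F : D₂ ⥤ D₃) {a b c : D₂}
    {fL : a ⟶ b} {qL : b ⟶ c} {z0 z1 z2 z3 z4 : D₃} {fM : F.obj b ⟶ z0} {qa : z0 ⟶ z1} {ni : z1 ⟶ z2}
    {fN : z2 ⟶ z1} (hn : ni ≫ fN = 𝟙 _) {qN : z1 ⟶ z3} {fM' : F.obj c ⟶ z4} {qM : z0 ⟶ z4}
    (n : F.map qL ≫ fM' = fM ≫ qM) {z5 : D₃} {t₁ : z4 ⟶ z5} {t₂ : z5 ⟶ z3} (hc : qa ≫ qN = qM ≫ t₁ ≫ t₂) :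
    (F.map fL ≫ fM ≫ qa ≫ ni) ≫ fN ≫ qN = F.map (fL ≫ qL) ≫ (fM' ≫ t₁) ≫ t₂ := by
  rw [F.map_comp]
  simp only [Category.assoc]
  rw [reassoc_of% n, reassoc_of% hn, hc]

/-- `kap` and `compD`. -/
theorem kap_compD (F : A) : (compD α).app (S0 F) ≫ kap N F =
    M.mapDerivedCategory.map (kap L F) ≫ kap M (L.obj F) ≫
      (DerivedCategory.singleFunctor C 0).map (α.app F) := by
  have n := M.mapDerivedCategoryFactors.hom.naturality (smc L F).hom
  have hc := congrArg (fun x => DerivedCategory.Q.map x) (smc_comp α F)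
  simp only [Functor.map_comp] at hc
  have e := kap_aux M.mapDerivedCategory (fL := L.mapDerivedCategoryFactors.hom.app (sgl F))
    (N.mapDerivedCategoryFactors.inv_hom_id_app (sgl F)) n hc
  refine Eq.trans (congrArg₂ (fun a b => a ≫ b) (compD_app α (sgl F)) (kap_eq N F)) (e.trans ?_)
  rw [kap_eq L F, kap_eq M (L.obj F)]
  rfl

end single

section ups

variable {A : Type u₁} [Category.{v₁} A] [Abelian A] [HasDerivedCategory.{w₁} A] [HasKInj A]
  {B : Type u₂} [Category.{v₂} B] [Abelian B] [HasDerivedCategory.{w₂} B]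
  {A₂ : Type u₃} [Category.{v₃} A₂] [Abelian A₂] [HasDerivedCategory.{w₃} A₂] [HasKInj A₂]
  {B₂ : Type u₄} [Category.{v₄} B₂] [Abelian B₂] [HasDerivedCategory.{w₄} B₂]

/-- `(G F)[0] ⟶ RG(F[0])` -/
def ups (G : A ⥤ B) [G.Additive] (F : A) : S0 (G.obj F) ⟶ (TR G).obj (S0 F) :=
  DerivedCategory.Q.map (smc G F).inv ≫ (unitQ G).app (sgl F)

@[reassoc]
theorem ups_nat (G : A ⥤ B) [G.Additive] {F F' : A} (φ : F ⟶ F') :
    (DerivedCategory.singleFunctor B 0).map (G.map φ) ≫ ups G F' =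
      ups G F ≫ (TR G).map ((DerivedCategory.singleFunctor A 0).map φ) := by
  have h1 : DerivedCategory.Q.map ((HomologicalComplex.single B (.up ℤ) 0).map (G.map φ)) ≫
      DerivedCategory.Q.map (smc G F').inv = DerivedCategory.Q.map (smc G F).inv ≫
        DerivedCategory.Q.map ((G.mapHomologicalComplex (.up ℤ)).map
          ((HomologicalComplex.single A (.up ℤ) 0).map φ)) := by
    rw [← Functor.map_comp, ← Functor.map_comp]
    exact congrArg _ ((HomologicalComplex.singleMapHomologicalComplex G (.up ℤ) 0).inv.naturality φ)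
  have h2 := (unitQ G).naturality ((HomologicalComplex.single A (.up ℤ) 0).map φ)
  have h3 : DerivedCategory.Q.map ((HomologicalComplex.single B (.up ℤ) 0).map (G.map φ)) ≫
      DerivedCategory.Q.map (smc G F').inv ≫ (unitQ G).app (sgl F') =
      (DerivedCategory.Q.map (smc G F).inv ≫ (unitQ G).app (sgl F)) ≫
        (DerivedCategory.Q ⋙ TR G).map ((HomologicalComplex.single A (.up ℤ) 0).map φ) := by
    rw [reassoc_of% h1, Category.assoc]
    exact congrArg (DerivedCategory.Q.map (smc G F).inv ≫ ·) h2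
  exact h3

variable {G : A ⥤ B} [G.Additive] {G₂ : A₂ ⥤ B₂} [G₂.Additive]
  {E : A ⥤ A₂} [E.Additive] [PreservesFiniteLimits E] [PreservesFiniteColimits E]
  {L : B ⥤ B₂} [L.Additive] [PreservesFiniteLimits L] [PreservesFiniteColimits L]
  (bc : G ⋙ L ⟶ E ⋙ G₂)

theorem bc_aux {B B₂ A₂ : Type*} [Category* B] [Category* B₂] [Category* A₂] (L : B ⥤ B₂) (G : A₂ ⥤ B₂)
    {x x' x'' : B} {g : x ⟶ x'} {gi : x' ⟶ x''} {gh : x'' ⟶ x'} (h₁ : gi ≫ gh = 𝟙 _)
    {y y' y'' : A₂} {e : y ⟶ y'} {ei : y' ⟶ y''} {eh : y'' ⟶ y'} (h₂ : ei ≫ eh = 𝟙 _)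
    {b : L.obj x ⟶ G.obj y} {b' : L.obj x' ⟶ G.obj y'} (n : L.map g ≫ b' = b ≫ G.map e)
    {z : B₂} {zi : L.obj x' ⟶ z} {zh : z ⟶ L.obj x'} (h₃ : zi ≫ zh = 𝟙 _) {t : B₂} {k : G.obj y' ⟶ t} :
    b ≫ G.map (e ≫ ei) ≫ G.map eh ≫ k = L.map (g ≫ gi) ≫ (L.map gh ≫ zi) ≫ zh ≫ b' ≫ k := by
  rw [G.map_comp, L.map_comp]
  simp only [Category.assoc]
  rw [← G.map_comp_assoc ei, h₂, G.map_id, Category.id_comp, ← reassoc_of% n, ← L.map_comp_assoc gi, h₁, L.map_id,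
    Category.id_comp, reassoc_of% h₃]

theorem smc_bc (F : A) : (bcCx bc).app (sgl F) ≫ (G₂.mapHomologicalComplex (.up ℤ)).map (smc E F).hom ≫
      (smc G₂ (E.obj F)).hom =
    (L.mapHomologicalComplex (.up ℤ)).map (smc G F).hom ≫ (smc L (G.obj F)).hom ≫
      (HomologicalComplex.single B₂ (.up ℤ) 0).map (bc.app F) := by
  apply HomologicalComplex.to_single_hom_ext
  have h1 := bc.naturality (HomologicalComplex.singleObjXSelf (.up ℤ) 0 F).hom
  have h2 := bc_aux L G₂ (Iso.inv_hom_id (HomologicalComplex.singleObjXSelf (.up ℤ) 0 (G.obj F)))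
    (Iso.inv_hom_id (HomologicalComplex.singleObjXSelf (.up ℤ) 0 (E.obj F))) h1
    (Iso.inv_hom_id (HomologicalComplex.singleObjXSelf (.up ℤ) 0 (L.obj (G.obj F))))
    (k := (HomologicalComplex.singleObjXSelf (.up ℤ) 0 (G₂.obj (E.obj F))).inv)
  change bc.app _ ≫ G₂.map ((smc E F).hom.f 0) ≫ (smc G₂ (E.obj F)).hom.f 0 = L.map ((smc G F).hom.f 0) ≫
    (smc L (G.obj F)).hom.f 0 ≫ ((HomologicalComplex.single B₂ (.up ℤ) 0).map (bc.app F)).f 0
  rw [smc_hom_f, smc_hom_f, smc_hom_f, smc_hom_f, sgl_map_f]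
  exact h2

theorem bc'_aux {C : Type*} [Category* C] {x y z t u v : C} {li : x ⟶ y} {l : y ⟶ x} (hl : li ≫ l = 𝟙 _)
    {b : y ⟶ z} {g : z ⟶ t} {gi : t ⟶ z} (hg : g ≫ gi = 𝟙 _) {s : t ⟶ u} {si : u ⟶ t} (hs : s ≫ si = 𝟙 _)
    {r₁ : x ⟶ v} {r₂ : v ⟶ u} (h : b ≫ g ≫ s = l ≫ r₁ ≫ r₂) : li ≫ b = r₁ ≫ r₂ ≫ si ≫ gi := by
  have h2 : b = (b ≫ g ≫ s) ≫ si ≫ gi := by
    simp only [Category.assoc]
    rw [reassoc_of% hs, hg, Category.comp_id]
  rw [h2, h]
  simp only [Category.assoc]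
  rw [reassoc_of% hl]

theorem smc_bc' (F : A) : (L.mapHomologicalComplex (.up ℤ)).map (smc G F).inv ≫ (bcCx bc).app (sgl F) =
    (smc L (G.obj F)).hom ≫ (HomologicalComplex.single B₂ (.up ℤ) 0).map (bc.app F) ≫
      (smc G₂ (E.obj F)).inv ≫ (G₂.mapHomologicalComplex (.up ℤ)).map (smc E F).inv :=
  bc'_aux ((L.mapHomologicalComplex (.up ℤ)).mapIso (smc G F)).inv_hom_id
    ((G₂.mapHomologicalComplex (.up ℤ)).mapIso (smc E F)).hom_inv_id (smc G₂ (E.obj F)).hom_inv_id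
    (smc_bc bc F)

theorem ups_aux {D₁ D₂ D₃ : Type*} [Category* D₁] [Category* D₂] [Category* D₃] (L : D₁ ⥤ D₃) (T : D₂ ⥤ D₃)
    {a b c : D₁} {si : a ⟶ b} {u : b ⟶ c} {z z0 z1 z2 : D₃} {β : L.obj c ⟶ z} {fL : L.obj b ⟶ z0} {qb : z0 ⟶ z1}
    {x1 x2 x3 : D₂} {u2 : z1 ⟶ T.obj x1} {fEi : x1 ⟶ x2} {t : T.obj x2 ⟶ z} (fac : L.map u ≫ β = fL ≫ qb ≫ u2 ≫ T.map fEi ≫ t)
    {fL' : L.obj a ⟶ z2} {qL : z2 ⟶ z0} (n : L.map si ≫ fL = fL' ≫ qL) {z3 z4 z5 : D₃}
    {s1 : z2 ⟶ z3} {s2 : z3 ⟶ z4} {s3 : z4 ⟶ z5} {s4 : z5 ⟶ z1} (hc : qL ≫ qb = s1 ≫ s2 ≫ s3 ≫ s4)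
    {u2' : z5 ⟶ T.obj x3} {e : x3 ⟶ x1} (nu : s4 ≫ u2 = u2' ≫ T.map e) :
    L.map (si ≫ u) ≫ β = (fL' ≫ s1) ≫ s2 ≫ (s3 ≫ u2') ≫ T.map (e ≫ fEi) ≫ t := by
  rw [L.map_comp, T.map_comp]
  simp only [Category.assoc]
  rw [fac, reassoc_of% n, reassoc_of% hc, reassoc_of% nu]

/-- **`ups` and `bcD`.** -/
theorem bcD_ups (F : A) : L.mapDerivedCategory.map (ups G F) ≫ (bcD bc).app (S0 F) =
    kap L (G.obj F) ≫ (DerivedCategory.singleFunctor B₂ 0).map (bc.app F) ≫ ups G₂ (E.obj F) ≫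
      (TR G₂).map (inv (kap E F)) := by
  have fac := bcD_fac bc (sgl F)
  have n := L.mapDerivedCategoryFactors.hom.naturality (smc G F).inv
  have hc := congrArg (fun x => DerivedCategory.Q.map x) (smc_bc' bc F)
  simp only [Functor.map_comp] at hc
  have nu := (unitQ G₂).naturality (smc E F).inv
  have e := ups_aux L.mapDerivedCategory (TR G₂) (t := 𝟙 _) (by rw [Category.comp_id]; exact fac) n hc nu
  rw [Category.comp_id] at e
  rw [kap_eq L (G.obj F), inv_kap_eq E F]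
  exact e

end ups

end K558.DAbs
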