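import Groth.Agent.Sga4h.RPairDer
import Groth.Agent.Dcoh.MapDer

/-!
# Base change and shifts

For a square of inverse image functors and universal pairs, the base change map of `K⟦n⟧` is isomorphic to the
`n`-th shift of that of `K` (`exists_arrow_iso`); `isIso_homology_bcD_iff`.
-/

set_option autoImplicit false
set_option linter.unusedSectionVars false

universe v₁ v₂ v₃ v₄ u₁ u₂ u₃ u₄ w₁ w₂ w₃ w₄
open CategoryTheory CategoryTheory.Limits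

noncomputable section
namespace K558.DShBC

open Groth.Agent.Sga4h.RPair Groth.Agent.Etrest.RDer2 Groth.Agent.Etrest.RDer3 Groth.Agent.Etrest.RDer4
  Groth.Agent.Etrest.RDer5

section gen

variable {A : Type u₁} [Category.{v₁} A] {B : Type u₂} [Category.{v₂} B]
  {A' : Type u₃} [Category.{v₃} A'] {B' : Type u₄} [Category.{v₄} B']
  [HasShift A ℤ] [HasShift B ℤ] [HasShift A' ℤ] [HasShift B' ℤ]
  {Φ : A ⥤ B} {G : A ⥤ A'} {G' : B ⥤ B'} {Φ' : A' ⥤ B'}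
  [Φ.CommShift ℤ] [G.CommShift ℤ] [G'.CommShift ℤ] [Φ'.CommShift ℤ]
  (s : Sq Φ G G' Φ') [NatTrans.CommShift s.σ.hom ℤ]

theorem bc_shiftPair' {M : A} {K : B} (ε : Φ.obj M ⟶ K) (n : ℤ) :
    Φ'.map ((G.commShiftIso n).hom.app M) ≫ shiftPair Φ' (s.bc ε) n =
      s.bc (shiftPair Φ ε n) ≫ (G'.commShiftIso n).hom.app K := by
  have h1 := NatTrans.shift_app_comm s.σ.hom n M
  have h2 := (G'.commShiftIso n).hom.naturality ε
  dsimp at h2
  simp only [Sq.bc, shiftPair, Functor.map_comp, Category.assoc, h2]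
  rw [Functor.commShiftIso_comp_hom_app, Functor.commShiftIso_comp_hom_app] at h1
  simp only [Category.assoc] at h1
  rw [reassoc_of% h1]

theorem shiftPair_comp {M N : A'} {K : B'} (β : M ⟶ N) (ε : Φ'.obj N ⟶ K) (n : ℤ) :
    Φ'.map (β⟦n⟧') ≫ shiftPair Φ' ε n = shiftPair Φ' (Φ'.map β ≫ ε) n := by
  have h := (Φ'.commShiftIso n).hom.naturality β
  dsimp at h
  simp only [shiftPair, Functor.map_comp]
  rw [reassoc_of% h]

/-- The base change map of `K⟦n⟧` is isomorphic to the shift of that of `K`. -/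
theorem exists_arrow_iso {M : A} {K : B} {ε : Φ.obj M ⟶ K} (hε : IsUniv Φ ε) {M₂ : A'} {ε₂ : Φ'.obj M₂ ⟶ G'.obj K}
    (hε₂ : IsUniv Φ' ε₂) {β : G.obj M ⟶ M₂} (hβ : Φ'.map β ≫ ε₂ = s.bc ε) (n : ℤ)
    {N : A} {δ : Φ.obj N ⟶ K⟦n⟧} (hδ : IsUniv Φ δ) {N₂ : A'} {δ₂ : Φ'.obj N₂ ⟶ G'.obj (K⟦n⟧)}
    (hδ₂ : IsUniv Φ' δ₂) {γ : G.obj N ⟶ N₂} (hγ : Φ'.map γ ≫ δ₂ = s.bc δ) :
    Nonempty (Arrow.mk (β⟦n⟧') ≅ Arrow.mk γ) := by
  have u₂ : IsUniv Φ' (shiftPair Φ' ε₂ n ≫ ((G'.commShiftIso n).inv.app K)) :=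
    (hε₂.shift n).of_iso (Iso.refl _) ((G'.commShiftIso n).symm.app K) _ (by simp)
  let σ : M⟦n⟧ ≅ N := (hε.shift n).iso hδ
  let σ₂ : M₂⟦n⟧ ≅ N₂ := u₂.iso hδ₂
  have h1 : Φ.map σ.hom ≫ δ = shiftPair Φ ε n := (hε.shift n).iso_hom_fac hδ
  have h2 : Φ'.map σ₂.hom ≫ δ₂ = shiftPair Φ' ε₂ n ≫ ((G'.commShiftIso n).inv.app K) := u₂.iso_hom_fac hδ₂
  have key : G.map σ.hom ≫ γ = (G.commShiftIso n).hom.app M ≫ β⟦n⟧' ≫ σ₂.hom := by
    apply hδ₂.hom_ext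
    have e1 := s.bc_naturality σ.hom (𝟙 _) (ε := shiftPair Φ ε n) (ε₁ := δ) (by rw [h1, Category.comp_id])
    have e2 := shiftPair_comp (Φ' := Φ') β ε₂ n
    have e3 := bc_shiftPair' s ε n
    simp only [Functor.map_comp, Category.assoc]
    rw [hγ, h2, e1, reassoc_of% e2, hβ, reassoc_of% e3, CategoryTheory.Functor.map_id, Category.comp_id]
    simp
  refine ⟨Arrow.isoMk ((G.commShiftIso n).symm.app M ≪≫ G.mapIso σ) σ₂ ?_⟩
  change ((G.commShiftIso n).inv.app M ≫ G.map σ.hom) ≫ γ = β⟦n⟧' ≫ σ₂.hom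
  rw [Category.assoc, key]
  simp

end gen

theorem isIso_H0_shift_iff {A : Type u₁} [Category.{v₁} A] [Abelian A] [HasDerivedCategory.{w₁} A]
    {P Q : DerivedCategory A} (φ : P ⟶ Q) (n : ℤ) :
    IsIso ((DerivedCategory.homologyFunctor A 0).map (φ⟦n⟧')) ↔
      IsIso ((DerivedCategory.homologyFunctor A n).map φ) :=
  NatIso.isIso_map_iff ((DerivedCategory.homologyFunctor A 0).shiftIso n 0 n (by simp)) φ

section der

variable {A : Type u₁} [Category.{v₁} A] [Abelian A] [HasDerivedCategory.{w₁} A]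
  {B : Type u₂} [Category.{v₂} B] [Abelian B] [HasDerivedCategory.{w₂} B]
  {A₂ : Type u₃} [Category.{v₃} A₂] [Abelian A₂] [HasDerivedCategory.{w₃} A₂]
  {B₂ : Type u₄} [Category.{v₄} B₂] [Abelian B₂] [HasDerivedCategory.{w₄} B₂]
  {L : B ⥤ A} [L.Additive] [PreservesFiniteLimits L] [PreservesFiniteColimits L]
  {L₂ : B₂ ⥤ A₂} [L₂.Additive] [PreservesFiniteLimits L₂] [PreservesFiniteColimits L₂]
  {E : A ⥤ A₂} [E.Additive] [PreservesFiniteLimits E] [PreservesFiniteColimits E]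
  {E' : B ⥤ B₂} [E'.Additive] [PreservesFiniteLimits E'] [PreservesFiniteColimits E']
  [HasKInj A] {G : A ⥤ B} [G.Additive] (adj : L ⊣ G)
  [HasKInj A₂] {G₂ : A₂ ⥤ B₂} [G₂.Additive] (adj₂ : L₂ ⊣ G₂) (c : E' ⋙ L₂ ≅ L ⋙ E)

theorem nonempty_arrow_iso (K : DerivedCategory A) (n : ℤ) :
    Nonempty (Arrow.mk (((bcD (mate adj adj₂ c.hom)).app K)⟦n⟧') ≅
      Arrow.mk ((bcD (mate adj adj₂ c.hom)).app (K⟦n⟧))) := by
  rw [bcD_mate]
  exact exists_arrow_iso (sq c) (isUniv_TR adj K) (isUniv_TR adj₂ (E.mapDerivedCategory.obj K))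
    (mate_counit (dAdj adj) (dAdj adj₂) (cD c.hom) K) n (isUniv_TR adj (K⟦n⟧))
    (isUniv_TR adj₂ (E.mapDerivedCategory.obj (K⟦n⟧))) (mate_counit (dAdj adj) (dAdj adj₂) (cD c.hom) (K⟦n⟧))

theorem isIso_homology_bcD_iff (K : DerivedCategory A) (n : ℤ) :
    IsIso ((DerivedCategory.homologyFunctor B₂ 0).map ((bcD (mate adj adj₂ c.hom)).app (K⟦n⟧))) ↔
      IsIso ((DerivedCategory.homologyFunctor B₂ n).map ((bcD (mate adj adj₂ c.hom)).app K)) := by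
  obtain ⟨e⟩ := nonempty_arrow_iso adj adj₂ c K n
  rw [← isIso_H0_shift_iff _ n]
  exact ((MorphismProperty.isomorphisms _).arrow_mk_iso_iff
    ((DerivedCategory.homologyFunctor B₂ 0).mapArrow.mapIso e)).symm

end der

end K558.DShBC
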