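import Groth.Agent.EtBC.K558.DEps
import Groth.Agent.EtBC.K558.DShBC

/-!
# The stalk criterion for derived base change maps

* `dl w ξ ζ hζ v v' hv K : (H^0 Rf_* v⁻¹ K)_ζ ⟶ (H^0 Rf'_* v'⁻¹ K)_ξ`, `dl_dl` (composition law);
* `isIso_dl_iff` : it is an isomorphism iff `H^0` of the base change map is one at `ξ`;
* `isIso_bcEt_of_dl`, `isIso_dl_of_bcEt`.
-/

set_option autoImplicit false
universe u w v₁ v₂ v₃ v₄ v₅ u₁ u₂ u₃ u₄ u₅ w₁ w₂ w₃ w₄ w₅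
open CategoryTheory CategoryTheory.Limits AlgebraicGeometry Opposite Abelian

noncomputable section
namespace K558.DCrit

open Groth.Agent Groth.Agent.Etrest Groth.Agent.Etrest.RDer2 Groth.Agent.Etrest.RDer3
  Groth.Agent.Etrest.RDer4 Groth.Agent.Etrest.RDer5 Groth.Agent.Etrest.DEtPush K558.DAbs K558.DTh K558.DDelta K558.DJj
  K558.DTrans K558.DGam K558.DSpi K558.DELam K558.DEps K2.PasteAbs Groth.Agent.Etcore.PullCoh

section abs

variable {A : Type u₁} [Category.{v₁} A] [Abelian A] [HasDerivedCategory.{w₁} A] [HasKInj A]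
  {B : Type u₂} [Category.{v₂} B] [Abelian B] [HasDerivedCategory.{w₂} B]
  {P : Type u₃} [Category.{v₃} P] [Abelian P] [HasDerivedCategory.{w₃} P]
  {st : P ⥤ AddCommGrpCat.{w}}
  {A₂ : Type u₄} [Category.{v₄} A₂] [Abelian A₂] [HasDerivedCategory.{w₄} A₂] [HasKInj A₂]
  {B₂ : Type u₅} [Category.{v₅} B₂] [Abelian B₂] [HasDerivedCategory.{w₅} B₂]
  {G : A ⥤ B} [G.Additive] {G₂ : A₂ ⥤ B₂} [G₂.Additive]
  {K : A ⥤ A₂} [K.Additive] [PreservesFiniteLimits K] [PreservesFiniteColimits K]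
  {L : B ⥤ B₂} [L.Additive] [PreservesFiniteLimits L] [PreservesFiniteColimits L]
  {X : B₂ ⥤ P} [X.Additive] [PreservesFiniteLimits X] [PreservesFiniteColimits X]
  {Z : B ⥤ P} [Z.Additive] [PreservesFiniteLimits Z] [PreservesFiniteColimits Z]
  (bc : G ⋙ L ⟶ K ⋙ G₂) (θ : L ⋙ X ⟶ Z) [IsIso θ]

theorem isIso_mid {C D : Type*} [Category* C] [Category* D] (XD : C ⥤ D) {a : D} {x y z : C} (t : a ⟶ XD.obj x)
    [IsIso t] (b : x ⟶ y) (k : y ⟶ z) [IsIso k] : IsIso (t ≫ XD.map (b ≫ k)) ↔ IsIso (XD.map b) := by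
  have h : XD.map b = inv t ≫ (t ≫ XD.map (b ≫ k)) ≫ XD.map (inv k) := by
    rw [Category.assoc, IsIso.inv_hom_id_assoc, ← XD.map_comp, Category.assoc, IsIso.hom_inv_id, Category.comp_id]
  constructor
  · intro h1
    rw [h]
    infer_instance
  · intro h1
    rw [XD.map_comp]
    infer_instance

theorem isIso_ThA_iff {M : DerivedCategory A} {M' : DerivedCategory A₂} (β : K.mapDerivedCategory.obj M ⟶ M')
    [IsIso β] : IsIso (ThA (st := st) bc θ β) ↔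
      IsIso (st.map (X.map ((DerivedCategory.homologyFunctor B₂ 0).map ((bcD bc).app M)))) := by
  have h1 : IsIso (ThA (st := st) bc θ β) ↔ IsIso ((gamA st).map (X.mapDerivedCategory.map ((bcD bc).app M))) := by
    have h2 := isIso_mid (X.mapDerivedCategory ⋙ gamA st) ((gamA st).map (inv ((compD θ).app ((TR G).obj M))))
      ((bcD bc).app M) ((TR G₂).map β)
    refine Iff.trans ?_ h2
    unfold ThA
    rw [Functor.map_comp (gamA st)]
    rfl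
  refine h1.trans ?_
  have h3 := NatIso.isIso_map_iff (Functor.isoWhiskerRight (Groth.Agent.Dcoh.MapDer.homologyMapDer X 0) st)
    ((bcD bc).app M)
  exact h3

end abs

attribute [local instance] HasDerivedCategory.standard

variable {Ω : Type u} [Field Ω] [IsSepClosed Ω] {X S X' S' X'' S'' T₀ : Scheme.{u}}

section dl

variable {f : X ⟶ S} {s : S' ⟶ S} {f' : X' ⟶ S'} {u' : X' ⟶ X}

/-- The base change map on stalks, for inverse images of an object on `T₀`. -/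
def dl (w : u' ≫ f = f' ≫ s) (ξ : pt Ω ⟶ S') (ζ : pt Ω ⟶ S) (hζ : ξ ≫ s = ζ) (v : X ⟶ T₀) (v' : X' ⟶ T₀)
    (hv : u' ≫ v = v') (K : DCoh.DEt T₀) :
    (GD f ζ).obj ((pullD v).obj K) ⟶ (GD f' ξ).obj ((pullD v').obj K) :=
  DLam w ξ ζ hζ ((thD u' v v' hv).app K)

/-- The composition law. -/
theorem dl_dl {s' : S'' ⟶ S'} {s'' : S'' ⟶ S} {f'' : X'' ⟶ S''} {u'' : X'' ⟶ X'} {uu : X'' ⟶ X}
    (w : u' ≫ f = f' ≫ s) (w' : u'' ≫ f' = f'' ≫ s') (w'' : uu ≫ f = f'' ≫ s'')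
    (hu : u'' ≫ u' = uu) (hs : s' ≫ s = s'') (ξ : pt Ω ⟶ S'') (ξ' : pt Ω ⟶ S') (ζ : pt Ω ⟶ S)
    (h' : ξ ≫ s' = ξ') (h : ξ' ≫ s = ζ) (h'' : ξ ≫ s'' = ζ) (v : X ⟶ T₀) (v' : X' ⟶ T₀) (v'' : X'' ⟶ T₀)
    (hv : u' ≫ v = v') (hv' : u'' ≫ v' = v'') (hv'' : uu ≫ v = v'') (K : DCoh.DEt T₀) :
    dl w ξ' ζ h v v' hv K ≫ dl w' ξ ξ' h' v' v'' hv' K = dl w'' ξ ζ h'' v v'' hv'' K := by
  refine DLam_DLam w w' w'' hu hs ξ ξ' ζ h' h h'' ?_
  exact (thD_assoc u'' u' v uu v' v'' hu hv hv' hv'' K).symm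

theorem isIso_dl_iff (w : u' ≫ f = f' ≫ s) (ξ : pt Ω ⟶ S') (ζ : pt Ω ⟶ S) (hζ : ξ ≫ s = ζ) (v : X ⟶ T₀)
    (v' : X' ⟶ T₀) (hv : u' ≫ v = v') (K : DCoh.DEt T₀) : IsIso (dl w ξ ζ hζ v v' hv K) ↔
      IsIso ((EtCoh.stalk ξ).map ((DerivedCategory.homologyFunctor (EtCoh.Ab S') 0).map
        ((bcEt w).app ((pullD v).obj K)))) := by
  have h1 : IsIso ((thD u' v v' hv).app K) := inferInstance
  have h2 := isIso_ThA_iff (st := stk Ω) (EtpbcB.BCCalc.bcNat w) (theta ξ s ζ hζ).hom ((thD u' v v' hv).app K)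
  refine h2.trans ?_
  exact (NatIso.isIso_map_iff (spi ξ (𝟙 _) ξ (Category.id_comp ξ)) _).symm

end dl

section bcEt

variable {f : X ⟶ S} {s : S' ⟶ S} {f' : X' ⟶ S'} {u' : X' ⟶ X} (w : u' ≫ f = f' ≫ s)

theorem isIso_homology_bcEt_iff (K : DCoh.DEt X) (n : ℤ) :
    IsIso ((DerivedCategory.homologyFunctor (EtCoh.Ab S') 0).map ((bcEt w).app (K⟦n⟧))) ↔
      IsIso ((DerivedCategory.homologyFunctor (EtCoh.Ab S') n).map ((bcEt w).app K)) := by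
  have h := K558.DShBC.isIso_homology_bcD_iff (EtCoh.pullPushAdj f) (EtCoh.pullPushAdj f')
    (Groth.Agent.Etrest.DEtMate.cmp w) K n
  rw [← Groth.Agent.Etrest.DEtMate.bcNat_eq_mate] at h
  exact h

theorem isIso_bcEt_iff_nat {K L : DCoh.DEt X} (e : K ≅ L) {C : Type*} [Category* C] (H : DCoh.DEt S' ⥤ C) :
    IsIso (H.map ((bcEt w).app K)) ↔ IsIso (H.map ((bcEt w).app L)) := by
  have a : Arrow.mk ((bcEt w).app K) ≅ Arrow.mk ((bcEt w).app L) :=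
    Arrow.isoMk ((pushD f ⋙ pullD s).mapIso e) ((pullD u' ⋙ pushD f').mapIso e) ((bcEt w).naturality e.hom)
  exact (MorphismProperty.isomorphisms _).arrow_mk_iso_iff (H.mapArrow.mapIso a)

/-- `IsIso` of the base change map for `v⁻¹ K` in terms of `dl`. -/
theorem isIso_bcEt_iff_dl (v : X ⟶ T₀) (v' : X' ⟶ T₀) (hv : u' ≫ v = v') (K : DCoh.DEt T₀) :
    IsIso ((bcEt w).app ((pullD v).obj K)) ↔ ∀ (n : ℤ) (Ω : Type u) [Field Ω] [IsSepClosed Ω] (ξ : pt Ω ⟶ S')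
      (ζ : pt Ω ⟶ S) (hζ : ξ ≫ s = ζ), IsIso (dl w ξ ζ hζ v v' hv (K⟦n⟧)) := by
  have key : ∀ n : ℤ, (IsIso ((DerivedCategory.homologyFunctor (EtCoh.Ab S') n).map
      ((bcEt w).app ((pullD v).obj K)))) ↔ IsIso ((DerivedCategory.homologyFunctor (EtCoh.Ab S') 0).map
      ((bcEt w).app ((pullD v).obj (K⟦n⟧)))) := fun n =>
    (isIso_homology_bcEt_iff w ((pullD v).obj K) n).symm.trans
      (isIso_bcEt_iff_nat w (((pullD v).commShiftIso n).app K).symm _)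
  constructor
  · intro h n Ω _ _ ξ ζ hζ
    rw [isIso_dl_iff]
    have h1 := (key n).1 inferInstance
    infer_instance
  · intro h
    rw [DerivedCategory.isIso_iff]
    intro n
    rw [key, Etcore.Stalks.isIso_iff_stalks]
    intro Ω _ _ ξ
    exact (isIso_dl_iff w ξ (ξ ≫ s) rfl v v' hv (K⟦n⟧)).1 (h n Ω ξ (ξ ≫ s) rfl)

end bcEt

end K558.DCrit
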