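import Groth.Agent.Localalg.DeltaFun
import Mathlib.Algebra.Category.Grp.Abelian
import Mathlib.Algebra.Homology.ShortComplex.Ab

/-!
# Delta functors which are directed colimits of effaceable ones

`Data T R`: a family of effaceable delta functors `T i` with values in abelian groups, refinement maps
`res : DeltaHom (T i) (T j)`, and in degree zero a jointly surjective family `T i 0 → R 0` whose kernels are the
classes dying on a refinement (`R` effaceable).  Then the canonical extensions `rho i : DeltaHom (T i) R` have the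
same property in all degrees (`Data.main`).
-/

set_option autoImplicit false
universe w v u u' w'

open CategoryTheory CategoryTheory.Limits Groth.Agent.Localalg.DeltaFun

namespace K558.RhoAbs

/-- Composition of morphisms of delta functors. -/
def comp {C : Type*} [Category* C] [Abelian C] {D : Type*} [Category* D] [Abelian D]
    {T T' T'' : DeltaFunctor C D} (Φ : DeltaHom T T') (Ψ : DeltaHom T' T'') : DeltaHom T T'' where
  app n := Φ.app n ≫ Ψ.app n
  comm hS n := by
    rw [NatTrans.comp_app, NatTrans.comp_app, Category.assoc, Ψ.comm hS n, ← Category.assoc, Φ.comm hS n,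
      Category.assoc]

theorem nat_apply {C : Type*} [Category* C] [Abelian C] {T R : DeltaFunctor C AddCommGrpCat.{w}}
    (Φ : DeltaHom T R) (n : ℕ) {F G : C} (φ : F ⟶ G) (c : (T.T n).obj F) :
    ((Φ.app n).app G).hom (((T.T n).map φ).hom c) = ((R.T n).map φ).hom (((Φ.app n).app F).hom c) :=
  ConcreteCategory.congr_hom ((Φ.app n).naturality φ) c

theorem conj_apply {C : Type*} [Category* C] {D : Type*} [Category* D] (G : C ⥤ D) (P : D ⥤ AddCommGrpCat.{w})
    {A B : C} (e : A ≅ B) {Y Z : D} (b : G.obj B ⟶ Y) (z : Y ⟶ Z) (t : G.obj A ⟶ Z)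
    (ht : t = G.map e.hom ≫ b ≫ z) (x : P.obj (G.obj B)) :
    (P.map t).hom ((P.map (G.map e.inv)).hom x) = (P.map z).hom ((P.map b).hom x) := by
  have h : P.map (G.map e.inv) ≫ P.map t = P.map b ≫ P.map z := by
    rw [ht, ← P.map_comp, ← P.map_comp, ← Category.assoc, ← G.map_comp, e.inv_hom_id, G.map_id, Category.id_comp]
  exact ConcreteCategory.congr_hom h x

/-- Uniqueness of morphisms into `P ∘ R ∘ L`, for the two ways of writing this composition. -/
theorem assoc_ext {C : Type*} [Category* C] [Abelian C] [EnoughInjectives C] {A : Type*} [Category* A] [Abelian A]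
    {B : Type*} [Category* B] [Abelian B] {D : Type*} [Category* D] [Abelian D]
    {T : DeltaFunctor C D} (hT : T.Effaceable) (R : DeltaFunctor A B) (L : C ⥤ A) [L.Additive]
    [PreservesFiniteLimits L] [PreservesFiniteColimits L] (P : B ⥤ D) [P.Additive]
    [PreservesFiniteLimits P] [PreservesFiniteColimits P]
    (Φ : DeltaHom T ((R.postcomp P).precomp L)) (Ψ : DeltaHom T ((R.precomp L).postcomp P))
    (h : ∀ F, (Φ.app 0).app F = (Ψ.app 0).app F) (n : ℕ) (F : C) : (Φ.app n).app F = (Ψ.app n).app F := by
  have h1 := DeltaHom.ext_zero hT Φ (show DeltaHom T ((R.postcomp P).precomp L) from Ψ)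
    (by ext F; exact h F) n
  rw [h1]

variable {C : Type u} [Category.{v} C] [Abelian C] {I : Type u'}
  (T : I → DeltaFunctor C AddCommGrpCat.{w}) (R : DeltaFunctor C AddCommGrpCat.{w})

/-- A directed system of effaceable delta functors over `R`. -/
structure Data where
  hT : ∀ i, (T i).Effaceable
  hR : R.Effaceable
  /-- refinements -/
  Ref : I → I → Type w'
  /-- restriction -/
  res : ∀ {i j : I}, Ref i j → DeltaHom (T i) (T j)
  dir : ∀ i j : I, ∃ k, Nonempty (Ref i k) ∧ Nonempty (Ref j k)
  res_comp : ∀ {i j k : I} (a : Ref i j) (b : Ref j k), ∃ c : Ref i k, ∀ n,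
    (res c).app n = (res a).app n ≫ (res b).app n
  /-- degree zero -/
  φ : ∀ i, (T i).T 0 ⟶ R.T 0
  hφ : ∀ {i j : I} (a : Ref i j), (res a).app 0 ≫ φ j = φ i
  surj : ∀ (F : C) (z : (R.T 0).obj F), ∃ (i : I) (c : ((T i).T 0).obj F), ((φ i).app F).hom c = z
  ker : ∀ (F : C) (i : I) (c : ((T i).T 0).obj F), ((φ i).app F).hom c = 0 →
    ∃ (j : I) (a : Ref i j), (((res a).app 0).app F).hom c = 0

namespace Data

variable {T R} (D : Data.{w, v, u, u', w'} T R) [EnoughInjectives C]

theorem exists_rho (i : I) : ∃ Φ : DeltaHom (T i) R, Φ.app 0 = D.φ i :=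
  exists_deltaHom _ _ (D.hT i) _

/-- The canonical extension of `φ i` to all degrees. -/
noncomputable def rho (i : I) : DeltaHom (T i) R := (D.exists_rho i).choose

theorem rho_zero (i : I) : (D.rho i).app 0 = D.φ i := (D.exists_rho i).choose_spec

theorem rho_res {i j : I} (a : D.Ref i j) (n : ℕ) : (D.res a).app n ≫ (D.rho j).app n = (D.rho i).app n := by
  refine DeltaHom.ext_zero (D.hT i) (comp (D.res a) (D.rho j)) (D.rho i) ?_ n
  change (D.res a).app 0 ≫ (D.rho j).app 0 = _
  rw [rho_zero, rho_zero, D.hφ]

theorem rho_res_apply {i j : I} (a : D.Ref i j) (n : ℕ) (F : C) (c : ((T i).T n).obj F) :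
    (((D.rho j).app n).app F).hom ((((D.res a).app n).app F).hom c) = (((D.rho i).app n).app F).hom c :=
  ConcreteCategory.congr_hom (NatTrans.congr_app (D.rho_res a n) F) c

theorem main (n : ℕ) : ∀ F : C,
    (∀ z : (R.T n).obj F, ∃ (i : I) (c : ((T i).T n).obj F), (((D.rho i).app n).app F).hom c = z) ∧
    (∀ (i : I) (c : ((T i).T n).obj F), (((D.rho i).app n).app F).hom c = 0 →
      ∃ (j : I) (a : D.Ref i j), (((D.res a).app n).app F).hom c = 0) := by
  induction n with
  | zero =>
    intro F
    refine ⟨fun z => ?_, fun i c hc => ?_⟩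
    · obtain ⟨i, c, h⟩ := D.surj F z
      exact ⟨i, c, by rw [rho_zero]; exact h⟩
    · rw [rho_zero] at hc
      exact D.ker F i c hc
  | succ n ih =>
    intro F
    have hA := injSES_shortExact F
    have hJ : Injective (injSES F).X₂ := inferInstanceAs (Injective (Injective.under F))
    refine ⟨fun z => ?_, fun i c hc => ?_⟩
    · have h1 : ((R.T (n + 1)).map (injSES F).f).hom z = 0 :=
        ConcreteCategory.congr_hom ((D.hR (injSES F).X₂ n).eq_of_tgt ((R.T (n + 1)).map (injSES F).f) 0) z
      obtain ⟨y, hy⟩ := (ShortComplex.ab_exact_iff _).1 (R.exact₁ hA n) z h1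
      obtain ⟨i, c, rfl⟩ := (ih _).1 y
      exact ⟨i, ((T i).δ hA n).hom c, (ConcreteCategory.congr_hom ((D.rho i).comm hA n) c).symm.trans hy⟩
    · have h1 : (((T i).T (n + 1)).map (injSES F).f).hom c = 0 :=
        ConcreteCategory.congr_hom ((D.hT i (injSES F).X₂ n).eq_of_tgt (((T i).T (n + 1)).map (injSES F).f) 0) c
      obtain ⟨c', hc'⟩ := (ShortComplex.ab_exact_iff _).1 ((T i).exact₁ hA n) c h1
      have h2 : (R.δ hA n).hom ((((D.rho i).app n).app (injSES F).X₃).hom c') = 0 := by
        refine (ConcreteCategory.congr_hom ((D.rho i).comm hA n) c').trans ?_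
        exact (congrArg (((D.rho i).app (n + 1)).app F).hom hc').trans hc
      obtain ⟨z, hz⟩ := (ShortComplex.ab_exact_iff _).1 (R.exact₃ hA n) _ h2
      obtain ⟨j, d, rfl⟩ := (ih _).1 z
      obtain ⟨k, ⟨a⟩, ⟨b⟩⟩ := D.dir i j
      have h3 : (((D.rho j).app n).app (injSES F).X₃).hom ((((T j).T n).map (injSES F).g).hom d) =
          (((D.rho i).app n).app (injSES F).X₃).hom c' :=
        (ConcreteCategory.congr_hom (((D.rho j).app n).naturality (injSES F).g) d).trans hz
      rw [← D.rho_res_apply b, ← D.rho_res_apply a, ← sub_eq_zero, ← map_sub] at h3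
      obtain ⟨l, r, h4⟩ := (ih _).2 k _ h3
      rw [map_sub, sub_eq_zero] at h4
      obtain ⟨s, hs⟩ := D.res_comp a r
      refine ⟨l, s, ?_⟩
      have h5 : (((D.res r).app n).app (injSES F).X₃).hom ((((D.res b).app n).app (injSES F).X₃).hom
          ((((T j).T n).map (injSES F).g).hom d)) =
          (((T l).T n).map (injSES F).g).hom ((((D.res r).app n).app (injSES F).X₂).hom
            ((((D.res b).app n).app (injSES F).X₂).hom d)) := by
        refine (congrArg (((D.res r).app n).app (injSES F).X₃).hom
          (ConcreteCategory.congr_hom (((D.res b).app n).naturality (injSES F).g) d)).trans ?_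
        exact ConcreteCategory.congr_hom (((D.res r).app n).naturality (injSES F).g) _
      have h6 : (((D.res s).app n).app (injSES F).X₃).hom c' =
          (((T l).T n).map (injSES F).g).hom ((((D.res r).app n).app (injSES F).X₂).hom
            ((((D.res b).app n).app (injSES F).X₂).hom d)) := by
        rw [hs, ← h5, h4]
        rfl
      have h7 : ((T l).δ hA n).hom ((((D.res s).app n).app (injSES F).X₃).hom c') = 0 := by
        rw [h6]
        exact ConcreteCategory.congr_hom ((T l).zero₃ hA n) _
      rw [← h7, ← hc']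
      exact (ConcreteCategory.congr_hom ((D.res s).comm hA n) c').symm

end Data

end K558.RhoAbs
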