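import Groth.Agent.EtBC.K558.DAbs
import Groth.Agent.EtBC.K558.RhoAbs
import Mathlib.Algebra.Homology.DerivedCategory.Ext.Map
import Mathlib.Algebra.Homology.DerivedCategory.SingleTriangle

/-!
# Delta functors from homological functors on a derived category

For `G : D(A) ⥤ Ab` homological:
* `dG G` : the delta functor `n ↦ G (F[0][n])`;
* `dHom θ : DeltaHom (dG G) (dG G')` for `θ : G ⟶ G'`;
* `dPre L G' : DeltaHom (dG (L ⋙ G')) ((dG G').precomp L)` for `L : A ⥤ A'` exact.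
-/

set_option autoImplicit false
set_option linter.unusedSectionVars false
universe w w₁ w₂ v₁ v₂ u₁ u₂
open CategoryTheory CategoryTheory.Limits Groth.Agent.Localalg.DeltaFun

noncomputable section
namespace K558.DDelta
open K558.DAbs

variable {A : Type u₁} [Category.{v₁} A] [Abelian A] [HasDerivedCategory.{w₁} A]
  {A' : Type u₂} [Category.{v₂} A'] [Abelian A'] [HasDerivedCategory.{w₂} A']

/-- The tautological shift sequence. -/
abbrev taut (G : DerivedCategory A ⥤ AddCommGrpCat.{w}) : G.ShiftSequence ℤ :=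
  Functor.ShiftSequence.tautological G ℤ

/-- `F[0][n]` -/
abbrev Sn (n : ℤ) (F : A) : DerivedCategory A := (S0 F)⟦n⟧

/-- `F ↦ F[0][n]` -/
abbrev Snf (n : ℤ) : A ⥤ DerivedCategory A := DerivedCategory.singleFunctor A 0 ⋙ shiftFunctor _ n

/-- The connecting map `X₃[0][n] ⟶ X₁[0][n+1]`. -/
def dn {S : ShortComplex A} (hS : S.ShortExact) (n : ℕ) : Sn (n : ℤ) S.X₃ ⟶ Sn ((n + 1 : ℕ) : ℤ) S.X₁ :=
  hS.singleδ⟦(n : ℤ)⟧' ≫
    (shiftFunctorAdd' (DerivedCategory A) (1 : ℤ) (n : ℤ) ((n + 1 : ℕ) : ℤ) (by push_cast; ring)).inv.app (S0 S.X₁)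

section dG

variable (G : DerivedCategory A ⥤ AddCommGrpCat.{w})

theorem δ_eq {S : ShortComplex A} (hS : S.ShortExact) (n : ℕ) :
    @Functor.homologySequenceδ _ _ _ _ _ G (taut G) hS.singleTriangle (n : ℤ) ((n + 1 : ℕ) : ℤ)
      (by push_cast; rfl) = G.map (dn hS n) := by
  rw [dn, G.map_comp]
  change G.map _ ≫ 𝟙 _ ≫ G.map _ = _
  rw [Category.id_comp]
  rfl

variable [G.IsHomological]

/-- The delta functor `n ↦ G (F[0][n])`. -/
def dG : DeltaFunctor A AddCommGrpCat.{w} where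
  T n := Snf (n : ℤ) ⋙ G
  additive n := inferInstance
  δ hS n := G.map (dn hS n)
  naturality {S S'} hS hS' φ n := by
    let _ := taut G
    rw [← δ_eq, ← δ_eq]
    exact G.homologySequenceδ_naturality _ _ (ShortComplex.ShortExact.singleTriangle.map hS hS' φ) _ _ _
  zero₃ hS n := by
    let _ := taut G
    rw [← δ_eq]
    exact G.comp_homologySequenceδ _ hS.singleTriangle_distinguished _ _ _
  zero₁ hS n := by
    let _ := taut G
    rw [← δ_eq]
    exact G.homologySequenceδ_comp _ hS.singleTriangle_distinguished _ _ _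
  exact₂ hS n := by
    let _ := taut G
    exact G.homologySequence_exact₂ _ hS.singleTriangle_distinguished _
  exact₃ hS n := by
    let _ := taut G
    have h := G.homologySequence_exact₃ _ hS.singleTriangle_distinguished (n : ℤ) ((n + 1 : ℕ) : ℤ) (by push_cast; rfl)
    refine ShortComplex.exact_of_iso ?_ h
    exact ShortComplex.isoMk (Iso.refl _) (Iso.refl _) (Iso.refl _) (by simp; rfl)
      (by simp only [Iso.refl_hom]; erw [Category.id_comp, Category.comp_id]; exact (δ_eq G hS n).symm)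
  exact₁ hS n := by
    let _ := taut G
    have h := G.homologySequence_exact₁ _ hS.singleTriangle_distinguished (n : ℤ) ((n + 1 : ℕ) : ℤ) (by push_cast; rfl)
    refine ShortComplex.exact_of_iso ?_ h
    exact ShortComplex.isoMk (Iso.refl _) (Iso.refl _) (Iso.refl _)
      (by simp only [Iso.refl_hom]; erw [Category.id_comp, Category.comp_id]; exact (δ_eq G hS n).symm)
      (by simp; rfl)

end dG

section dHom

variable {G G' : DerivedCategory A ⥤ AddCommGrpCat.{w}} [G.IsHomological] [G'.IsHomological] (θ : G ⟶ G')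

/-- Functoriality. -/
def dHom : DeltaHom (dG G) (dG G') where
  app n := Functor.whiskerLeft (Snf (n : ℤ)) θ
  comm hS n := (θ.naturality (dn hS n)).symm

end dHom

section dPre

variable (L : A ⥤ A') [L.Additive] [PreservesFiniteLimits L] [PreservesFiniteColimits L]

/-- `L(F[0][n]) ⟶ (L F)[0][n]` -/
def kapn (n : ℤ) (F : A) : L.mapDerivedCategory.obj (Sn n F) ⟶ Sn n (L.obj F) :=
  (L.mapDerivedCategory.commShiftIso n).hom.app (S0 F) ≫ (kap L F)⟦n⟧'

instance (n : ℤ) (F : A) : IsIso (kapn L n F) := by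
  unfold kapn
  infer_instance

@[reassoc]
theorem kapn_nat (n : ℤ) {F F' : A} (φ : F ⟶ F') : L.mapDerivedCategory.map ((Snf n).map φ) ≫ kapn L n F' =
    kapn L n F ≫ (Snf n).map (L.map φ) := by
  have h1 := (L.mapDerivedCategory.commShiftIso n).hom.naturality ((DerivedCategory.singleFunctor A 0).map φ)
  have h2 := congrArg (fun t => t⟦n⟧') (kap_nat L φ)
  simp only [Functor.map_comp] at h2
  unfold kapn
  dsimp only [Functor.comp_map] at h1 ⊢
  rw [Category.assoc, ← h2, reassoc_of% h1]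

theorem kapn_aux {D : Type*} [Category* D] {x0 x1 x2 x3 x4 y1 y2 z1 z2 z3 : D} {cn3 : x0 ⟶ x1} {k3 : x1 ⟶ x2}
    {d : x2 ⟶ x3} {a' : x3 ⟶ x4} {s : x0 ⟶ y1} {ai : y1 ⟶ y2} {ah : y2 ⟶ y1} (n3 : ai ≫ ah = 𝟙 _) {cn1 : y1 ⟶ z1}
    {s' : x1 ⟶ z1} {c1 : z1 ⟶ z2} {a1 : z2 ⟶ z3} {cc : y2 ⟶ z3} (hc : cc = ah ≫ cn1 ≫ c1 ≫ a1) {k1 : z3 ⟶ x4}
    {k1' : z2 ⟶ x3} (n2 : k1' ≫ a' = a1 ≫ k1) (n1 : s ≫ cn1 = cn3 ≫ s') (h3 : s' ≫ c1 ≫ k1' = k3 ≫ d)
    {t : x0 ⟶ y2} (ht : t = s ≫ ai) : (cn3 ≫ k3) ≫ d ≫ a' = t ≫ cc ≫ k1 := by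
  subst hc ht
  simp only [Category.assoc]
  rw [reassoc_of% n3, ← n2, reassoc_of% n1, reassoc_of% h3]

theorem h1_aux {D : Type*} [Category* D] {a b c d e : D} {f : a ⟶ b} {g : b ⟶ c} {k : c ⟶ d} {p : a ⟶ e}
    {q : e ⟶ d} {r : d ⟶ c} (h : f ≫ g = p ≫ q ≫ r) (hr : r ≫ k = 𝟙 _) : f ≫ g ≫ k = p ≫ q := by
  rw [← Category.assoc, h, Category.assoc, Category.assoc, hr, Category.comp_id]

theorem kapn_dn {S : ShortComplex A} (hS : S.ShortExact) (n : ℕ) :
    kapn L n S.X₃ ≫ dn (hS.map_of_exact L) n = L.mapDerivedCategory.map (dn hS n) ≫ kapn L ((n + 1 : ℕ) : ℤ) S.X₁ := by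
  have hn : (1 : ℤ) + (n : ℤ) = ((n + 1 : ℕ) : ℤ) := by push_cast; ring
  have e : ((L.mapDerivedCategorySingleFunctor 0).inv.app S.X₁)⟦(1 : ℤ)⟧' ≫ (kap L S.X₁)⟦(1 : ℤ)⟧' = 𝟙 _ := by
    rw [← Functor.map_comp]
    exact (congrArg _ ((L.mapDerivedCategorySingleFunctor 0).inv_hom_id_app S.X₁)).trans
      (CategoryTheory.Functor.map_id _ _)
  have h1 := h1_aux (hS.mapShiftedHom_singleδ L) e
  have h2 := NatTrans.congr_app (congr_arg Iso.hom (L.mapDerivedCategory.commShiftIso_add' hn)) (S0 S.X₁)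
  rw [Functor.CommShift.isoAdd'_hom_app] at h2
  have n1 := (L.mapDerivedCategory.commShiftIso (n : ℤ)).hom.naturality hS.singleδ
  have n2 := (shiftFunctorAdd' (DerivedCategory A') (1 : ℤ) (n : ℤ) ((n + 1 : ℕ) : ℤ) hn).inv.naturality (kap L S.X₁)
  have n3 : L.mapDerivedCategory.map ((shiftFunctorAdd' (DerivedCategory A) (1 : ℤ) (n : ℤ) ((n + 1 : ℕ) : ℤ)
      hn).inv.app (S0 S.X₁)) ≫ L.mapDerivedCategory.map ((shiftFunctorAdd' (DerivedCategory A) (1 : ℤ) (n : ℤ)
      ((n + 1 : ℕ) : ℤ) hn).hom.app (S0 S.X₁)) = 𝟙 _ := by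
    rw [← Functor.map_comp, Iso.inv_hom_id_app, CategoryTheory.Functor.map_id]
  have h3 := congrArg (fun t => t⟦(n : ℤ)⟧') h1
  simp only [Functor.map_comp] at h3
  exact kapn_aux n3 h2 n2 n1 h3 (L.mapDerivedCategory.map_comp _ _)

/-- `L` on the delta functors. -/
def dPre (G' : DerivedCategory A' ⥤ AddCommGrpCat.{w}) [G'.IsHomological] [(L.mapDerivedCategory ⋙ G').IsHomological] :
    DeltaHom (dG (L.mapDerivedCategory ⋙ G')) ((dG G').precomp L) where
  app n :=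
    { app := fun F => G'.map (kapn L n F)
      naturality := fun F F' φ => by
        have h := congrArg (fun t => G'.map t) (kapn_nat L (n : ℤ) φ)
        simp only [Functor.map_comp] at h
        exact h }
  comm hS n := ((G'.map_comp _ _).symm.trans (congrArg (fun t => G'.map t) (kapn_dn L hS n))).trans (G'.map_comp _ _)

end dPre

end K558.DDelta
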