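import Groth.Agent.EtBC.K558.DDelta
import Groth.Agent.Cohder.KZDevissage
import Mathlib.Order.Directed

/-!
# Directed systems of homological functors: dévissage

`DSys J C`: a system `H i : C ⥤ Ab` (`i ∈ J` directed) of homological functors over a homological functor `B`.

* `Surj K` : every element of `B K` comes from some `H i K`; `Inj K` : an element of `H i K` which dies in `B K` dies
  in some `H j K`;
* `surj_of_tri`, `inj_of_tri`;
* `devissage`: on a derived category, if both hold for all `F[0][n]` and all functors vanish on `D^{≥ 1}`, then both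
  hold for all bounded below objects.
-/

set_option autoImplicit false
set_option linter.unusedSectionVars false
universe w v u u' w'
open CategoryTheory CategoryTheory.Limits Pretriangulated

noncomputable section
namespace K558.DDev

section tri

variable {C : Type u} [Category.{v} C] [HasZeroObject C] [HasShift C ℤ] [Preadditive C]
  [∀ n : ℤ, (shiftFunctor C n).Additive] [Pretriangulated C]

theorem ex (H : C ⥤ AddCommGrpCat.{w}) [H.IsHomological] {T : Triangle C} (hT : T ∈ distTriang C)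
    (y : H.obj T.obj₂) (hy : (H.map T.mor₂).hom y = 0) : ∃ x : H.obj T.obj₁, (H.map T.mor₁).hom x = y := by
  have h := H.map_distinguished_exact T hT
  rw [ShortComplex.ab_exact_iff] at h
  exact h y hy

theorem ze (H : C ⥤ AddCommGrpCat.{w}) [H.IsHomological] {T : Triangle C} (hT : T ∈ distTriang C)
    (x : H.obj T.obj₁) : (H.map T.mor₂).hom ((H.map T.mor₁).hom x) = 0 := by
  have h : H.map T.mor₁ ≫ H.map T.mor₂ = 0 := by
    rw [← H.map_comp, comp_distTriang_mor_zero₁₂ T hT, H.map_zero]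
  exact ConcreteCategory.congr_hom h x

theorem zero_of_isZero {G : AddCommGrpCat.{w}} (h : IsZero G) (x : G) : x = 0 := by
  have := ConcreteCategory.congr_hom (h.eq_of_src (𝟙 G) 0) x
  simpa using this

end tri

variable (J : Type u') [Preorder J] (C : Type u) [Category.{v} C] [HasZeroObject C] [HasShift C ℤ] [Preadditive C]
  [∀ n : ℤ, (shiftFunctor C n).Additive] [Pretriangulated C]

/-- A system of homological functors. -/
structure DSys where
  /-- the functors -/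
  H : J → C ⥤ AddCommGrpCat.{w}
  hH : ∀ i, (H i).IsHomological
  /-- transition maps -/
  τ : ∀ {i j : J} (_ : i ≤ j), H i ⟶ H j
  hτ : ∀ {i j k : J} (hij : i ≤ j) (hjk : j ≤ k), τ hij ≫ τ hjk = τ (hij.trans hjk)
  /-- the limit -/
  B : C ⥤ AddCommGrpCat.{w}
  hB : B.IsHomological
  /-- the maps to the limit -/
  l : ∀ i, H i ⟶ B
  hl : ∀ {i j : J} (h : i ≤ j), τ h ≫ l j = l i

variable {J C}

namespace DSys

variable (M : DSys.{w} J C)

instance (i : J) : (M.H i).IsHomological := M.hH i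
instance : M.B.IsHomological := M.hB

/-- Every element comes from a stage. -/
def Surj (K : C) : Prop := ∀ x : M.B.obj K, ∃ (i : J) (y : (M.H i).obj K), ((M.l i).app K).hom y = x

/-- An element dying in the limit dies at a stage. -/
def Inj (K : C) : Prop := ∀ (i : J) (y : (M.H i).obj K), ((M.l i).app K).hom y = 0 →
  ∃ (j : J) (h : i ≤ j), ((M.τ h).app K).hom y = 0

theorem l_nat (i : J) {K L : C} (f : K ⟶ L) (y : (M.H i).obj K) :
    ((M.l i).app L).hom (((M.H i).map f).hom y) = (M.B.map f).hom (((M.l i).app K).hom y) :=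
  ConcreteCategory.congr_hom ((M.l i).naturality f) y

theorem τ_nat {i j : J} (h : i ≤ j) {K L : C} (f : K ⟶ L) (y : (M.H i).obj K) :
    ((M.τ h).app L).hom (((M.H i).map f).hom y) = ((M.H j).map f).hom (((M.τ h).app K).hom y) :=
  ConcreteCategory.congr_hom ((M.τ h).naturality f) y

theorem τ_τ {i j k : J} (hij : i ≤ j) (hjk : j ≤ k) {K : C} (y : (M.H i).obj K) :
    ((M.τ hjk).app K).hom (((M.τ hij).app K).hom y) = ((M.τ (hij.trans hjk)).app K).hom y :=
  ConcreteCategory.congr_hom (congrArg (fun t => t.app K) (M.hτ hij hjk)) y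

theorem l_τ {i j : J} (h : i ≤ j) {K : C} (y : (M.H i).obj K) :
    ((M.l j).app K).hom (((M.τ h).app K).hom y) = ((M.l i).app K).hom y :=
  ConcreteCategory.congr_hom (congrArg (fun t => t.app K) (M.hl h)) y

variable {M}

theorem Surj.of_iso {K L : C} (h : M.Surj K) (e : K ≅ L) : M.Surj L := by
  intro x
  obtain ⟨i, y, hy⟩ := h ((M.B.map e.inv).hom x)
  refine ⟨i, ((M.H i).map e.hom).hom y, ?_⟩
  rw [M.l_nat, hy]
  exact (ConcreteCategory.congr_hom (M.B.map_comp e.inv e.hom) x).symm.trans (by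
    rw [e.inv_hom_id, M.B.map_id]; rfl)

theorem Inj.of_iso {K L : C} (h : M.Inj K) (e : K ≅ L) : M.Inj L := by
  intro i y hy
  obtain ⟨j, hij, hj⟩ := h i (((M.H i).map e.inv).hom y) (by rw [M.l_nat, hy, map_zero])
  refine ⟨j, hij, ?_⟩
  rw [M.τ_nat] at hj
  have h1 : ((M.H j).map e.hom).hom (((M.H j).map e.inv).hom (((M.τ hij).app L).hom y)) = 0 := by
    rw [hj, map_zero]
  refine Eq.trans ?_ h1
  exact ((ConcreteCategory.congr_hom ((M.H j).map_comp e.inv e.hom) (((M.τ hij).app L).hom y)).symm.trans (by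
    rw [e.inv_hom_id, (M.H j).map_id]; rfl)).symm

theorem surj_of_isZero [Nonempty J] {K : C} (h : IsZero (M.B.obj K)) : M.Surj K := by
  intro x
  refine ⟨Classical.arbitrary J, 0, ?_⟩
  rw [zero_of_isZero h x, map_zero]

theorem inj_of_isZero {K : C} (h : ∀ i, IsZero ((M.H i).obj K)) : M.Inj K := by
  intro i y _
  refine ⟨i, le_refl i, ?_⟩
  exact zero_of_isZero (h i) _

variable [IsDirected J (· ≤ ·)]

theorem surj_of_tri {T : Triangle C} (hT : T ∈ distTriang C) (h₁ : M.Surj T.obj₁) (h₃ : M.Surj T.obj₃)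
    (h₁' : M.Inj (T.obj₁⟦(1 : ℤ)⟧)) : M.Surj T.obj₂ := by
  intro x
  obtain ⟨i, z, hz⟩ := h₃ ((M.B.map T.mor₂).hom x)
  have hT' := rot_of_distTriang T hT
  have e1 : ((M.l i).app (T.obj₁⟦(1 : ℤ)⟧)).hom (((M.H i).map T.mor₃).hom z) = 0 := by
    rw [M.l_nat, hz]
    exact ze M.B hT' x
  obtain ⟨j, hij, hj⟩ := h₁' i _ e1
  rw [M.τ_nat] at hj
  obtain ⟨y, hy⟩ : ∃ y : (M.H j).obj T.obj₂, ((M.H j).map T.mor₂).hom y = ((M.τ hij).app T.obj₃).hom z :=
    ex (M.H j) hT' _ hj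
  have e2 : (M.B.map T.mor₂).hom (x - ((M.l j).app T.obj₂).hom y) = 0 := by
    rw [map_sub, ← M.l_nat, hy, M.l_τ, hz, sub_self]
  obtain ⟨a, ha⟩ := ex M.B hT _ e2
  obtain ⟨k, b, hb⟩ := h₁ a
  obtain ⟨m, hjm, hkm⟩ := exists_ge_ge j k
  refine ⟨m, ((M.τ hjm).app T.obj₂).hom y + ((M.τ hkm).app T.obj₂).hom (((M.H k).map T.mor₁).hom b), ?_⟩
  rw [map_add, M.l_τ, M.l_τ, M.l_nat, hb, ha]
  abel

theorem inj_of_tri {T : Triangle C} (hT : T ∈ distTriang C) (h₁ : M.Inj T.obj₁) (h₃ : M.Inj T.obj₃)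
    (h₃' : M.Surj (T.obj₃⟦(-1 : ℤ)⟧)) : M.Inj T.obj₂ := by
  intro i y hy
  have hT' := inv_rot_of_distTriang T hT
  obtain ⟨j, hij, hj⟩ := h₃ i (((M.H i).map T.mor₂).hom y) (by rw [M.l_nat, hy, map_zero])
  rw [M.τ_nat] at hj
  obtain ⟨v, hv⟩ := ex (M.H j) hT _ hj
  have e1 : (M.B.map T.mor₁).hom (((M.l j).app T.obj₁).hom v) = 0 := by
    rw [← M.l_nat, hv, M.l_τ, hy]
  obtain ⟨a, ha⟩ := ex M.B hT' _ e1
  obtain ⟨k, b, hb⟩ := h₃' a
  obtain ⟨m, hjm, hkm⟩ := exists_ge_ge j k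
  have e2 : ((M.l m).app T.obj₁).hom (((M.τ hjm).app T.obj₁).hom v -
      ((M.τ hkm).app T.obj₁).hom (((M.H k).map T.invRotate.mor₁).hom b)) = 0 := by
    have e3 : (M.B.map T.invRotate.mor₁).hom (((M.l k).app (T.obj₃⟦(-1 : ℤ)⟧)).hom b) = ((M.l j).app T.obj₁).hom v := by
      rw [hb]
      exact ha
    rw [map_sub, M.l_τ, M.l_τ, sub_eq_zero]
    exact (M.l_nat k T.invRotate.mor₁ b).trans e3 |>.symm
  obtain ⟨p, hmp, hp⟩ := h₁ m _ e2
  rw [map_sub, sub_eq_zero, M.τ_τ, M.τ_τ] at hp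
  refine ⟨p, hij.trans (hjm.trans hmp), ?_⟩
  have e4 : ((M.H p).map T.mor₁).hom (((M.τ (hjm.trans hmp)).app T.obj₁).hom v) = 0 := by
    rw [hp]
    have e5 : ((M.τ (hkm.trans hmp)).app T.obj₁).hom (((M.H k).map T.invRotate.mor₁).hom b) =
        ((M.H p).map T.invRotate.mor₁).hom (((M.τ (hkm.trans hmp)).app (T.obj₃⟦(-1 : ℤ)⟧)).hom b) :=
      M.τ_nat (hkm.trans hmp) T.invRotate.mor₁ b
    rw [e5]
    exact ze (M.H p) hT' _
  rw [← M.τ_τ hij (hjm.trans hmp), ← hv, M.τ_nat]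
  exact e4

end DSys

section der

variable {A : Type u} [Category.{v} A] [Abelian A] [HasDerivedCategory.{w'} A] [Nonempty J] [IsDirected J (· ≤ ·)]
  (M : DSys.{w} J (DerivedCategory A))
  (hB0 : ∀ (K : DerivedCategory A) [K.IsGE 1], IsZero (M.B.obj K))
  (hH0 : ∀ (i : J) (K : DerivedCategory A) [K.IsGE 1], IsZero ((M.H i).obj K))
  (hS : ∀ (n : ℕ) (F : A), M.Surj (DDelta.Sn (n : ℤ) F) ∧ M.Inj (DDelta.Sn (n : ℤ) F))

include hB0 hH0 in
theorem of_ge_one (K : DerivedCategory A) [K.IsGE 1] : M.Surj K ∧ M.Inj K :=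
  ⟨DSys.surj_of_isZero (hB0 K), DSys.inj_of_isZero (fun i => hH0 i K)⟩

include hB0 hH0 hS in
theorem single (n : ℤ) (F : A) : M.Surj (DDelta.Sn n F) ∧ M.Inj (DDelta.Sn n F) := by
  obtain h | h := le_or_gt 0 n
  · obtain ⟨m, rfl⟩ := Int.eq_ofNat_of_zero_le h
    exact hS m F
  · have : (DDelta.Sn n F).IsGE 1 := by
      have h1 : (DDelta.Sn n F).IsGE (-n) :=
        DerivedCategory.TStructure.t.isGE_shift (DAbs.S0 F) 0 n (-n) (by simp)
      exact DerivedCategory.TStructure.t.isGE_of_ge (DDelta.Sn n F) 1 (-n) (by omega)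
    exact of_ge_one M hB0 hH0 _

include hB0 hH0 hS in
theorem devissage_aux (k : ℕ) : ∀ (a : ℤ) (K : DerivedCategory A) [K.IsGE a] (n : ℤ), n < a + k →
    M.Surj (K⟦n⟧) ∧ M.Inj (K⟦n⟧) := by
  induction k with
  | zero =>
    intro a K _ n hn
    have h1 : (K⟦n⟧).IsGE (a - n) := DerivedCategory.TStructure.t.isGE_shift K a n (a - n) (by simp)
    have h2 : (K⟦n⟧).IsGE 1 := DerivedCategory.TStructure.t.isGE_of_ge (K⟦n⟧) 1 (a - n) (by simp at hn; omega)
    exact of_ge_one M hB0 hH0 _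
  | succ k ih =>
    intro a K _ n hn
    obtain ⟨X, Y, hX, hY, f, g, h, hT⟩ := Groth.Agent.Cohder.KZDevissage.exists_trunc K a
    have hXa := Groth.Agent.Cohder.KZDevissage.trunc₁_isGE hT a a
    obtain ⟨F, ⟨eF⟩⟩ := X.exists_iso_singleFunctor_obj_of_isGE_of_isLE a
    have hXn : ∀ m : ℤ, M.Surj (X⟦m⟧) ∧ M.Inj (X⟦m⟧) := by
      intro m
      have e : DDelta.Sn (m - a) F ≅ X⟦m⟧ := by
        refine ?_ ≪≫ (shiftFunctor _ m).mapIso eF.symm
        refine (shiftFunctor _ (m - a)).mapIso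
          (((DerivedCategory.singleFunctors A).shiftIso a 0 a (by simp)).app F).symm ≪≫ ?_
        exact ((shiftFunctorAdd' (DerivedCategory A) a (m - a) m (by simp)).app
          ((DerivedCategory.singleFunctor A a).obj F)).symm
      have h1 := single M hB0 hH0 hS (m - a) F
      exact ⟨h1.1.of_iso e, h1.2.of_iso e⟩
    have hYn : ∀ m : ℤ, m ≤ n → M.Surj (Y⟦m⟧) ∧ M.Inj (Y⟦m⟧) := fun m hm =>
      ih (a + 1) Y m (by push_cast at hn ⊢; omega)
    have hT' := Triangle.shift_distinguished _ hT n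
    constructor
    · refine DSys.surj_of_tri hT' (hXn n).1 (hYn n le_rfl).1 ?_
      exact (hXn (n + 1)).2.of_iso ((shiftFunctorAdd (DerivedCategory A) n 1).app X)
    · refine DSys.inj_of_tri hT' (hXn n).2 (hYn n le_rfl).2 ?_
      exact (hYn (n + -1) (by omega)).1.of_iso ((shiftFunctorAdd (DerivedCategory A) n (-1)).app Y)

include hB0 hH0 hS in
/-- **Dévissage.** -/
theorem devissage (a : ℤ) (K : DerivedCategory A) [K.IsGE a] (n : ℤ) : M.Surj (K⟦n⟧) ∧ M.Inj (K⟦n⟧) := by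
  refine devissage_aux M hB0 hH0 hS (n - a + 1).toNat a K n ?_
  have := Int.self_le_toNat (n - a + 1)
  omega

end der

end K558.DDev
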