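import Groth.Agent.EtBC.K558.Lam

/-!
# The stalk of an inverse image: composition law

`spi g ξ ζ h : F_ζ ≅ (g⁻¹ F)_ξ` for `ξ ≫ g = ζ`; `spi_germ`, `spi_comp`.
-/

set_option autoImplicit false
universe u
open CategoryTheory CategoryTheory.Limits AlgebraicGeometry Opposite Abelian
open scoped Groth.Agent.Sga4B.EtAbInst
open scoped Groth.Agent.Etcore.EtInst
open Groth.Agent.Etcore.EtInst

namespace K558.DSpi

open Groth.Agent K558.Rho K558.LamBC Groth.Agent.Etcore.SecPull Groth.Agent.Etcore.PullCoh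
open Groth.Agent.Etcore.Stalks (germ germ_res germ_map exists_germ germ_eq_iff)
open Groth.Agent.Etbase.StalkPull (stalkPullIso)
open Groth.Agent.Etcore.StalkSec (mkLift ext_hom hom_mkLift)

variable {S S' S'' : Scheme.{u}} {Ω : Type u} [Field Ω] [IsSepClosed Ω]

/-- `F_ζ ≅ (g⁻¹ F)_ξ` -/
noncomputable def spi (g : S' ⟶ S) (ξ : Spec (CommRingCat.of Ω) ⟶ S') (ζ : Spec (CommRingCat.of Ω) ⟶ S)
    (h : ξ ≫ g = ζ) : EtCoh.stalk ζ ≅ EtCoh.pull g ⋙ EtCoh.stalk ξ :=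
  match ζ, h with
  | _, rfl => stalkPullIso g ξ

theorem spi_rfl (g : S' ⟶ S) (ξ : Spec (CommRingCat.of Ω) ⟶ S') : spi g ξ (ξ ≫ g) rfl = stalkPullIso g ξ := rfl

theorem spi_germ (g : S' ⟶ S) (ξ : Spec (CommRingCat.of Ω) ⟶ S') (ζ : Spec (CommRingCat.of Ω) ⟶ S)
    (h : ξ ≫ g = ζ) (F : EtCoh.Ab S) {V : S.Etale} {U : S'.Etale} (q : U.left ⟶ V.left)
    (hq : q ≫ V.hom = U.hom ≫ g) (x : Fib ζ V) (y : Fib ξ U)
    (hxy : Etcore.StalkSec.hom ξ y ≫ q = Etcore.StalkSec.hom ζ x) (s : EtCoh.sect F V) :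
    ((spi g ξ ζ h).hom.app F).hom (germ ζ F x s) = germ ξ ((EtCoh.pull g).obj F) y (sq g F q hq s) := by
  subst h
  have e : x = down ξ q hq y := ext_hom _ _ _ (hxy.symm.trans (hom_down ξ q hq y).symm)
  subst e
  exact germ_sq ξ q hq y F s

theorem germ_ext {ζ : Spec (CommRingCat.of Ω) ⟶ S} {F : EtCoh.Ab S} {B : AddCommGrpCat.{u + 1}}
    (a b : (EtCoh.stalk ζ).obj F ⟶ B)
    (h : ∀ (V : S.Etale) (x : Fib ζ V) (s : EtCoh.sect F V), a.hom (germ ζ F x s) = b.hom (germ ζ F x s)) :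
    a = b := by
  ext z
  obtain ⟨V, x, s, rfl⟩ := exists_germ ζ F z
  exact h V x s

/-- **The composition law.** -/
theorem spi_comp {g : S' ⟶ S} {g' : S'' ⟶ S'} {g'' : S'' ⟶ S} (w : g' ≫ g = g'')
    (ξ : Spec (CommRingCat.of Ω) ⟶ S'') (ξ' : Spec (CommRingCat.of Ω) ⟶ S') (ζ : Spec (CommRingCat.of Ω) ⟶ S)
    (h' : ξ ≫ g' = ξ') (h : ξ' ≫ g = ζ) (h'' : ξ ≫ g'' = ζ) (F : EtCoh.Ab S) :
    (spi g ξ' ζ h).hom.app F ≫ (spi g' ξ ξ' h').hom.app ((EtCoh.pull g).obj F) =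
      (spi g'' ξ ζ h'').hom.app F ≫ (EtCoh.stalk ξ).map (inv (th g' g g'' w F)) := by
  subst w
  apply germ_ext
  intro V x s
  have e1 : Etcore.StalkSec.hom ζ x ≫ V.hom = ξ' ≫ g := (Etcore.StalkSec.hom_comp ζ x).trans h.symm
  let y : Fib ξ' ((EtCoh.bc g).obj V) := liftF g ξ' V _ e1
  have hy : Etcore.StalkSec.hom ξ' y ≫ toV g V = Etcore.StalkSec.hom ζ x := hom_liftF g ξ' V _ e1
  have e2 : Etcore.StalkSec.hom ξ' y ≫ ((EtCoh.bc g).obj V).hom = ξ ≫ g' :=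
    (Etcore.StalkSec.hom_comp ξ' y).trans h'.symm
  let z : Fib ξ ((EtCoh.bc g').obj ((EtCoh.bc g).obj V)) := liftF g' ξ _ _ e2
  have hz : Etcore.StalkSec.hom ξ z ≫ toV g' ((EtCoh.bc g).obj V) = Etcore.StalkSec.hom ξ' y :=
    hom_liftF g' ξ _ _ e2
  have q1 := toV_hom g V
  have q2 := toV_hom g' ((EtCoh.bc g).obj V)
  have q3 : (toV g' ((EtCoh.bc g).obj V) ≫ toV g V) ≫ V.hom =
      ((EtCoh.bc g').obj ((EtCoh.bc g).obj V)).hom ≫ g' ≫ g := by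
    rw [Category.assoc, q1]
    exact (Category.assoc _ _ _).symm.trans ((congrArg (· ≫ g) q2).trans (Category.assoc _ _ _))
  have k1 := spi_germ g ξ' ζ h F (toV g V) q1 x y hy s
  have k2 := spi_germ g' ξ ξ' h' ((EtCoh.pull g).obj F) (toV g' ((EtCoh.bc g).obj V)) q2 y z hz
    ((sq g F (toV g V) q1).hom s)
  have k3 := spi_germ (g' ≫ g) ξ ζ h'' F (toV g' ((EtCoh.bc g).obj V) ≫ toV g V) q3 x z
    (by rw [← Category.assoc, hz, hy]) s
  have k4 := ConcreteCategory.congr_hom (sq_comp g' g F (toV g V) q1 (toV g' ((EtCoh.bc g).obj V)) q2 q3) s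
  have k5 := germ_map ξ (inv (th g' g (g' ≫ g) rfl F)) z
    ((sq (g' ≫ g) F (toV g' ((EtCoh.bc g).obj V) ≫ toV g V) q3).hom s)
  rw [th_inv_pullComp] at k5
  rw [th_inv_pullComp]
  refine ((congrArg _ k1).trans k2).trans ?_
  refine Eq.trans ?_ ((congrArg _ k3).trans k5).symm
  exact congrArg (germ ξ ((EtCoh.pull g').obj ((EtCoh.pull g).obj F)) z).hom k4

end K558.DSpi
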