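import Groth.Agent.EtBC.K558.DGam
import Groth.Agent.EtBC.K558.DSpi

/-!
# Higher direct images of sheaves and `GD`

* `eC f ζ : DeltaHom (rD f ζ) (dG (GD f ζ))`, an isomorphism: `(R^n f_* F)_ζ ≅ GD f ζ (F[0][n])`;
* `eC_Lam` : `Lam` corresponds to `DLam`.
-/

set_option autoImplicit false
universe u w
open CategoryTheory CategoryTheory.Limits AlgebraicGeometry Opposite Abelian
open scoped Groth.Agent.Sga4B.EtAbInst
open scoped Groth.Agent.Etcore.EtInst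
open Groth.Agent.Etcore.EtInst

attribute [local instance] HasDerivedCategory.standard

noncomputable section
namespace K558.DELam

open Groth.Agent Groth.Agent.Localalg.DeltaFun Groth.Agent.Sga4B Groth.Agent.Sga4B.BCDelta
  Groth.Agent.Etrest.DEtPush K558.DAbs K558.DTh K558.DDelta K558.DJj K558.DTrans K558.DGam K558.DSpi K558.Rho
  K558.LamBC Groth.Agent.Etcore.PullCoh K2.PasteAbs

/-- Reassociation. -/
def assocD {C : Type*} [Category* C] [Abelian C] {A : Type*} [Category* A] [Abelian A]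
    {B : Type*} [Category* B] [Abelian B] {D : Type*} [Category* D] [Abelian D]
    {T : DeltaFunctor C D} (R : DeltaFunctor A B) (L : C ⥤ A) [L.Additive]
    [PreservesFiniteLimits L] [PreservesFiniteColimits L] (P : B ⥤ D) [P.Additive]
    [PreservesFiniteLimits P] [PreservesFiniteColimits P]
    (Ψ : DeltaHom T ((R.precomp L).postcomp P)) : DeltaHom T ((R.postcomp P).precomp L) := Ψ

theorem assocD_app {C : Type*} [Category* C] [Abelian C] {A : Type*} [Category* A] [Abelian A]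
    {B : Type*} [Category* B] [Abelian B] {D : Type*} [Category* D] [Abelian D]
    {T : DeltaFunctor C D} (R : DeltaFunctor A B) (L : C ⥤ A) [L.Additive]
    [PreservesFiniteLimits L] [PreservesFiniteColimits L] (P : B ⥤ D) [P.Additive]
    [PreservesFiniteLimits P] [PreservesFiniteColimits P]
    (Ψ : DeltaHom T ((R.precomp L).postcomp P)) (n : ℕ) (F : C) :
    ((assocD R L P Ψ).app n).app F = (Ψ.app n).app F := rfl

variable {Ω : Type u} [Field Ω] [IsSepClosed Ω] {X S X' S' : Scheme.{u}}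

section eC

variable (f : X ⟶ S) (ζ : pt Ω ⟶ S)

/-- Degree zero. -/
def zI : EtCoh.Rpush f 0 ⋙ EtCoh.stalk ζ ≅ EtCoh.push f ⋙ EtCoh.pull ζ ⋙ stk Ω :=
  Functor.isoWhiskerRight (zeroIso f) (EtCoh.stalk ζ) ≪≫
    Functor.isoWhiskerLeft (EtCoh.push f) (spi ζ (𝟙 _) ζ (Category.id_comp ζ))

/-- Degree zero. -/
def zD : (rD f ζ).T 0 ⟶ EtCoh.push f ⋙ EtCoh.pull ζ ⋙ stk Ω := (zI f ζ).hom

instance isIso_zD : IsIso (zD f ζ) := inferInstanceAs (IsIso (zI f ζ).hom)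

theorem zD_app (F : EtCoh.Ab X) : (zD f ζ).app F = (EtCoh.stalk ζ).map ((zeroIso f).hom.app F) ≫
    (spi ζ (𝟙 _) ζ (Category.id_comp ζ)).hom.app ((EtCoh.push f).obj F) := rfl

theorem rD_eff : (rD f ζ).Effaceable := fun J _ n => (EtCoh.stalk ζ).map_isZero (RpushD_eff f J n)

/-- The comparison. -/
def eC : DeltaHom (rD f ζ) (dG (GD f ζ)) := eD (rD_eff f ζ) (zD f ζ)

theorem isIso_eC (n : ℕ) : IsIso ((eC f ζ).app n) := isIso_eD (rD_eff f ζ) (zD f ζ) n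

end eC

section Lam

variable {f : X ⟶ S} {s : S' ⟶ S} {f' : X' ⟶ S'} {u' : X' ⟶ X}

/-- The base change map on stalks, without coefficients. -/
def PhiC (w : u' ≫ f = f' ≫ s) (ξ : pt Ω ⟶ S') (ζ : pt Ω ⟶ S) (hζ : ξ ≫ s = ζ) :
    DeltaHom (rD f ζ) ((rD f' ξ).precomp (EtCoh.pull u')) :=
  assocD (RpushD f') (EtCoh.pull u') (EtCoh.stalk ξ)
    (K557.DeltaCalc.comp (K557.DeltaCalc.ofPost (RpushD f) (spi s ξ ζ hζ).hom)
      (K557.DeltaCalc.postW (BC w) (EtCoh.stalk ξ)))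

theorem PhiC_app (w : u' ≫ f = f' ≫ s) (ξ : pt Ω ⟶ S') (ζ : pt Ω ⟶ S) (hζ : ξ ≫ s = ζ) (n : ℕ) (F : EtCoh.Ab X) :
    ((PhiC w ξ ζ hζ).app n).app F =
      (spi s ξ ζ hζ).hom.app ((EtCoh.Rpush f n).obj F) ≫ (EtCoh.stalk ξ).map ((BCq w n).app F) := rfl

theorem phi_aux {C D E D' : Type*} [Category* C] [Category* D] [Category* E] [Category* D'] (L : C ⥤ D) (P : D ⥤ E)
    (Q : C ⥤ E) (R : D' ⥤ E) (Xp : D ⥤ D') {a b : C} {z : a ⟶ b} {x y : D} {i : x ≅ y}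
    {g : L.obj b ⟶ y} {p₁ : Q.obj a ⟶ P.obj (L.obj a)} {p₂ : Q.obj b ⟶ P.obj (L.obj b)} {β : L.obj a ⟶ x}
    (hβ : β = L.map z ≫ g ≫ i.inv) (n₁ : Q.map z ≫ p₂ = p₁ ≫ P.map (L.map z))
    {q₁ : P.obj y ⟶ R.obj (Xp.obj y)} {q₂ : P.obj (L.obj b) ⟶ R.obj (Xp.obj (L.obj b))}
    (n₂ : P.map g ≫ q₁ = q₂ ≫ R.map (Xp.map g)) {c : D'} {r : Q.obj b ⟶ R.obj c} {t : c ⟶ Xp.obj (L.obj b)}
    (hc : p₂ ≫ q₂ = r ≫ R.map t) :
    (p₁ ≫ P.map β) ≫ P.map i.hom ≫ q₁ = (Q.map z ≫ r) ≫ R.map (t ≫ Xp.map g) := by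
  subst hβ
  simp only [Functor.map_comp, Category.assoc]
  rw [← P.map_comp_assoc i.inv, i.inv_hom_id, P.map_id, Category.id_comp, n₂, ← reassoc_of% n₁, reassoc_of% hc]

theorem phiC_zero (w : u' ≫ f = f' ≫ s) (ξ : pt Ω ⟶ S') (ζ : pt Ω ⟶ S) (hζ : ξ ≫ s = ζ) (F : EtCoh.Ab X) :
    ((PhiC w ξ ζ hζ).app 0).app F ≫ (zD f' ξ).app ((EtCoh.pull u').obj F) = (zD f ζ).app F ≫
      (stk Ω).map (inv ((theta ξ s ζ hζ).hom.app ((EtCoh.push f).obj F)) ≫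
        (EtCoh.pull ξ).map ((EtpbcB.BCCalc.bcNat w).app F)) := by
  have hβ : (BCq w 0).app F = (EtCoh.pull s).map ((zeroIso f).hom.app F) ≫
      EtCoh.baseChange0 f s f' u' w F ≫ ((zeroIso f').app ((EtCoh.pull u').obj F)).inv := by
    unfold BCq
    rw [BC_app_zero, bc0_app]
    rfl
  have n₁ := (spi s ξ ζ hζ).hom.naturality ((zeroIso f).hom.app F)
  have n₂ := (spi ξ (𝟙 _) ξ (Category.id_comp ξ)).hom.naturality (EtCoh.baseChange0 f s f' u' w F)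
  have hc := spi_comp hζ (𝟙 (pt Ω)) ξ ζ (Category.id_comp ξ) hζ (Category.id_comp ζ) ((EtCoh.push f).obj F)
  exact phi_aux (EtCoh.pull s) (EtCoh.stalk ξ) (EtCoh.stalk ζ) (stk Ω) (EtCoh.pull ξ) hβ n₁ n₂ hc

/-- **`Lam` and `DLam`.** -/
theorem eC_Lam (w : u' ≫ f = f' ≫ s) (ξ : pt Ω ⟶ S') (ζ : pt Ω ⟶ S) (hζ : ξ ≫ s = ζ) (n : ℕ) (F : EtCoh.Ab X) :
    ((PhiC w ξ ζ hζ).app n).app F ≫ ((eC f' ξ).app n).app ((EtCoh.pull u').obj F) =
      ((eC f ζ).app n).app F ≫ DLam w ξ ζ hζ (kapn (EtCoh.pull u') n F) :=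
  eD_Th (EtpbcB.BCCalc.bcNat w) (theta ξ s ζ hζ).hom (rD_eff f ζ) (zD f ζ) (rD_eff f' ξ) (zD f' ξ)
    (PhiC w ξ ζ hζ) (phiC_zero w ξ ζ hζ) n F

end Lam

end K558.DELam
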