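import Groth.Agent.EtBC.K558.DTrans

/-!
# The comparison on inverse images of a fixed object

`epsA V n F : T^n (V F) ≅ GDA st G Z (V (F[0][n]))`; `epsA_Th`.
-/

set_option autoImplicit false
set_option linter.unusedSectionVars false
universe w₀ w₁ w₂ w₃ w₄ w₅ v₀ v₁ v₂ v₃ v₄ v₅ u₀ u₁ u₂ u₃ u₄ u₅ w
open CategoryTheory CategoryTheory.Limits

noncomputable section
namespace K558.DEpsA
open Groth.Agent.Etrest Groth.Agent.Etrest.RDer1 Groth.Agent.Etrest.RDer2 Groth.Agent.Etrest.RDer3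
  Groth.Agent.Etrest.RDer4 Groth.Agent.Etrest.RDer5 K2.PasteAbs K558.DAbs K558.DDelta K558.DJj K558.DJe
  Groth.Agent.Localalg.DeltaFun K558.DTrans K558.DShift

theorem inv_mid {C : Type*} [Category* C] {a b c d : C} {θ : a ⟶ b} {k₁ : a ⟶ c} [IsIso k₁] {p : c ⟶ d} {kv : b ⟶ d}
    [IsIso kv] (h : θ ≫ kv = k₁ ≫ p) : inv k₁ ≫ θ = p ≫ inv kv := by
  rw [IsIso.inv_comp_eq, ← Category.assoc, ← h, Category.assoc, IsIso.hom_inv_id, Category.comp_id]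

theorem eps_aux {C : Type*} [Category* C] {a b c d e f g k : C} {φ : a ⟶ b} {t : b ⟶ c} {e₂ : c ⟶ d} {i₂ : d ⟶ e}
    {e₂' : b ⟶ f} {m : f ⟶ d} (h4 : t ≫ e₂ = e₂' ≫ m) {e₁ : a ⟶ g} {Θk : g ⟶ f} (h3 : φ ≫ e₂' = e₁ ≫ Θk)
    {i₁ : g ⟶ k} {Θ : k ⟶ e} (h5 : i₁ ≫ Θ = Θk ≫ m ≫ i₂) : φ ≫ t ≫ e₂ ≫ i₂ = (e₁ ≫ i₁) ≫ Θ := by
  rw [Category.assoc, h5, ← reassoc_of% h3, reassoc_of% h4]

variable {A₀ : Type u₀} [Category.{v₀} A₀] [Abelian A₀] [HasDerivedCategory.{w₀} A₀]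
  {A : Type u₁} [Category.{v₁} A] [Abelian A] [HasDerivedCategory.{w₁} A] [HasKInj A] [EnoughInjectives A]
  {B : Type u₂} [Category.{v₂} B] [Abelian B] [HasDerivedCategory.{w₂} B]
  {P : Type u₃} [Category.{v₃} P] [Abelian P] [HasDerivedCategory.{w₃} P]
  {st : P ⥤ AddCommGrpCat.{w}} [st.Additive] [PreservesFiniteLimits st] [PreservesFiniteColimits st]
  {G : A ⥤ B} [G.Additive] {Z : B ⥤ P} [Z.Additive] [PreservesFiniteLimits Z] [PreservesFiniteColimits Z]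
  {T : DeltaFunctor A AddCommGrpCat.{w}} (hT : T.Effaceable) (z : T.T 0 ⟶ G ⋙ Z ⋙ st)
  (V : A₀ ⥤ A) [V.Additive] [PreservesFiniteLimits V] [PreservesFiniteColimits V]

/-- `T^n (V F) ⟶ GDA st G Z (V (F[0][n]))` -/
def epsA (n : ℕ) (F : A₀) : (T.T n).obj (V.obj F) →+ (GDA st G Z).obj (V.mapDerivedCategory.obj (Sn (n : ℤ) F)) :=
  (((eD hT z).app n).app (V.obj F) ≫ (GDA st G Z).map (inv (kapn V n F))).hom

theorem epsA_bijective [PreservesFiniteLimits G] [IsIso z] (n : ℕ) (F : A₀) :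
    Function.Bijective (epsA hT z V n F) := by
  have h := isIso_eD hT z n
  have h1 : IsIso (((eD hT z).app n).app (V.obj F)) := inferInstance
  have h3 : IsIso ((GDA st G Z).map (inv (kapn V n F))) := Functor.map_isIso _ _
  have h2 : IsIso (((eD hT z).app n).app (V.obj F) ≫ (GDA st G Z).map (inv (kapn V n F))) :=
    IsIso.comp_isIso' h1 h3
  exact ConcreteCategory.bijective_of_isIso (((eD hT z).app n).app (V.obj F) ≫ (GDA st G Z).map (inv (kapn V n F)))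

variable {A₂ : Type u₄} [Category.{v₄} A₂] [Abelian A₂] [HasDerivedCategory.{w₄} A₂] [HasKInj A₂] [EnoughInjectives A₂]
  {B₂ : Type u₅} [Category.{v₅} B₂] [Abelian B₂] [HasDerivedCategory.{w₅} B₂]
  {G₂ : A₂ ⥤ B₂} [G₂.Additive]
  {K : A ⥤ A₂} [K.Additive] [PreservesFiniteLimits K] [PreservesFiniteColimits K]
  {L : B ⥤ B₂} [L.Additive] [PreservesFiniteLimits L] [PreservesFiniteColimits L]
  {X : B₂ ⥤ P} [X.Additive] [PreservesFiniteLimits X] [PreservesFiniteColimits X]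
  (bc : G ⋙ L ⟶ K ⋙ G₂) (θ : L ⋙ X ⟶ Z) [IsIso θ]
  {T₂ : DeltaFunctor A₂ AddCommGrpCat.{w}} (hT₂ : T₂.Effaceable) (z₂ : T₂.T 0 ⟶ G₂ ⋙ X ⋙ st)
  (Φ : DeltaHom T (T₂.precomp K))
  (hΦ : ∀ F, (Φ.app 0).app F ≫ z₂.app (K.obj F) = z.app F ≫ st.map (inv (θ.app (G.obj F)) ≫ X.map (bc.app F)))
  {V' : A₀ ⥤ A₂} [V'.Additive] [PreservesFiniteLimits V'] [PreservesFiniteColimits V'] (κ : V ⋙ K ⟶ V')

include hΦ in
theorem epsA_Th' (n : ℕ) (F : A₀) : (Φ.app n).app (V.obj F) ≫ (T₂.T n).map (κ.app F) ≫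
    ((eD hT₂ z₂).app n).app (V'.obj F) ≫ (GDA st G₂ X).map (inv (kapn V' n F)) =
      (((eD hT z).app n).app (V.obj F) ≫ (GDA st G Z).map (inv (kapn V n F))) ≫
        ThA bc θ ((compD κ).app (Sn (n : ℤ) F)) := by
  have h2 := inv_mid (kapn_compD κ n F)
  have h3 := eD_Th bc θ hT z hT₂ z₂ Φ hΦ n (V.obj F)
  have h4 : (T₂.T n).map (κ.app F) ≫ ((eD hT₂ z₂).app n).app (V'.obj F) =
      ((eD hT₂ z₂).app n).app (K.obj (V.obj F)) ≫ (GDA st G₂ X).map ((Snf (n : ℤ)).map (κ.app F)) :=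
    ((eD hT₂ z₂).app n).naturality (κ.app F)
  have h5 : (GDA st G Z).map (inv (kapn V n F)) ≫ ThA bc θ ((compD κ).app (Sn (n : ℤ) F)) =
      ThA bc θ (kapn K n (V.obj F)) ≫ (GDA st G₂ X).map ((Snf (n : ℤ)).map (κ.app F)) ≫
        (GDA st G₂ X).map (inv (kapn V' n F)) := by
    rw [ThA_nat, Functor.map_inv, h2, ← Functor.map_comp, ← ThA_comp, Category.assoc]
  exact eps_aux h4 h3 h5

include hΦ in
theorem epsA_Th (n : ℕ) (F : A₀) (x : (T.T n).obj (V.obj F)) :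
    epsA hT₂ z₂ V' n F (((T₂.T n).map (κ.app F)).hom (((Φ.app n).app (V.obj F)).hom x)) =
      (ThA bc θ ((compD κ).app (Sn (n : ℤ) F))).hom (epsA hT z V n F x) :=
  ConcreteCategory.congr_hom (epsA_Th' hT z V bc θ hT₂ z₂ Φ hΦ κ n F) x

end K558.DEpsA
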