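import Groth.Agent.EtBC.K558.DELam
import Groth.Agent.EtBC.K558.DEpsA

/-!
# `R^n f_* (u⁻¹ F)` and `GD`

* `eps f ζ u n F : (R^n f_* (u⁻¹ F))_ζ ≃ GD f ζ (u⁻¹ (F[0][n]))`, `eps_Lam`.
-/

set_option autoImplicit false
universe u w
open CategoryTheory CategoryTheory.Limits AlgebraicGeometry Opposite Abelian
open scoped Groth.Agent.Sga4B.EtAbInst
open scoped Groth.Agent.Etcore.EtInst
open Groth.Agent.Etcore.EtInst

attribute [local instance] HasDerivedCategory.standard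

noncomputable section
namespace K558.DEps

open Groth.Agent Groth.Agent.Localalg.DeltaFun Groth.Agent.Sga4B Groth.Agent.Sga4B.BCDelta
  Groth.Agent.Etrest.DEtPush K558.DAbs K558.DTh K558.DDelta K558.DJj K558.DTrans K558.DGam K558.DSpi K558.Rho
  K558.LamBC Groth.Agent.Etcore.PullCoh K2.PasteAbs K558.DELam K558.RhoAbs K558.DEpsA

variable {Ω : Type u} [Field Ω] [IsSepClosed Ω] {X S X' S' T₀ : Scheme.{u}}

section

variable (f : X ⟶ S) (ζ : pt Ω ⟶ S) (v : X ⟶ T₀) (n : ℕ) (F : EtCoh.Ab T₀)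

/-- `(R^n f_* (u⁻¹ F))_ζ → GD f ζ (u⁻¹ (F[0][n]))` -/
def eps : St f ζ n ((EtCoh.pull v).obj F) →+ (GD f ζ).obj ((pullD v).obj (Sn n F)) :=
  epsA (rD_eff f ζ) (zD f ζ) (EtCoh.pull v) n F

theorem eps_bijective : Function.Bijective (eps f ζ v n F) :=
  epsA_bijective (rD_eff f ζ) (zD f ζ) (EtCoh.pull v) n F

end

variable {f : X ⟶ S} {s : S' ⟶ S} {f' : X' ⟶ S'} {u' : X' ⟶ X}

theorem eps_Lam (w : u' ≫ f = f' ≫ s) (ξ : pt Ω ⟶ S') (ζ : pt Ω ⟶ S) (hζ : ξ ≫ s = ζ) (n : ℕ)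
    (v : X ⟶ T₀) (v' : X' ⟶ T₀) (hv : u' ≫ v = v') (F : EtCoh.Ab T₀) (x : St f ζ n ((EtCoh.pull v).obj F)) :
    eps f' ξ v' n F (Lam w ξ ζ hζ (th u' v v' hv F) n x) =
      (DLam w ξ ζ hζ ((thD u' v v' hv).app (Sn n F))).hom (eps f ζ v n F x) := by
  subst hζ
  rw [Lam_rfl, Lam₀_apply]
  exact epsA_Th (rD_eff f (ξ ≫ s)) (zD f (ξ ≫ s)) (EtCoh.pull v) (EtpbcB.BCCalc.bcNat w) (theta ξ s (ξ ≫ s) rfl).hom
    (rD_eff f' ξ) (zD f' ξ) (PhiC w ξ (ξ ≫ s) rfl) (phiC_zero w ξ (ξ ≫ s) rfl) (theta u' v v' hv).hom n F x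

end K558.DEps
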