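import Groth.Agent.EtBC.K558.StageLam

/-!
# Stalks of higher direct images on a limit (end)

`lam_inj`; see `Groth.Agent.EtBC.K558.StageLim`.
-/

set_option autoImplicit false
universe u
open CategoryTheory CategoryTheory.Limits AlgebraicGeometry Opposite Abelian
open scoped Groth.Agent.Sga4B.EtAbInst
open scoped Groth.Agent.Etcore.EtInst
open Groth.Agent.Etcore.EtInst

namespace K558.StageLim

open Groth.Agent Groth.Agent.Etcore.HQ K558.Rho K558.LimCl K558.ClsLim K558.LamBC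
open Groth.Agent.Etcore.RpushLoc (pr mm mm_pr)
open Groth.Agent.Etcore.StalkSec (mkLift ext_hom hom_mkLift)
open Groth.Agent.Etcore.IntBC (bcSq bcSq_hom)
open K558.ClsLim.SSys (incl)

variable {ι : Type u} [Preorder ι] {Ss Ts : ιᵒᵖ ⥤ Scheme.{u}} (gN : Ts ⟶ Ss)
  {cS : Cone Ss} {cT : Cone Ts} {g : cT.pt ⟶ cS.pt} (hg : ∀ a, g ≫ cS.π.app a = cT.π.app a ≫ gN.app a)
  (M : SSys Ts cT) {Ω : Type u} [Field Ω] [IsSepClosed Ω] (ξ : Spec (CommRingCat.of Ω) ⟶ cS.pt) (n : ℕ)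

section

variable {i j : ι} (hij : i ≤ j) {V₀ : (Ss.obj (op i)).Etale} {W : Scheme.{u}}
  (w : W ⟶ pullback V₀.hom (tau (𝟙 Ss) hij)) [hw : AlgebraicGeometry.Etale w]
  (p : pullback V₀.hom (cS.π.app (op i)) ⟶ pullback V₀.hom (tau (𝟙 Ss) hij))
  (hp₁ : p ≫ pullback.fst V₀.hom (tau (𝟙 Ss) hij) = pullback.fst V₀.hom (cS.π.app (op i)))
  (hp₂ : p ≫ pullback.snd V₀.hom (tau (𝟙 Ss) hij) = pullback.snd V₀.hom (cS.π.app (op i)) ≫ cS.π.app (op j))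

/-- `T ×_{S_j} W ⟶ S ×_{S_i} V₀` -/
noncomputable def θ₁ : ((EtCoh.bc (g ≫ cS.π.app (op j))).obj (W' hij w)).left ⟶
    ((EtCoh.bc (cS.π.app (op i))).obj V₀).left :=
  liftV (cS.π.app (op i)) V₀ (toV (g ≫ cS.π.app (op j)) (W' hij w) ≫ toV₀ hij w)
    (pr (g ≫ cS.π.app (op j)) (W' hij w) ≫ g) (by
      rw [Category.assoc, toV₀_hom, ← Category.assoc, toV_hom, Category.assoc, Category.assoc, Category.assoc, cS.w])

include hp₁ hp₂ in
theorem θ_cond : toV (g ≫ cS.π.app (op j)) (W' hij w) ≫ w = θ₁ (g := g) hij w ≫ p := by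
  apply pullback.hom_ext
  · refine (Category.assoc _ _ _).trans ?_
    refine Eq.trans ?_ (Category.assoc _ _ _).symm
    refine Eq.trans ?_ (congrArg (θ₁ (g := g) hij w ≫ ·) hp₁.symm)
    exact (liftV_toV (cS.π.app (op i)) V₀ _ _ _).symm
  · refine (Category.assoc _ _ _).trans ?_
    refine Eq.trans ?_ (Category.assoc _ _ _).symm
    refine Eq.trans ?_ (congrArg (θ₁ (g := g) hij w ≫ ·) hp₂.symm)
    refine (toV_hom (g ≫ cS.π.app (op j)) (W' hij w)).trans ?_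
    refine Eq.trans ?_ (Category.assoc _ _ _)
    refine Eq.trans ?_ (congrArg (· ≫ cS.π.app (op j)) (liftV_pr (cS.π.app (op i)) V₀ _ _ _).symm)
    exact (Category.assoc _ _ _).symm

/-- `T ×_{S_j} W ⟶ W ×_{S_j ×_{S_i} V₀} (S ×_{S_i} V₀)` -/
noncomputable def θ₀ : ((EtCoh.bc (g ≫ cS.π.app (op j))).obj (W' hij w)).left ⟶ pullback w p :=
  pullback.lift (toV (g ≫ cS.π.app (op j)) (W' hij w)) (θ₁ (g := g) hij w) (θ_cond hij w p hp₁ hp₂)

theorem θ₀_snd : θ₀ (g := g) hij w p hp₁ hp₂ ≫ pullback.snd w p = θ₁ hij w := pullback.lift_snd _ _ _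

variable {V' : cS.pt.Etale} (k : V' ⟶ (EtCoh.bc (cS.π.app (op i))).obj V₀) (h : pullback w p ⟶ V'.left)
  (hk : h ≫ k.left = pullback.snd w p)

include hk in
theorem θ_hom : (θ₀ (g := g) hij w p hp₁ hp₂ ≫ h) ≫ V'.hom = pr (g ≫ cS.π.app (op j)) (W' hij w) ≫ g := by
  have e1 : k.left ≫ ((EtCoh.bc (cS.π.app (op i))).obj V₀).hom = V'.hom := EtpbcB.Big.et_w k
  rw [← e1, Category.assoc, ← Category.assoc h, hk, ← Category.assoc]
  refine (congrArg (· ≫ ((EtCoh.bc (cS.π.app (op i))).obj V₀).hom) (θ₀_snd (g := g) hij w p hp₁ hp₂)).trans ?_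
  exact liftV_pr (cS.π.app (op i)) V₀ _ _ _

/-- `T ×_{S_j} W ⟶ T ×_S V'` -/
noncomputable def θ : ((EtCoh.bc (g ≫ cS.π.app (op j))).obj (W' hij w)).left ⟶ ((EtCoh.bc g).obj V').left :=
  liftV g V' (θ₀ (g := g) hij w p hp₁ hp₂ ≫ h) (pr (g ≫ cS.π.app (op j)) (W' hij w))
    (θ_hom hij w p hp₁ hp₂ k h hk)

theorem θ_pr : θ (g := g) hij w p hp₁ hp₂ k h hk ≫ pr g V' = pr (g ≫ cS.π.app (op j)) (W' hij w) :=
  liftV_pr _ _ _ _ _

theorem θ_toV : θ (g := g) hij w p hp₁ hp₂ k h hk ≫ toV g V' ≫ k.left = θ₁ hij w := by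
  have e := liftV_toV g V' (θ₀ (g := g) hij w p hp₁ hp₂ ≫ h) (pr (g ≫ cS.π.app (op j)) (W' hij w))
    (θ_hom hij w p hp₁ hp₂ k h hk)
  rw [← Category.assoc]
  refine (congrArg (· ≫ k.left) e).trans ?_
  rw [Category.assoc, hk]
  exact θ₀_snd (g := g) hij w p hp₁ hp₂

theorem θ_bcSq : θ (g := g) hij w p hp₁ hp₂ k h hk ≫ mm g k ≫
      bcSq (gN.app (op i)) (cS.π.app (op i)) g (cT.π.app (op i)) (hg (op i)).symm (toV (cS.π.app (op i)) V₀)
        (toV_hom (cS.π.app (op i)) V₀) =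
    prj gN (W' hij w) hg (g ≫ cS.π.app (op j)) rfl (le_refl j) ≫ rr gN hij w := by
  apply ext_bc
  · have e1 : mm g k ≫ toV g ((EtCoh.bc (cS.π.app (op i))).obj V₀) ≫ toV (cS.π.app (op i)) V₀ =
        (toV g V' ≫ k.left) ≫ toV (cS.π.app (op i)) V₀ := by
      rw [← Category.assoc, mm_toV]
    have e2 : θ₁ (g := g) hij w ≫ toV (cS.π.app (op i)) V₀ = toV (g ≫ cS.π.app (op j)) (W' hij w) ≫ toV₀ hij w :=
      liftV_toV (cS.π.app (op i)) V₀ _ _ _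
    rw [Category.assoc, Category.assoc, bcSq_toV, e1, ← Category.assoc, θ_toV, e2, Category.assoc, rr, liftV_toV,
      ← Category.assoc, prj_toV]
  · rw [Category.assoc, Category.assoc, bcSq_pr, ← Category.assoc (mm g k), mm_pr, ← Category.assoc, θ_pr,
      Category.assoc, rr, liftV_pr, ← Category.assoc, prj_pr, Category.assoc, cT.w]

end

variable [IsDirected ι (· ≤ ·)] (haffT : ∀ ⦃a b : ιᵒᵖ⦄ (m : a ⟶ b), IsAffineHom (Ts.map m))
  (haffS : ∀ ⦃a b : ιᵒᵖ⦄ (m : a ⟶ b), IsAffineHom (Ss.map m))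
  (hqc : ∀ a : ιᵒᵖ, QuasiCompact (gN.app a)) (hqs : ∀ a : ιᵒᵖ, QuasiSeparated (gN.app a)) (hcT : IsLimit cT)
  (hcS : IsLimit cS)

omit [IsSepClosed Ω] in
include haffS hcS in
theorem exists_W {i : ι} {V₀ : (Ss.obj (op i)).Etale} {V' : cS.pt.Etale}
    (k : V' ⟶ (EtCoh.bc (cS.π.app (op i))).obj V₀) (η : Spec (CommRingCat.of Ω) ⟶ V'.left) :
    ∃ (j : ι) (hij : i ≤ j) (W : Scheme.{u}) (w : W ⟶ pullback V₀.hom (tau (𝟙 Ss) hij))
      (_ : AlgebraicGeometry.Etale w) (_ : IsAffine W)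
      (p : pullback V₀.hom (cS.π.app (op i)) ⟶ pullback V₀.hom (tau (𝟙 Ss) hij))
      (_ : p ≫ pullback.fst V₀.hom (tau (𝟙 Ss) hij) = pullback.fst V₀.hom (cS.π.app (op i)))
      (_ : p ≫ pullback.snd V₀.hom (tau (𝟙 Ss) hij) = pullback.snd V₀.hom (cS.π.app (op i)) ≫ cS.π.app (op j))
      (h : pullback w p ⟶ V'.left) (η' : Spec (CommRingCat.of Ω) ⟶ pullback w p),
      h ≫ k.left = pullback.snd w p ∧ η' ≫ h = η := by
  have i1 : ∀ {a b : (Set.Ici i)ᵒᵖ} (m : a ⟶ b), IsAffineHom ((dsys (𝟙 Ss) V₀).map m) :=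
    fun m => d_aff (𝟙 Ss) V₀ haffS m
  have i2 : AlgebraicGeometry.Etale k.left := inferInstance
  have hgS : ∀ a, 𝟙 cS.pt ≫ cS.π.app a = cS.π.app a ≫ (𝟙 Ss : Ss ⟶ Ss).app a := fun a => by
    rw [Category.id_comp, NatTrans.id_app, Category.comp_id]
  obtain ⟨⟨⟨j, hij⟩⟩, W, w, hw, hW, h, η', h1, h2⟩ := @exists_nbhd (Set.Ici i)ᵒᵖ _ _ (dsys (𝟙 Ss) V₀) i1
    (dcone (𝟙 Ss) V₀ hgS (cS.π.app (op i)) (Category.id_comp _))
    (dlim (𝟙 Ss) V₀ hgS (cS.π.app (op i)) (Category.id_comp _) hcS) V'.left k.left i2 Ω _ η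
  have hp₁ := Etcore.PullbackSys.proj_fst ((incl i).op ⋙ Ss) (fun b => tau (𝟙 Ss) b.unop.2) V₀.hom
    (cS.whisker (incl i).op) (cS.π.app (op i)) (fun b => π_tau (𝟙 Ss) hgS _ (Category.id_comp _) b.unop.2)
    (op ⟨j, hij⟩)
  have hp₂ := Etcore.PullbackSys.proj_snd ((incl i).op ⋙ Ss) (fun b => tau (𝟙 Ss) b.unop.2) V₀.hom
    (cS.whisker (incl i).op) (cS.π.app (op i)) (fun b => π_tau (𝟙 Ss) hgS _ (Category.id_comp _) b.unop.2)
    (op ⟨j, hij⟩)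
  refine ⟨j, hij, W, w, hw, hW, Etcore.PullbackSys.proj ((incl i).op ⋙ Ss) (fun b => tau (𝟙 Ss) b.unop.2) V₀.hom
    (cS.whisker (incl i).op) (cS.π.app (op i)) (fun b => π_tau (𝟙 Ss) hgS _ (Category.id_comp _) b.unop.2)
    (op ⟨j, hij⟩), ?_, ?_, ?_⟩
  · exact hp₁
  · exact hp₂
  · exact ⟨h, η', h1, h2⟩

section

variable {i j : ι} (hij : i ≤ j) {V₀ : (Ss.obj (op i)).Etale} {W : Scheme.{u}}
  (w : W ⟶ pullback V₀.hom (tau (𝟙 Ss) hij)) [hw : AlgebraicGeometry.Etale w]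
  (p : pullback V₀.hom (cS.π.app (op i)) ⟶ pullback V₀.hom (tau (𝟙 Ss) hij))
  (hp₁ : p ≫ pullback.fst V₀.hom (tau (𝟙 Ss) hij) = pullback.fst V₀.hom (cS.π.app (op i)))
  (hp₂ : p ≫ pullback.snd V₀.hom (tau (𝟙 Ss) hij) = pullback.snd V₀.hom (cS.π.app (op i)) ≫ cS.π.app (op j))
  {V' : cS.pt.Etale} (k : V' ⟶ (EtCoh.bc (cS.π.app (op i))).obj V₀) (h : pullback w p ⟶ V'.left)
  (hk : h ≫ k.left = pullback.snd w p)

omit [IsDirected ι (· ≤ ·)] in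
theorem rr_pr : rr gN hij w ≫ pr (gN.app (op i)) V₀ =
    pr (tau gN (le_refl j)) (W' hij w) ≫ Ts.map (homOfLE hij).op := liftV_pr _ _ _ _ _

omit [IsDirected ι (· ≤ ·)] in
theorem rr_toV : rr gN hij w ≫ toV (gN.app (op i)) V₀ =
    toV (tau gN (le_refl j)) (W' hij w) ≫ toV₀ hij w := liftV_toV _ _ _ _ _

omit [IsDirected ι (· ≤ ·)] in
theorem prj_rr_pr : (prj gN (W' hij w) hg (g ≫ cS.π.app (op j)) rfl (le_refl j) ≫ rr gN hij w) ≫
    pr (gN.app (op i)) V₀ = pr (g ≫ cS.π.app (op j)) (W' hij w) ≫ cT.π.app (op i) := by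
  rw [Category.assoc, rr_pr, ← Category.assoc, prj_pr, Category.assoc, cT.w]

omit [IsDirected ι (· ≤ ·)] in
include hk hp₁ hp₂ in
/-- The class at stage `j` dies in the limit. -/
theorem stage_zero (c : HQ (M.F i) (pr (gN.app (op i)) V₀) n)
    (b : ((EtCoh.bc g).obj V').left ⟶ ((EtCoh.bc (gN.app (op i))).obj V₀).left)
    (hb : b = mm g k ≫ bcSq (gN.app (op i)) (cS.π.app (op i)) g (cT.π.app (op i)) (hg (op i)).symm
      (toV (cS.π.app (op i)) V₀) (toV_hom (cS.π.app (op i)) V₀))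
    (hb₁ : b ≫ pr (gN.app (op i)) V₀ = pr g V' ≫ cT.π.app (op i))
    (h0 : cl (M.α i) b (pr (gN.app (op i)) V₀) (pr g V') (pr g V' ≫ cT.π.app (op i)) hb₁ rfl n c = 0) :
    cl (M.α j) (prj gN (W' hij w) hg (g ≫ cS.π.app (op j)) rfl (le_refl j)) (pr (tau gN (le_refl j)) (W' hij w))
      (pr (g ≫ cS.π.app (op j)) (W' hij w)) (pr (g ≫ cS.π.app (op j)) (W' hij w) ≫ cT.π.app (op j))
      (prj_pr gN (W' hij w) hg (g ≫ cS.π.app (op j)) rfl (le_refl j)) rfl n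
      (cl (M.φ hij) (rr gN hij w) (pr (gN.app (op i)) V₀) (pr (tau gN (le_refl j)) (W' hij w))
        (pr (tau gN (le_refl j)) (W' hij w) ≫ Ts.map (homOfLE hij).op) (rr_pr gN hij w) rfl n c) = 0 := by
  have h4 := congrArg (res M.t.pt (θ (g := g) hij w p hp₁ hp₂ k h hk) (θ_pr hij w p hp₁ hp₂ k h hk) n) h0
  have e : θ (g := g) hij w p hp₁ hp₂ k h hk ≫ b =
      prj gN (W' hij w) hg (g ≫ cS.π.app (op j)) rfl (le_refl j) ≫ rr gN hij w := by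
    rw [hb]
    exact θ_bcSq gN hg hij w p hp₁ hp₂ k h hk
  rw [map_zero] at h4
  rw [cl_cl (cT.w (homOfLE hij).op) (M.hα hij) _ _ _ rfl _ _ _ _ _ _ _ _ _
      (pr (g ≫ cS.π.app (op j)) (W' hij w) ≫ cT.π.app (op i)) (prj_rr_pr gN hg hij w) rfl n c, ← h4]
  exact (res_cl (M.α i) _ _ _ _ _ _ _ _ _ _ e
      (pr (g ≫ cS.π.app (op j)) (W' hij w) ≫ cT.π.app (op i)) (prj_rr_pr gN hg hij w) rfl n c).symm

end

section final

variable {i j m : ι} (hij : i ≤ j) (hjm : j ≤ m) (h' : j ≤ m) {V₀ : (Ss.obj (op i)).Etale} {W : Scheme.{u}}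
  (w : W ⟶ pullback V₀.hom (tau (𝟙 Ss) hij)) [hw : AlgebraicGeometry.Etale w]

/-- `T_m ×_{S_m} (S_m ×_{S_j} W) ⟶ T_i ×_{S_i} V₀` -/
noncomputable def bb : ((EtCoh.bc (gN.app (op m))).obj ((EtCoh.bc (Ss.map (homOfLE h').op)).obj (W' hij w))).left ⟶
    ((EtCoh.bc (gN.app (op i))).obj V₀).left :=
  (isoB (gN.app (op m)) (Ss.map (homOfLE h').op) (tau gN h') rfl (W' hij w)).hom ≫
    trn gN (W' hij w) (le_refl j) hjm h' ≫ rr gN hij w

omit [IsDirected ι (· ≤ ·)] in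
theorem bb_toV : bb gN hij hjm h' w ≫ toV (gN.app (op i)) V₀ =
    toV (gN.app (op m)) ((EtCoh.bc (Ss.map (homOfLE h').op)).obj (W' hij w)) ≫
      toV (Ss.map (homOfLE h').op) (W' hij w) ≫ toV₀ hij w := by
  rw [bb, Category.assoc, Category.assoc, rr_toV, ← Category.assoc (trn gN (W' hij w) (le_refl j) hjm h'), trn_toV,
    ← Category.assoc, isoB_hom_toV, Category.assoc]

omit [IsDirected ι (· ≤ ·)] in
theorem trn_rr_pr : (trn gN (W' hij w) (le_refl j) hjm h' ≫ rr gN hij w) ≫ pr (gN.app (op i)) V₀ =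
    pr (tau gN h') (W' hij w) ≫ Ts.map (homOfLE (hij.trans hjm)).op := by
  rw [Category.assoc, rr_pr, ← Category.assoc, trn_pr, Category.assoc, ← Ts.map_comp]
  rfl

omit [IsDirected ι (· ≤ ·)] in
theorem bb_pr : bb gN hij hjm h' w ≫ pr (gN.app (op i)) V₀ =
    pr (gN.app (op m)) ((EtCoh.bc (Ss.map (homOfLE h').op)).obj (W' hij w)) ≫
      Ts.map (homOfLE (hij.trans hjm)).op := by
  rw [bb, Category.assoc, trn_rr_pr, ← Category.assoc, isoB_hom_pr]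

omit [IsDirected ι (· ≤ ·)] in
theorem res_stage (c : HQ (M.F i) (pr (gN.app (op i)) V₀) n) :
    res (M.F m) (isoB (gN.app (op m)) (Ss.map (homOfLE h').op) (tau gN h') rfl (W' hij w)).hom
      (isoB_hom_pr _ _ _ _ _) n
      (cl (M.φ hjm) (trn gN (W' hij w) (le_refl j) hjm h') (pr (tau gN (le_refl j)) (W' hij w))
        (pr (tau gN h') (W' hij w)) (pr (tau gN h') (W' hij w) ≫ Ts.map (homOfLE hjm).op)
        (trn_pr gN (W' hij w) (le_refl j) hjm h') rfl n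
        (cl (M.φ hij) (rr gN hij w) (pr (gN.app (op i)) V₀) (pr (tau gN (le_refl j)) (W' hij w))
          (pr (tau gN (le_refl j)) (W' hij w) ≫ Ts.map (homOfLE hij).op) (rr_pr gN hij w) rfl n c)) =
    cl (M.φ (hij.trans hjm)) (bb gN hij hjm h' w) (pr (gN.app (op i)) V₀)
      (pr (gN.app (op m)) ((EtCoh.bc (Ss.map (homOfLE h').op)).obj (W' hij w)))
      (pr (gN.app (op m)) ((EtCoh.bc (Ss.map (homOfLE h').op)).obj (W' hij w)) ≫
        Ts.map (homOfLE (hij.trans hjm)).op) (bb_pr gN hij hjm h' w) rfl n c := by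
  rw [cl_cl (Ts.map_comp (homOfLE hjm).op (homOfLE hij).op).symm (M.hφ hij hjm) _ _ _ rfl _ _ _ _ _ _ _ _ _
      (pr (tau gN h') (W' hij w) ≫ Ts.map (homOfLE (hij.trans hjm)).op) (trn_rr_pr gN hij hjm h' w) rfl n c]
  exact res_cl (M.φ (hij.trans hjm)) _ _ _ _ _ _ _ _ _ _ rfl _ (bb_pr gN hij hjm h' w) rfl n c

end final

include haffT haffS hqc hqs hcT hcS in
/-- An element of the stalk at a stage which dies in the limit dies at a later stage. -/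
theorem lam_inj (i : ι) (y : St (gN.app (op i)) (ξ ≫ cS.π.app (op i)) n (M.F i))
    (hy : lamj gN hg M ξ n i y = 0) : ∃ (j : ι) (h : i ≤ j), lamij gN M ξ n h y = 0 := by
  obtain ⟨V₀, x₀, c, rfl⟩ := exists_rho_eq (gN.app (op i)) (ξ ≫ cS.π.app (op i)) n (M.F i) y
  let x : Fib ξ ((EtCoh.bc (cS.π.app (op i))).obj V₀) :=
    liftF (cS.π.app (op i)) ξ V₀ (Etcore.StalkSec.hom _ x₀) (Etcore.StalkSec.hom_comp _ x₀)
  have hx : Etcore.StalkSec.hom ξ x ≫ toV (cS.π.app (op i)) V₀ = Etcore.StalkSec.hom _ x₀ := hom_liftF _ _ _ _ _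
  rw [lamj, Lam_rho (hg (op i)).symm ξ (ξ ≫ cS.π.app (op i)) rfl (M.α i) n (toV (cS.π.app (op i)) V₀)
    (toV_hom (cS.π.app (op i)) V₀) x₀ x hx c] at hy
  obtain ⟨V', k, x', hx', h0⟩ := exists_res_eq_zero g ξ x n M.t.pt _ hy
  have hb₁ : (mm g k ≫ bcSq (gN.app (op i)) (cS.π.app (op i)) g (cT.π.app (op i)) (hg (op i)).symm
      (toV (cS.π.app (op i)) V₀) (toV_hom (cS.π.app (op i)) V₀)) ≫ pr (gN.app (op i)) V₀ =
      pr g V' ≫ cT.π.app (op i) := by rw [Category.assoc, bcSq_pr, ← Category.assoc, mm_pr]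
  rw [res_cl (M.α i) _ _ _ _ _ _ (mm g k) _ (mm_pr g k) _ rfl (pr g V' ≫ cT.π.app (op i)) hb₁ rfl n c] at h0
  obtain ⟨j, hij, W, w, hw, hW, p, hp₁, hp₂, h, η', h1, h2⟩ := exists_W haffS hcS k (Etcore.StalkSec.hom ξ x')
  have hW' : IsAffine (W' hij w).left := hW
  have h3 := stage_zero gN hg M n hij w p hp₁ hp₂ k h h1 c _ rfl hb₁ h0
  obtain ⟨m, hjm, h', h4⟩ := d_inj gN (W' hij w) hg (g ≫ cS.π.app (op j)) rfl haffT haffS hqc hqs hcT hW' M n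
    (le_refl j) _ h3
  refine ⟨m, hij.trans hjm, ?_⟩
  have e0 : η' ≫ pullback.snd w p = Etcore.StalkSec.hom ξ x := by
    refine (congrArg (η' ≫ ·) h1.symm).trans ?_
    refine (Category.assoc _ _ _).symm.trans ?_
    refine (congrArg (· ≫ k.left) h2).trans ?_
    exact congrArg (Etcore.StalkSec.hom ξ) hx'
  have e1 : (η' ≫ pullback.fst w p) ≫ w = Etcore.StalkSec.hom ξ x ≫ p := by
    refine (Category.assoc _ _ _).trans ?_
    refine (congrArg (η' ≫ ·) pullback.condition).trans ?_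
    exact (Category.assoc _ _ _).symm.trans (congrArg (· ≫ p) e0)
  have e4 : (η' ≫ pullback.fst w p) ≫ toV₀ hij w = Etcore.StalkSec.hom _ x₀ := by
    refine Eq.trans ?_ hx
    refine (Category.assoc _ _ _).symm.trans ?_
    refine (congrArg (· ≫ pullback.fst V₀.hom (tau (𝟙 Ss) hij)) e1).trans ?_
    refine (Category.assoc _ _ _).trans ?_
    exact congrArg (Etcore.StalkSec.hom ξ x ≫ ·) hp₁
  have e5 : (η' ≫ pullback.fst w p) ≫ (W' hij w).hom = (ξ ≫ cS.π.app (op m)) ≫ Ss.map (homOfLE h').op := by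
    rw [comp_π]
    refine (Category.assoc _ _ _).symm.trans ?_
    refine (congrArg (· ≫ pullback.snd V₀.hom (tau (𝟙 Ss) hij)) e1).trans ?_
    refine (Category.assoc _ _ _).trans ?_
    refine (congrArg (Etcore.StalkSec.hom ξ x ≫ ·) hp₂).trans ?_
    refine (Category.assoc _ _ _).symm.trans ?_
    exact congrArg (· ≫ cS.π.app (op j)) (Etcore.StalkSec.hom_comp ξ x)
  let y : Fib (ξ ≫ cS.π.app (op m)) ((EtCoh.bc (Ss.map (homOfLE h').op)).obj (W' hij w)) := liftF _ _ _ _ e5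
  have hy' : Etcore.StalkSec.hom _ y ≫ toV (Ss.map (homOfLE h').op) (W' hij w) = η' ≫ pullback.fst w p :=
    hom_liftF _ _ _ _ _
  have q1 : (toV (Ss.map (homOfLE h').op) (W' hij w) ≫ toV₀ hij w) ≫ V₀.hom =
      ((EtCoh.bc (Ss.map (homOfLE h').op)).obj (W' hij w)).hom ≫ Ss.map (homOfLE (hij.trans hjm)).op := by
    rw [Category.assoc, toV₀_hom, ← Category.assoc, toV_hom, Category.assoc, ← Ss.map_comp]
    rfl
  rw [lamij, Lam_rho' (gN.naturality (homOfLE (hij.trans hjm)).op) _ _ _ (M.φ (hij.trans hjm)) n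
    (toV (Ss.map (homOfLE h').op) (W' hij w) ≫ toV₀ hij w) q1 x₀ y
    ((Category.assoc _ _ _).symm.trans ((congrArg (· ≫ toV₀ hij w) hy').trans e4))
    (bb gN hij hjm h' w) (bb_toV gN hij hjm h' w) _ (bb_pr gN hij hjm h' w) rfl c, ← res_stage, h4, map_zero,
    map_zero]

end K558.StageLim
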