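import Groth.Agent.EtBC.K558.DEps
import Groth.Agent.EtBC.K558.DDev
import Groth.Agent.EtBC.K558.StageInj

/-!
# Stalks of derived direct images on a limit

For `gN : Ts ⟶ Ss` with limit `g : T ⟶ S`, and `v i : Ts i ⟶ T₀` compatible, `vT : T ⟶ T₀`, `K ∈ D^+(T₀)`:

* `dsurj`: every element of `(H^0 Rg_* vT⁻¹ K)_ξ` comes from some `(H^0 Rg_{j*} v_j⁻¹ K)_ξ_j`;
* `dinj`: an element of `(H^0 Rg_{i*} v_i⁻¹ K)_ξ_i` which dies in the limit dies at a stage.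
-/

set_option autoImplicit false
universe u
open CategoryTheory CategoryTheory.Limits AlgebraicGeometry Opposite Abelian
open scoped Groth.Agent.Sga4B.EtAbInst
open scoped Groth.Agent.Etcore.EtInst
open Groth.Agent.Etcore.EtInst

attribute [local instance] HasDerivedCategory.standard

noncomputable section
namespace K558.DSt

open Groth.Agent Groth.Agent.Etrest.DEtPush K558.DTh K558.DDelta K558.DGam K558.Rho K558.LimCl K558.ClsLim
  K558.LamBC K558.StageLim Groth.Agent.Etcore.PullCoh K558.DEps K558.DDev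

variable {ι : Type u} [Preorder ι] {Ts : ιᵒᵖ ⥤ Scheme.{u}} {cT : Cone Ts} {T₀ : Scheme.{u}}
  (v : ∀ i : ι, Ts.obj (op i) ⟶ T₀) (hv : ∀ ⦃i j : ι⦄ (h : i ≤ j), Ts.map (homOfLE h).op ≫ v i = v j)
  (vT : cT.pt ⟶ T₀) (hvT : ∀ i, cT.π.app (op i) ≫ v i = vT)

section const

variable (F : EtCoh.Ab T₀)

include hv in
theorem c_tri ⦃i j k : ι⦄ (hij : i ≤ j) (hjk : j ≤ k) : Tri (Ts.map (homOfLE hjk).op) (Ts.map (homOfLE hij).op)
    (Ts.map (homOfLE (hij.trans hjk)).op) (Ts.map_comp (homOfLE hjk).op (homOfLE hij).op).symm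
    (th (Ts.map (homOfLE hij).op) (v i) (v j) (hv hij) F) (th (Ts.map (homOfLE hjk).op) (v j) (v k) (hv hjk) F)
    (th (Ts.map (homOfLE (hij.trans hjk)).op) (v i) (v k) (hv (hij.trans hjk)) F) :=
  (th_assoc _ _ _ _ _ _ _ _ _ _ F).symm

theorem c_tri' ⦃i j : ι⦄ (hij : i ≤ j) : Tri (cT.π.app (op j)) (Ts.map (homOfLE hij).op) (cT.π.app (op i))
    (cT.w (homOfLE hij).op) (th (Ts.map (homOfLE hij).op) (v i) (v j) (hv hij) F)
    (th (cT.π.app (op j)) (v j) vT (hvT j) F) (th (cT.π.app (op i)) (v i) vT (hvT i) F) :=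
  (th_assoc _ _ _ _ _ _ _ _ _ _ F).symm

/-- The isomorphism. -/
def thI {X Y Z : Scheme.{u}} (g : X ⟶ Y) (f : Y ⟶ Z) (gf : X ⟶ Z) (w : g ≫ f = gf) (F : EtCoh.Ab Z) :
    (EtCoh.pull g).obj ((EtCoh.pull f).obj F) ≅ (EtCoh.pull gf).obj F := (theta g f gf w).app F

theorem thI_hom {X Y Z : Scheme.{u}} (g : X ⟶ Y) (f : Y ⟶ Z) (gf : X ⟶ Z) (w : g ≫ f = gf) (F : EtCoh.Ab Z) :
    (thI g f gf w F).hom = th g f gf w F := rfl

theorem c_psi ⦃i j : ι⦄ (hij : i ≤ j) : Tri (cT.π.app (op j)) (Ts.map (homOfLE hij).op) (cT.π.app (op i))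
    (cT.w (homOfLE hij).op) (th (Ts.map (homOfLE hij).op) (v i) (v j) (hv hij) F)
    (thI (cT.π.app (op j)) (v j) vT (hvT j) F).hom ((thI (cT.π.app (op i)) (v i) vT (hvT i) F).hom ≫
      ((Functor.const ι).obj ((EtCoh.pull vT).obj F)).map (homOfLE hij)) := by
  have e : (thI (cT.π.app (op i)) (v i) vT (hvT i) F).hom ≫
      ((Functor.const ι).obj ((EtCoh.pull vT).obj F)).map (homOfLE hij) = th (cT.π.app (op i)) (v i) vT (hvT i) F :=
    Category.comp_id _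
  rw [e]
  exact c_tri' v hv vT hvT F hij

/-- The constant system. -/
def cSys [Nonempty ι] [IsDirected ι (· ≤ ·)] : SSys Ts cT where
  F i := (EtCoh.pull (v i)).obj F
  φ i j h := th (Ts.map (homOfLE h).op) (v i) (v j) (hv h) F
  hφ _ _ _ hij hjk := c_tri v hv F hij hjk
  G := (Functor.const ι).obj ((EtCoh.pull vT).obj F)
  ψ i := thI (cT.π.app (op i)) (v i) vT (hvT i) F
  hψ _ _ hij := c_psi v hv vT hvT F hij
  t := constCocone ι ((EtCoh.pull vT).obj F)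
  ht := have := IsFiltered.isConnected ι
    isColimitConstCocone ι ((EtCoh.pull vT).obj F)

theorem cSys_α [Nonempty ι] [IsDirected ι (· ≤ ·)] (i : ι) : (cSys v hv vT hvT F).α i = th (cT.π.app (op i)) (v i) vT (hvT i) F :=
  Category.comp_id _

end const

section sys

variable {Ss : ιᵒᵖ ⥤ Scheme.{u}} {cS : Cone Ss} (gN : Ts ⟶ Ss) {g : cT.pt ⟶ cS.pt}
  (hg : ∀ a, g ≫ cS.π.app a = cT.π.app a ≫ gN.app a) {Ω : Type u} [Field Ω] [IsSepClosed Ω] (ξ : pt Ω ⟶ cS.pt)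

/-- `K ↦ (H^0 Rg_{i*} v_i⁻¹ K)_{ξ_i}` -/
def HC (i : ι) : DCoh.DEt T₀ ⥤ AddCommGrpCat.{u + 1} :=
  pullD (v i) ⋙ GD (gN.app (op i)) (ξ ≫ cS.π.app (op i))

instance (i : ι) : (HC v gN ξ i).IsHomological :=
  inferInstanceAs (pullD (v i) ⋙ GD (gN.app (op i)) (ξ ≫ cS.π.app (op i))).IsHomological

/-- `K ↦ (H^0 Rg_* vT⁻¹ K)_ξ` -/
def HB (vT : cT.pt ⟶ T₀) (g : cT.pt ⟶ cS.pt) (ξ : pt Ω ⟶ cS.pt) : DCoh.DEt T₀ ⥤ AddCommGrpCat.{u + 1} :=
  pullD vT ⋙ GD g ξ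

instance : (HB vT g ξ).IsHomological := inferInstanceAs (pullD vT ⋙ GD g ξ).IsHomological

/-- The transition maps. -/
def tauC {i j : ι} (h : i ≤ j) (K : DCoh.DEt T₀) : (HC v gN ξ i).obj K ⟶ (HC v gN ξ j).obj K :=
  DLam (gN.naturality (homOfLE h).op) (ξ ≫ cS.π.app (op j)) (ξ ≫ cS.π.app (op i)) (comp_π ξ h)
    ((thD (Ts.map (homOfLE h).op) (v i) (v j) (hv h)).app K)

/-- The maps to the limit. -/
def lamC (i : ι) (K : DCoh.DEt T₀) : (HC v gN ξ i).obj K ⟶ (HB vT g ξ).obj K :=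
  DLam (hg (op i)).symm ξ (ξ ≫ cS.π.app (op i)) rfl ((thD (cT.π.app (op i)) (v i) vT (hvT i)).app K)

theorem tauC_nat {i j : ι} (h : i ≤ j) {K L : DCoh.DEt T₀} (φ : K ⟶ L) :
    (HC v gN ξ i).map φ ≫ tauC v hv gN ξ h L = tauC v hv gN ξ h K ≫ (HC v gN ξ j).map φ :=
  DLam_nat (gN.naturality (homOfLE h).op) (ξ ≫ cS.π.app (op j)) (ξ ≫ cS.π.app (op i)) (comp_π ξ h)
    ((thD (Ts.map (homOfLE h).op) (v i) (v j) (hv h)).app K) ((thD (Ts.map (homOfLE h).op) (v i) (v j) (hv h)).app L)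
    ((pullD (v i)).map φ) ((pullD (v j)).map φ) (thD_nat (Ts.map (homOfLE h).op) (v i) (v j) (hv h) φ)

theorem lamC_nat (i : ι) {K L : DCoh.DEt T₀} (φ : K ⟶ L) :
    (HC v gN ξ i).map φ ≫ lamC v vT hvT gN hg ξ i L = lamC v vT hvT gN hg ξ i K ≫ (HB vT g ξ).map φ :=
  DLam_nat (hg (op i)).symm ξ (ξ ≫ cS.π.app (op i)) rfl
    ((thD (cT.π.app (op i)) (v i) vT (hvT i)).app K) ((thD (cT.π.app (op i)) (v i) vT (hvT i)).app L)
    ((pullD (v i)).map φ) ((pullD vT).map φ) (thD_nat (cT.π.app (op i)) (v i) vT (hvT i) φ)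

theorem tauC_tauC {i j k : ι} (hij : i ≤ j) (hjk : j ≤ k) (K : DCoh.DEt T₀) :
    tauC v hv gN ξ hij K ≫ tauC v hv gN ξ hjk K = tauC v hv gN ξ (hij.trans hjk) K := by
  refine DLam_DLam _ _ _ (Ts.map_comp (homOfLE hjk).op (homOfLE hij).op).symm
    (Ss.map_comp (homOfLE hjk).op (homOfLE hij).op).symm _ _ _ _ _ _ ?_
  exact (thD_assoc _ _ _ _ _ _ _ _ _ _ K).symm

theorem tauC_lamC {i j : ι} (h : i ≤ j) (K : DCoh.DEt T₀) :
    tauC v hv gN ξ h K ≫ lamC v vT hvT gN hg ξ j K = lamC v vT hvT gN hg ξ i K := by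
  refine DLam_DLam _ _ _ (cT.w (homOfLE h).op) (cS.w (homOfLE h).op) _ _ _ _ _ _ ?_
  exact (thD_assoc _ _ _ _ _ _ _ _ _ _ K).symm

/-- The transition maps. -/
def tauN {i j : ι} (h : i ≤ j) : HC v gN ξ i ⟶ HC v gN ξ j where
  app K := tauC v hv gN ξ h K
  naturality _ _ φ := tauC_nat v hv gN ξ h φ

/-- The maps to the limit. -/
def lamN (i : ι) : HC v gN ξ i ⟶ HB vT g ξ where
  app K := lamC v vT hvT gN hg ξ i K
  naturality _ _ φ := lamC_nat v vT hvT gN hg ξ i φ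

theorem tauN_tauN {i j k : ι} (hij : i ≤ j) (hjk : j ≤ k) :
    tauN v hv gN ξ hij ≫ tauN v hv gN ξ hjk = tauN v hv gN ξ (hij.trans hjk) :=
  NatTrans.ext (funext fun K => tauC_tauC v hv gN ξ hij hjk K)

theorem tauN_lamN {i j : ι} (h : i ≤ j) :
    tauN v hv gN ξ h ≫ lamN v vT hvT gN hg ξ j = lamN v vT hvT gN hg ξ i :=
  NatTrans.ext (funext fun K => tauC_lamC v hv vT hvT gN hg ξ h K)

/-- The system of homological functors. -/
def dsys : DSys.{u + 1} ι (DCoh.DEt T₀) where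
  H := HC v gN ξ
  hH _ := inferInstance
  τ h := tauN v hv gN ξ h
  hτ hij hjk := tauN_tauN v hv gN ξ hij hjk
  B := HB vT g ξ
  hB := inferInstance
  l i := lamN v vT hvT gN hg ξ i
  hl h := tauN_lamN v hv vT hvT gN hg ξ h

section base

variable [Nonempty ι] [IsDirected ι (· ≤ ·)] (haffT : ∀ ⦃a b : ιᵒᵖ⦄ (m : a ⟶ b), IsAffineHom (Ts.map m))
  (haffS : ∀ ⦃a b : ιᵒᵖ⦄ (m : a ⟶ b), IsAffineHom (Ss.map m))
  (hqc : ∀ a : ιᵒᵖ, QuasiCompact (gN.app a)) (hqs : ∀ a : ιᵒᵖ, QuasiSeparated (gN.app a)) (hcT : IsLimit cT)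
  (hcS : IsLimit cS) (n : ℕ) (F : EtCoh.Ab T₀)

include haffT haffS hqc hqs hcT hcS hv

theorem c_surj (z : St g ξ n ((EtCoh.pull vT).obj F)) :
    ∃ (j : ι) (y : St (gN.app (op j)) (ξ ≫ cS.π.app (op j)) n ((EtCoh.pull (v j)).obj F)),
      Lam (hg (op j)).symm ξ (ξ ≫ cS.π.app (op j)) rfl (th (cT.π.app (op j)) (v j) vT (hvT j) F) n y = z := by
  obtain ⟨j, y, hy⟩ := lam_surj gN hg (cSys v hv vT hvT F) ξ n haffT haffS hqc hqs hcT hcS z
  refine ⟨j, y, ?_⟩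
  rw [← cSys_α v hv vT hvT F j]
  exact hy

theorem c_inj (i : ι) (y : St (gN.app (op i)) (ξ ≫ cS.π.app (op i)) n ((EtCoh.pull (v i)).obj F))
    (hy : Lam (hg (op i)).symm ξ (ξ ≫ cS.π.app (op i)) rfl (th (cT.π.app (op i)) (v i) vT (hvT i) F) n y = 0) :
    ∃ (j : ι) (h : i ≤ j), Lam (gN.naturality (homOfLE h).op) (ξ ≫ cS.π.app (op j)) (ξ ≫ cS.π.app (op i))
      (comp_π ξ h) (th (Ts.map (homOfLE h).op) (v i) (v j) (hv h) F) n y = 0 := by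
  rw [← cSys_α v hv vT hvT F i] at hy
  exact lam_inj gN hg (cSys v hv vT hvT F) ξ n haffT haffS hqc hqs hcT hcS i y hy

theorem b_surj : (dsys v hv vT hvT gN hg ξ).Surj (Sn (n : ℤ) F) := by
  intro x
  obtain ⟨z, rfl⟩ := (eps_bijective g ξ vT n F).2 x
  obtain ⟨j, y, rfl⟩ := c_surj v hv vT hvT gN hg ξ haffT haffS hqc hqs hcT hcS n F z
  refine ⟨j, eps (gN.app (op j)) (ξ ≫ cS.π.app (op j)) (v j) n F y, ?_⟩
  exact (eps_Lam (hg (op j)).symm ξ (ξ ≫ cS.π.app (op j)) rfl n (v j) vT (hvT j) F y).symm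

theorem b_inj : (dsys v hv vT hvT gN hg ξ).Inj (Sn (n : ℤ) F) := by
  intro i x hx
  obtain ⟨y, rfl⟩ := (eps_bijective (gN.app (op i)) (ξ ≫ cS.π.app (op i)) (v i) n F).2 x
  have h1 := eps_Lam (hg (op i)).symm ξ (ξ ≫ cS.π.app (op i)) rfl n (v i) vT (hvT i) F y
  have h2 : eps g ξ vT n F (Lam (hg (op i)).symm ξ (ξ ≫ cS.π.app (op i)) rfl
      (th (cT.π.app (op i)) (v i) vT (hvT i) F) n y) = 0 := h1.trans hx
  obtain ⟨j, h, hj⟩ := c_inj v hv vT hvT gN hg ξ haffT haffS hqc hqs hcT hcS n F i y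
    ((injective_iff_map_eq_zero _).1 (eps_bijective g ξ vT n F).1 _ h2)
  refine ⟨j, h, ?_⟩
  have h3 := eps_Lam (gN.naturality (homOfLE h).op) (ξ ≫ cS.π.app (op j)) (ξ ≫ cS.π.app (op i)) (comp_π ξ h) n
    (v i) (v j) (hv h) F y
  rw [hj, map_zero] at h3
  exact h3.symm

omit n F in
/-- **Every element of the stalk comes from a stage; an element which dies in the limit dies at a stage.** -/
theorem main (a : ℤ) (K : DCoh.DEt T₀) [K.IsGE a] (n : ℤ) :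
    (dsys v hv vT hvT gN hg ξ).Surj (K⟦n⟧) ∧ (dsys v hv vT hvT gN hg ξ).Inj (K⟦n⟧) := by
  refine devissage (dsys v hv vT hvT gN hg ξ) (fun K _ => ?_) (fun i K _ => ?_) (fun n F =>
    ⟨b_surj v hv vT hvT gN hg ξ haffT haffS hqc hqs hcT hcS n F,
      b_inj v hv vT hvT gN hg ξ haffT haffS hqc hqs hcT hcS n F⟩) a K n
  · have h1 := Groth.Agent.Dcoh.MapDer.isGE_map (EtCoh.pull vT) 1 K
    exact K558.DTrans.GDA_zero (stk Ω) (EtCoh.push g) (EtCoh.pull ξ) ((pullD vT).obj K)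
  · have h1 := Groth.Agent.Dcoh.MapDer.isGE_map (EtCoh.pull (v i)) 1 K
    exact K558.DTrans.GDA_zero (stk Ω) (EtCoh.push (gN.app (op i))) (EtCoh.pull (ξ ≫ cS.π.app (op i)))
      ((pullD (v i)).obj K)

end base

end sys

end K558.DSt
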