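import Groth.Agent.EtBC.K558.DCrit
import Groth.Agent.EtBC.K558.DSt

/-!
# Derived base change maps on a limit of cartesian squares

`isIso_limit`: if the base change maps of all stages are isomorphisms then so is that of the limit.
-/

set_option autoImplicit false
set_option linter.unusedSectionVars false
universe u w v' u₁ w'
open CategoryTheory CategoryTheory.Limits AlgebraicGeometry Opposite Abelian

attribute [local instance] HasDerivedCategory.standard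

noncomputable section
namespace K558.DFin

open Groth.Agent Groth.Agent.Etrest.DEtPush K558.DTh K558.DGam K558.DSt K558.DCrit K558.DDev K558.StageLim

section abs

variable {J : Type w'} [Preorder J] {C : Type u₁} [Category.{v'} C] [HasZeroObject C] [HasShift C ℤ] [Preadditive C]
  [∀ n : ℤ, (shiftFunctor C n).Additive] [Pretriangulated C] {M M' : DSys.{w} J C} {K : C}
  (d : ∀ j : J, (M.H j).obj K ⟶ (M'.H j).obj K) (D : M.B.obj K ⟶ M'.B.obj K)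

theorem chase (h₁ : ∀ j, (M.l j).app K ≫ D = d j ≫ (M'.l j).app K)
    (h₂ : ∀ {i j : J} (h : i ≤ j), (M.τ h).app K ≫ d j = d i ≫ (M'.τ h).app K) (hd : ∀ j, IsIso (d j))
    (hM : M.Surj K) (hM' : M'.Surj K) (hI : M'.Inj K) : IsIso D := by
  have hd' : ∀ j, Function.Bijective (d j).hom := fun j => by
    have := hd j
    exact ConcreteCategory.bijective_of_isIso (d j)
  have e₁ : ∀ (j : J) (y : (M.H j).obj K), D.hom (((M.l j).app K).hom y) = ((M'.l j).app K).hom ((d j).hom y) :=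
    fun j y => ConcreteCategory.congr_hom (h₁ j) y
  have e₂ : ∀ {i j : J} (h : i ≤ j) (y : (M.H i).obj K), (d j).hom (((M.τ h).app K).hom y) =
      ((M'.τ h).app K).hom ((d i).hom y) := fun h y => ConcreteCategory.congr_hom (h₂ h) y
  refine (ConcreteCategory.isIso_iff_bijective D).2 ⟨?_, ?_⟩
  · refine (injective_iff_map_eq_zero D.hom).2 fun y hy => ?_
    obtain ⟨j, v, rfl⟩ := hM y
    rw [e₁] at hy
    obtain ⟨k, hjk, hk⟩ := hI j _ hy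
    rw [← e₂] at hk
    have h0 := (injective_iff_map_eq_zero _).1 (hd' k).1 _ hk
    rw [← M.l_τ hjk, h0, map_zero]
  · intro z
    obtain ⟨j, w, rfl⟩ := hM' z
    obtain ⟨v, rfl⟩ := (hd' j).2 w
    exact ⟨((M.l j).app K).hom v, e₁ j v⟩

end abs

variable {ι : Type u} [Preorder ι] [Nonempty ι] [IsDirected ι (· ≤ ·)]
    {Xs Ss Ts Ys : ιᵒᵖ ⥤ Scheme.{u}} (fN : Xs ⟶ Ss) (gN : Ts ⟶ Ss) (hN : Ys ⟶ Xs) (eN : Ys ⟶ Ts)
    (sq : ∀ a : ιᵒᵖ, eN.app a ≫ gN.app a = hN.app a ≫ fN.app a)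
    (hgqc : ∀ a : ιᵒᵖ, QuasiCompact (gN.app a)) (hgqs : ∀ a : ιᵒᵖ, QuasiSeparated (gN.app a))
    (hhqc : ∀ a : ιᵒᵖ, QuasiCompact (hN.app a)) (hhqs : ∀ a : ιᵒᵖ, QuasiSeparated (hN.app a))
    (hX : ∀ ⦃a b : ιᵒᵖ⦄ (m : a ⟶ b), IsAffineHom (Xs.map m))
    (hS : ∀ ⦃a b : ιᵒᵖ⦄ (m : a ⟶ b), IsAffineHom (Ss.map m))
    (hT : ∀ ⦃a b : ιᵒᵖ⦄ (m : a ⟶ b), IsAffineHom (Ts.map m))
    (hY : ∀ ⦃a b : ιᵒᵖ⦄ (m : a ⟶ b), IsAffineHom (Ys.map m))
    {cX : Cone Xs} (hcX : IsLimit cX) {cS : Cone Ss} (hcS : IsLimit cS)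
    {cT : Cone Ts} (hcT : IsLimit cT) {cY : Cone Ys} (hcY : IsLimit cY)
    (f : cX.pt ⟶ cS.pt) (g : cT.pt ⟶ cS.pt) (h : cY.pt ⟶ cX.pt) (e : cY.pt ⟶ cT.pt)
    (hf : ∀ a, f ≫ cS.π.app a = cX.π.app a ≫ fN.app a) (hg : ∀ a, g ≫ cS.π.app a = cT.π.app a ≫ gN.app a)
    (hh : ∀ a, h ≫ cX.π.app a = cY.π.app a ≫ hN.app a) (he : ∀ a, e ≫ cT.π.app a = cY.π.app a ≫ eN.app a)
    (c : e ≫ g = h ≫ f) {T₀ : Scheme.{u}} (v : ∀ i : ι, Ts.obj (op i) ⟶ T₀)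
    (hv : ∀ ⦃i j : ι⦄ (h : i ≤ j), Ts.map (homOfLE h).op ≫ v i = v j)
    (vT : cT.pt ⟶ T₀) (hvT : ∀ i, cT.π.app (op i) ≫ v i = vT)

section chase

variable {Ω : Type u} [Field Ω] [IsSepClosed Ω] (ξ : pt Ω ⟶ cX.pt)

include hv in
theorem hv' ⦃i j : ι⦄ (h : i ≤ j) : Ys.map (homOfLE h).op ≫ eN.app (op i) ≫ v i = eN.app (op j) ≫ v j := by
  rw [← Category.assoc, eN.naturality, Category.assoc, hv]

include he hvT in
theorem hvT' (i : ι) : cY.π.app (op i) ≫ eN.app (op i) ≫ v i = e ≫ vT := by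
  rw [← Category.assoc, ← he, Category.assoc, hvT]

include hf in
theorem e1 (j : ι) : (ξ ≫ cX.π.app (op j)) ≫ fN.app (op j) = (ξ ≫ f) ≫ cS.π.app (op j) := by
  rw [Category.assoc, Category.assoc, hf]

/-- The base change map on stalks at a stage. -/
def dlj (j : ι) (K : DCoh.DEt T₀) : (HC v gN (ξ ≫ f) j).obj K ⟶ (HC (fun i => eN.app (op i) ≫ v i) hN ξ j).obj K :=
  dl (sq (op j)) (ξ ≫ cX.π.app (op j)) ((ξ ≫ f) ≫ cS.π.app (op j)) (e1 fN f hf ξ j) (v j) (eN.app (op j) ≫ v j) rfl K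

/-- The base change map on stalks. -/
def dlT (K : DCoh.DEt T₀) : (HB vT g (ξ ≫ f)).obj K ⟶ (HB (e ≫ vT) h ξ).obj K :=
  dl c ξ (ξ ≫ f) rfl vT (e ≫ vT) rfl K

theorem comm₁ (j : ι) (K : DCoh.DEt T₀) :
    lamC v vT hvT gN hg (ξ ≫ f) j K ≫ dlT f g h e c vT ξ K =
      dlj fN gN hN eN sq f hf v ξ j K ≫
        lamC (fun i => eN.app (op i) ≫ v i) (e ≫ vT) (hvT' eN e he v vT hvT) hN hh ξ j K := by
  have w'' : (cY.π.app (op j) ≫ eN.app (op j)) ≫ gN.app (op j) = h ≫ f ≫ cS.π.app (op j) := by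
    rw [← he, Category.assoc, ← hg, ← Category.assoc, c, Category.assoc]
  have h'' : ξ ≫ f ≫ cS.π.app (op j) = (ξ ≫ f) ≫ cS.π.app (op j) := (Category.assoc _ _ _).symm
  have hv'' : (cY.π.app (op j) ≫ eN.app (op j)) ≫ v j = e ≫ vT := by rw [← he, Category.assoc, hvT]
  have a1 := dl_dl (hg (op j)).symm c w'' (he (op j)) rfl ξ (ξ ≫ f) ((ξ ≫ f) ≫ cS.π.app (op j)) rfl rfl h''
    (v j) vT (e ≫ vT) (hvT j) rfl hv'' K
  have a2 := dl_dl (sq (op j)) (hh (op j)).symm w'' rfl (hf (op j)).symm ξ (ξ ≫ cX.π.app (op j))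
    ((ξ ≫ f) ≫ cS.π.app (op j)) rfl (e1 fN f hf ξ j) h'' (v j) (eN.app (op j) ≫ v j) (e ≫ vT) rfl
    (hvT' eN e he v vT hvT j) hv'' K
  exact a1.trans a2.symm

theorem comm₂ {i j : ι} (hij : i ≤ j) (K : DCoh.DEt T₀) :
    tauC v hv gN (ξ ≫ f) hij K ≫ dlj fN gN hN eN sq f hf v ξ j K =
      dlj fN gN hN eN sq f hf v ξ i K ≫ tauC (fun i => eN.app (op i) ≫ v i) (hv' eN v hv) hN ξ hij K := by
  have w'' : (Ys.map (homOfLE hij).op ≫ eN.app (op i)) ≫ gN.app (op i) =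
      hN.app (op j) ≫ fN.app (op j) ≫ Ss.map (homOfLE hij).op := by
    rw [eN.naturality, Category.assoc, gN.naturality, ← Category.assoc, sq, Category.assoc]
  have h'' : (ξ ≫ cX.π.app (op j)) ≫ fN.app (op j) ≫ Ss.map (homOfLE hij).op = (ξ ≫ f) ≫ cS.π.app (op i) := by
    rw [← Category.assoc, e1 fN f hf, comp_π]
  have hv'' : (Ys.map (homOfLE hij).op ≫ eN.app (op i)) ≫ v i = eN.app (op j) ≫ v j := by
    rw [Category.assoc]
    exact hv' eN v hv hij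
  have a1 := dl_dl (gN.naturality (homOfLE hij).op) (sq (op j)) w'' (eN.naturality (homOfLE hij).op).symm rfl
    (ξ ≫ cX.π.app (op j)) ((ξ ≫ f) ≫ cS.π.app (op j)) ((ξ ≫ f) ≫ cS.π.app (op i)) (e1 fN f hf ξ j)
    (comp_π (ξ ≫ f) hij) h'' (v i) (v j) (eN.app (op j) ≫ v j) (hv hij) rfl hv'' K
  have a2 := dl_dl (sq (op i)) (hN.naturality (homOfLE hij).op) w'' rfl (fN.naturality (homOfLE hij).op)
    (ξ ≫ cX.π.app (op j)) (ξ ≫ cX.π.app (op i)) ((ξ ≫ f) ≫ cS.π.app (op i)) (comp_π ξ hij) (e1 fN f hf ξ i) h''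
    (v i) (eN.app (op i) ≫ v i) (eN.app (op j) ≫ v j) rfl (hv' eN v hv hij) hv'' K
  exact a1.trans a2.symm

end chase

include hgqc hgqs hhqc hhqs hX hS hT hY hcX hcS hcT hcY hf hg hh he hv hvT in
/-- **The base change map of the limit is an isomorphism if those of the stages are.** -/
theorem isIso_limit (a : ℤ) (K₀ : DCoh.DEt T₀) [K₀.IsGE a]
    (hst : ∀ i : ι, IsIso ((bcEt (sq (op i))).app ((pullD (v i)).obj K₀))) :
    IsIso ((bcEt c).app ((pullD vT).obj K₀)) := by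
  rw [isIso_bcEt_iff_dl c vT (e ≫ vT) rfl K₀]
  intro n Ω _ _ ξ ζ hζ
  subst hζ
  have m1 := main v hv vT hvT gN hg (ξ ≫ f) hT hS hgqc hgqs hcT hcS a K₀ n
  have m2 := main (fun i => eN.app (op i) ≫ v i) (hv' eN v hv) (e ≫ vT) (hvT' eN e he v vT hvT) hN hh ξ
    hY hX hhqc hhqs hcY hcX a K₀ n
  refine chase (M := dsys v hv vT hvT gN hg (ξ ≫ f))
    (M' := dsys (fun i => eN.app (op i) ≫ v i) (hv' eN v hv) (e ≫ vT) (hvT' eN e he v vT hvT) hN hh ξ)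
    (fun j => dlj fN gN hN eN sq f hf v ξ j (K₀⟦n⟧)) (dlT f g h e c vT ξ (K₀⟦n⟧))
    (fun j => comm₁ fN gN hN eN sq f g h e hf hg hh he c v vT hvT ξ j (K₀⟦n⟧))
    (fun {i j} hij => comm₂ fN gN hN eN sq f hf v hv ξ hij (K₀⟦n⟧)) (fun j => ?_) m1.1 m2.1 m2.2
  exact (isIso_bcEt_iff_dl (sq (op j)) (v j) (eN.app (op j) ≫ v j) rfl K₀).1 (hst j) n Ω (ξ ≫ cX.π.app (op j))
    ((ξ ≫ f) ≫ cS.π.app (op j)) (e1 fN f hf ξ j)

end K558.DFin
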