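import Groth.Agent.EtBC.K558.DJe
import Groth.Agent.SGA4h.K557.DeltaCalc
import Mathlib.CategoryTheory.Triangulated.HomologicalFunctor

/-!
# Stalks of `RG`: comparison with a delta functor

* `GDA st G Z = RG ⋙ Z ⋙ H^0 ⋙ st : D(A) ⥤ Ab`, homological; `GDA_zero`, `GDA_eff`;
* for an effaceable delta functor `T` with `z : T 0 ≅ G ⋙ Z ⋙ st`: `eD z : DeltaHom T (dG (GDA st G Z))`,
  `isIso_eD`;
* `Th bc θ : GDA st G Z ⟶ K ⋙ GDA st G₂ X` for a square, `eD_Th` : compatibility.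
-/

set_option autoImplicit false
set_option linter.unusedSectionVars false
universe w₁ w₂ w₃ w₄ w₅ v₁ v₂ v₃ v₄ v₅ u₁ u₂ u₃ u₄ u₅ w w' v' u' u''
open CategoryTheory CategoryTheory.Limits

noncomputable section
namespace K558.DTrans
open Groth.Agent.Etrest Groth.Agent.Etrest.RDer1 Groth.Agent.Etrest.RDer2 Groth.Agent.Etrest.RDer3
  Groth.Agent.Etrest.RDer4 Groth.Agent.Etrest.RDer5 K2.PasteAbs K558.DAbs K558.DDelta K558.DJj K558.DJe
  Groth.Agent.Localalg.DeltaFun

section gen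

variable {C : Type u'} [Category.{v'} C] [HasZeroObject C] [HasShift C ℤ] [Preadditive C]
  [∀ n : ℤ, (shiftFunctor C n).Additive] [Pretriangulated C]
  {A : Type u''} [Category.{w} A] [Abelian A] {B : Type w'} [Category.{v₁} B] [Abelian B]

theorem isHomological_comp (H : C ⥤ A) [H.IsHomological] (F : A ⥤ B) [F.Additive] [PreservesFiniteLimits F]
    [PreservesFiniteColimits F] : (H ⋙ F).IsHomological :=
  Functor.IsHomological.mk' _ fun T hT =>
    ⟨T, Iso.refl _, by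
      have h := (H.map_distinguished_exact T hT).map F
      exact h⟩

end gen

variable {A : Type u₁} [Category.{v₁} A] [Abelian A] [HasDerivedCategory.{w₁} A] [HasKInj A] [EnoughInjectives A]
  {B : Type u₂} [Category.{v₂} B] [Abelian B] [HasDerivedCategory.{w₂} B]
  {P : Type u₃} [Category.{v₃} P] [Abelian P] [HasDerivedCategory.{w₃} P]
  (st : P ⥤ AddCommGrpCat.{w}) [st.Additive] [PreservesFiniteLimits st] [PreservesFiniteColimits st]

instance : (gamA st).IsHomological := isHomological_comp _ _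

section

variable (G : A ⥤ B) [G.Additive] (Z : B ⥤ P) [Z.Additive] [PreservesFiniteLimits Z] [PreservesFiniteColimits Z]

/-- `K ↦ st (H^0 (Z (RG K)))` -/
def GDA : DerivedCategory A ⥤ AddCommGrpCat.{w} := TR G ⋙ Z.mapDerivedCategory ⋙ gamA st

instance : (GDA st G Z).IsHomological := by
  unfold GDA
  infer_instance

theorem GDA_zero (K : DerivedCategory A) [K.IsGE 1] : IsZero ((GDA st G Z).obj K) := isZero_of_isGE st G Z K

theorem GDA_eff : (dG (GDA st G Z)).Effaceable := fun J _ n => isZero_of_injective st G Z J n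

/-- Degree zero. -/
def e0n (F : A) : st.obj (Z.obj (G.obj F)) ⟶ (GDA st G Z).obj (Sn ((0 : ℕ) : ℤ) F) :=
  e0A st G Z F ≫ (GDA st G Z).map ((shiftFunctorZero' (DerivedCategory A) ((0 : ℕ) : ℤ) Nat.cast_zero).inv.app (S0 F))

theorem isIso_e0n [PreservesFiniteLimits G] (F : A) : IsIso (e0n st G Z F) := by
  have := isIso_e0A st G Z F
  have h2 : IsIso ((shiftFunctorZero' (DerivedCategory A) ((0 : ℕ) : ℤ) Nat.cast_zero).inv.app (S0 F)) := inferInstance
  have h3 : IsIso ((GDA st G Z).map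
    ((shiftFunctorZero' (DerivedCategory A) ((0 : ℕ) : ℤ) Nat.cast_zero).inv.app (S0 F))) := inferInstance
  exact IsIso.comp_isIso' this h3

theorem e0n_nat {F F' : A} (φ : F ⟶ F') : st.map (Z.map (G.map φ)) ≫ e0n st G Z F' =
    e0n st G Z F ≫ (GDA st G Z).map ((Snf ((0 : ℕ) : ℤ)).map φ) := by
  have h1 := e0A_nat st G Z φ
  have h2 := congrArg (fun t => (GDA st G Z).map t)
    ((shiftFunctorZero' (DerivedCategory A) ((0 : ℕ) : ℤ) Nat.cast_zero).inv.naturality
      ((DerivedCategory.singleFunctor A 0).map φ))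
  simp only [Functor.map_comp] at h2
  rw [e0n, e0n, Category.assoc, reassoc_of% h1]
  exact congrArg (e0A st G Z F ≫ ·) h2

/-- Degree zero, as a natural transformation. -/
def e0N : G ⋙ Z ⋙ st ⟶ (dG (GDA st G Z)).T 0 where
  app F := e0n st G Z F
  naturality _ _ φ := e0n_nat st G Z φ

variable {st G Z} {T : DeltaFunctor A AddCommGrpCat.{w}} (hT : T.Effaceable) (z : T.T 0 ⟶ G ⋙ Z ⋙ st)

/-- The comparison. -/
def eD : DeltaHom T (dG (GDA st G Z)) := (exists_deltaHom T (dG (GDA st G Z)) hT (z ≫ e0N st G Z)).choose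

theorem eD_zero : (eD hT z).app 0 = z ≫ e0N st G Z :=
  (exists_deltaHom T (dG (GDA st G Z)) hT (z ≫ e0N st G Z)).choose_spec

theorem isIso_eD [PreservesFiniteLimits G] [IsIso z] (n : ℕ) : IsIso ((eD hT z).app n) := by
  refine DeltaHom.isIso hT (GDA_eff st G Z) (eD hT z) ?_ n
  rw [eD_zero]
  have h1 : ∀ F, IsIso ((e0N st G Z).app F) := fun F => isIso_e0n st G Z F
  have h2 : IsIso (e0N st G Z) := NatIso.isIso_of_isIso_app _
  exact IsIso.comp_isIso' inferInstance h2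

end

section kz

variable {A₂ : Type u₄} [Category.{v₄} A₂] [Abelian A₂] [HasDerivedCategory.{w₄} A₂]
  (K : A ⥤ A₂) [K.Additive] [PreservesFiniteLimits K] [PreservesFiniteColimits K]

omit [HasKInj A] [EnoughInjectives A] in
theorem kapn_zero (a : ℤ) (ha : a = 0) (F : A) :
    K.mapDerivedCategory.map ((shiftFunctorZero' (DerivedCategory A) a ha).inv.app (S0 F)) ≫ kapn K a F =
      kap K F ≫ (shiftFunctorZero' (DerivedCategory A₂) a ha).inv.app (S0 (K.obj F)) := by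
  subst ha
  have h1 : (K.mapDerivedCategory.commShiftIso (0 : ℤ)).hom.app (S0 F) =
      K.mapDerivedCategory.map ((shiftFunctorZero (DerivedCategory A) ℤ).hom.app (S0 F)) ≫
        (shiftFunctorZero (DerivedCategory A₂) ℤ).inv.app (K.mapDerivedCategory.obj (S0 F)) := by
    rw [Functor.commShiftIso_zero, Functor.CommShift.isoZero_hom_app]
  have h2 := (shiftFunctorZero (DerivedCategory A₂) ℤ).inv.naturality (kap K F)
  have h3 : K.mapDerivedCategory.map ((shiftFunctorZero' (DerivedCategory A) (0 : ℤ) rfl).inv.app (S0 F)) ≫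
      K.mapDerivedCategory.map ((shiftFunctorZero (DerivedCategory A) ℤ).hom.app (S0 F)) = 𝟙 _ := by
    rw [← Functor.map_comp]
    refine (congrArg _ ?_).trans (CategoryTheory.Functor.map_id _ _)
    have : shiftFunctorZero' (DerivedCategory A) (0 : ℤ) rfl = shiftFunctorZero (DerivedCategory A) ℤ := by
      ext
      simp [shiftFunctorZero']
    rw [this]
    exact Iso.inv_hom_id_app _ _
  have h4 : (shiftFunctorZero' (DerivedCategory A₂) (0 : ℤ) rfl) = shiftFunctorZero (DerivedCategory A₂) ℤ := by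
    ext
    simp [shiftFunctorZero']
  rw [kapn, h1, Category.assoc, reassoc_of% h3, h4]
  exact h2.symm

end kz

section sq

variable {A₂ : Type u₄} [Category.{v₄} A₂] [Abelian A₂] [HasDerivedCategory.{w₄} A₂] [HasKInj A₂] [EnoughInjectives A₂]
  {B₂ : Type u₅} [Category.{v₅} B₂] [Abelian B₂] [HasDerivedCategory.{w₅} B₂]
  {st}
  {G : A ⥤ B} [G.Additive] {G₂ : A₂ ⥤ B₂} [G₂.Additive]
  {K : A ⥤ A₂} [K.Additive] [PreservesFiniteLimits K] [PreservesFiniteColimits K]
  {L : B ⥤ B₂} [L.Additive] [PreservesFiniteLimits L] [PreservesFiniteColimits L]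
  {X : B₂ ⥤ P} [X.Additive] [PreservesFiniteLimits X] [PreservesFiniteColimits X]
  {Z : B ⥤ P} [Z.Additive] [PreservesFiniteLimits Z] [PreservesFiniteColimits Z]
  (bc : G ⋙ L ⟶ K ⋙ G₂) (θ : L ⋙ X ⟶ Z) [IsIso θ]

/-- The base change map on stalks, followed by the map induced by `β`. -/
def ThA {M : DerivedCategory A} {M' : DerivedCategory A₂} (β : K.mapDerivedCategory.obj M ⟶ M') :
    (GDA st G Z).obj M ⟶ (GDA st G₂ X).obj M' :=
  (gamA st).map (inv ((compD θ).app ((TR G).obj M)) ≫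
    X.mapDerivedCategory.map ((bcD bc).app M ≫ (TR G₂).map β))

variable (st)

theorem ThA_comp {M : DerivedCategory A} {M' M'' : DerivedCategory A₂} (β : K.mapDerivedCategory.obj M ⟶ M')
    (γ : M' ⟶ M'') : ThA (st := st) bc θ (β ≫ γ) = ThA bc θ β ≫ (GDA st G₂ X).map γ := by
  unfold ThA GDA
  simp only [Functor.map_comp, Functor.comp_map, Category.assoc]

theorem thA_aux {D D' : Type*} [Category* D] [Category* D'] (XD : D' ⥤ D) {d1 d2 : D} {y1 y2 y3 y4 y5 : D'}
    {zu : d1 ⟶ d2} {t' : XD.obj y1 ⟶ d2} [IsIso t'] {t : XD.obj y2 ⟶ d1} [IsIso t] {lu : y2 ⟶ y1}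
    (h : XD.map lu ≫ t' = t ≫ zu) {b : y1 ⟶ y3} {b' : y2 ⟶ y4} {k : y4 ⟶ y3} (h' : lu ≫ b = b' ≫ k)
    {β : y3 ⟶ y5} :
    zu ≫ inv t' ≫ XD.map (b ≫ β) = inv t ≫ XD.map (b' ≫ k ≫ β) := by
  have h1 : zu ≫ inv t' = inv t ≫ XD.map lu := by
    rw [IsIso.comp_inv_eq, Category.assoc, h, IsIso.inv_hom_id_assoc]
  rw [reassoc_of% h1, ← XD.map_comp, reassoc_of% h']

/-- Naturality. -/
theorem ThA_nat {M N : DerivedCategory A} {N' : DerivedCategory A₂} (φ : M ⟶ N) (β : K.mapDerivedCategory.obj N ⟶ N') :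
    (GDA st G Z).map φ ≫ ThA bc θ β = ThA bc θ (K.mapDerivedCategory.map φ ≫ β) := by
  have h1 := (compD θ).naturality ((TR G).map φ)
  have h2 := (bcD bc).naturality φ
  have h3 := thA_aux X.mapDerivedCategory h1 h2 (β := (TR G₂).map β)
  unfold ThA
  rw [Functor.map_comp (TR G₂)]
  exact ((gamA st).map_comp _ _).symm.trans (congrArg (fun t => (gamA st).map t) h3)

/-- As a natural transformation. -/
def Th : GDA st G Z ⟶ K.mapDerivedCategory ⋙ GDA st G₂ X where
  app M := ThA bc θ (𝟙 _)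
  naturality M N φ := by
    have h1 := ThA_nat st bc θ φ (𝟙 (K.mapDerivedCategory.obj N))
    rw [Category.comp_id] at h1
    refine h1.trans ?_
    have h2 := ThA_comp st bc θ (𝟙 (K.mapDerivedCategory.obj M)) (K.mapDerivedCategory.map φ)
    rw [Category.id_comp] at h2
    exact h2

instance : (K.mapDerivedCategory ⋙ GDA st G₂ X).IsHomological := inferInstance

variable {st}
variable {T : DeltaFunctor A AddCommGrpCat.{w}} (hT : T.Effaceable) (z : T.T 0 ⟶ G ⋙ Z ⋙ st)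
  {T₂ : DeltaFunctor A₂ AddCommGrpCat.{w}} (hT₂ : T₂.Effaceable) (z₂ : T₂.T 0 ⟶ G₂ ⋙ X ⋙ st)
  (Φ : DeltaHom T (T₂.precomp K))
  (hΦ : ∀ F, (Φ.app 0).app F ≫ z₂.app (K.obj F) = z.app F ≫ st.map (inv (θ.app (G.obj F)) ≫ X.map (bc.app F)))

theorem deg_zero (F : A) : ThA (st := st) bc θ (kap K F ≫
    (shiftFunctorZero' (DerivedCategory A₂) ((0 : ℕ) : ℤ) Nat.cast_zero).inv.app (S0 (K.obj F))) =
    (GDA st G Z).map ((shiftFunctorZero' (DerivedCategory A) ((0 : ℕ) : ℤ) Nat.cast_zero).inv.app (S0 F)) ≫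
      ThA bc θ (kapn K ((0 : ℕ) : ℤ) F) := by
  refine Eq.trans ?_ (ThA_nat st bc θ _ _).symm
  exact congrArg (fun t => ThA (st := st) bc θ t) (kapn_zero K ((0 : ℕ) : ℤ) Nat.cast_zero F).symm

theorem deg_aux {E : Type*} [Category* E] {a b c d e f g k : E} {z : a ⟶ b} {s : b ⟶ c} {e₂ : c ⟶ d} {s₂ : d ⟶ e}
    {p : a ⟶ k} {z₂ : k ⟶ c} (h : p ≫ z₂ = z ≫ s)
    {e₁ : b ⟶ f} {t : f ⟶ d} (h5 : e₁ ≫ t = s ≫ e₂) {s₁ : f ⟶ g} {t' : g ⟶ e} (h4 : t ≫ s₂ = s₁ ≫ t') :
    p ≫ z₂ ≫ e₂ ≫ s₂ = (z ≫ e₁ ≫ s₁) ≫ t' := by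
  simp only [Category.assoc]
  rw [← h4, reassoc_of% h5, reassoc_of% h]

include hΦ in
/-- Compatibility of the comparison with base change. -/
theorem eD_Th (n : ℕ) (F : A) : (Φ.app n).app F ≫ ((eD hT₂ z₂).app n).app (K.obj F) =
    ((eD hT z).app n).app F ≫ ThA (st := st) bc θ (kapn K n F) := by
  have key := K557.DeltaCalc.ext_app hT (K557.DeltaCalc.comp Φ (K557.DeltaCalc.preW (eD hT₂ z₂) K))
    (K557.DeltaCalc.comp (eD hT z) (K557.DeltaCalc.comp (dHom (Th st bc θ)) (dPre K (GDA st G₂ X)))) (fun F => ?_) n F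
  · have h2 := ThA_comp st bc θ (𝟙 (K.mapDerivedCategory.obj (Sn n F))) (kapn K n F)
    rw [Category.id_comp] at h2
    rw [h2]
    exact key
  · have h2 := ThA_comp st bc θ (𝟙 (K.mapDerivedCategory.obj (Sn ((0 : ℕ) : ℤ) F))) (kapn K ((0 : ℕ) : ℤ) F)
    rw [Category.id_comp] at h2
    refine Eq.trans ?_ (congrArg (fun t => ((eD hT z).app 0).app F ≫ t) h2)
    change (Φ.app 0).app F ≫ ((eD hT₂ z₂).app 0).app (K.obj F) = _
    have h3 : ThA (st := st) bc θ (kap K F ≫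
        (shiftFunctorZero' (DerivedCategory A₂) ((0 : ℕ) : ℤ) Nat.cast_zero).inv.app (S0 (K.obj F))) =
        ThA (st := st) bc θ (kap K F) ≫ (GDA st G₂ X).map
          ((shiftFunctorZero' (DerivedCategory A₂) ((0 : ℕ) : ℤ) Nat.cast_zero).inv.app (S0 (K.obj F))) :=
      ThA_comp st bc θ (kap K F) _
    have h4 := deg_zero (st := st) bc θ F
    rw [h3] at h4
    have h5 := e0A_bc (st := st) bc θ F
    have e1 : ((eD hT z).app 0).app F = z.app F ≫ e0n st G Z F := congrArg (fun t => t.app F) (eD_zero hT z)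
    have e2 : ((eD hT₂ z₂).app 0).app (K.obj F) = z₂.app (K.obj F) ≫ e0n st G₂ X (K.obj F) :=
      congrArg (fun t => t.app (K.obj F)) (eD_zero hT₂ z₂)
    refine (congrArg (fun t => (Φ.app 0).app F ≫ t) e2).trans ?_
    refine Eq.trans ?_ (congrArg (fun t => t ≫ ThA (st := st) bc θ (kapn K ((0 : ℕ) : ℤ) F)) e1.symm)
    exact deg_aux (hΦ F) h5 h4

end sq

end K558.DTrans
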