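import Groth.Agent.EtBC.K558.DTh
import Groth.Agent.EtBC.K558.DTrans
import Groth.Agent.Sga4B.EtAbInst
import Mathlib.CategoryTheory.Triangulated.HomologicalFunctor

/-!
# Stalks of derived direct images

* `gam Ω : D(Spec Ω) ⥤ Ab`, the stalk of `H^0`; homological;
* `GD f ζ : D(X) ⥤ Ab`, `K ↦ (H^0 Rf_* K)_ζ`;
* `DLam w ξ ζ hζ α : GD f ζ K ⟶ GD f' ξ K'`, `DLam_DLam`, `DLam_nat`.
-/

set_option autoImplicit false
universe u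
open CategoryTheory CategoryTheory.Limits Opposite AlgebraicGeometry

attribute [local instance] HasDerivedCategory.standard

noncomputable section
namespace K558.DGam
open Groth.Agent Groth.Agent.Etrest.DEtPush K558.DAbs K558.DTh K558.DDelta K558.DJj K558.DTrans
open scoped Groth.Agent.Sga4B.EtAbInst

variable (Ω : Type u) [Field Ω] [IsSepClosed Ω]

/-- The geometric point. -/
abbrev pt (Ω : Type u) [Field Ω] : Scheme.{u} := Spec (CommRingCat.of Ω)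

/-- The stalk functor of the point. -/
abbrev stk : EtCoh.Ab (pt Ω) ⥤ AddCommGrpCat.{u + 1} := EtCoh.stalk (𝟙 (pt Ω))

/-- The stalk of `H^0`. -/
def gam : DCoh.DEt (pt Ω) ⥤ AddCommGrpCat.{u + 1} := gamA (stk Ω)

instance : (gam Ω).IsHomological := inferInstanceAs (gamA (stk Ω)).IsHomological

variable {Ω} {X S X' S' : Scheme.{u}}

/-- `K ↦ (H^0 Rf_* K)_ζ` -/
def GD (f : X ⟶ S) (ζ : pt Ω ⟶ S) : DCoh.DEt X ⥤ AddCommGrpCat.{u + 1} :=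
  GDA (stk Ω) (EtCoh.push f) (EtCoh.pull ζ)

instance (f : X ⟶ S) (ζ : pt Ω ⟶ S) : (GD f ζ).IsHomological :=
  inferInstanceAs (GDA (stk Ω) (EtCoh.push f) (EtCoh.pull ζ)).IsHomological

section lam

variable {f : X ⟶ S} {s : S' ⟶ S} {f' : X' ⟶ S'} {u' : X' ⟶ X}

/-- The map on stalks. -/
def DLam (w : u' ≫ f = f' ≫ s) (ξ : pt Ω ⟶ S') (ζ : pt Ω ⟶ S) (hζ : ξ ≫ s = ζ) {K : DCoh.DEt X}
    {K' : DCoh.DEt X'} (α : (pullD u').obj K ⟶ K') : (GD f ζ).obj K ⟶ (GD f' ξ).obj K' :=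
  (gam Ω).map (sD s ξ ζ hζ (PB w α))

theorem DLam_nat (w : u' ≫ f = f' ≫ s) (ξ : pt Ω ⟶ S') (ζ : pt Ω ⟶ S) (hζ : ξ ≫ s = ζ) {K L : DCoh.DEt X}
    {K' L' : DCoh.DEt X'} (α : (pullD u').obj K ⟶ K') (β : (pullD u').obj L ⟶ L') (φ : K ⟶ L) (φ' : K' ⟶ L')
    (h : (pullD u').map φ ≫ β = α ≫ φ') :
    (GD f ζ).map φ ≫ DLam w ξ ζ hζ β = DLam w ξ ζ hζ α ≫ (GD f' ξ).map φ' := by
  have e1 := sD_nat s ξ ζ hζ _ _ ((pushD f).map φ) ((pushD f').map φ') (PB_nat w α β φ φ' h)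
  exact ((gam Ω).map_comp _ _).symm.trans ((congrArg (fun t => (gam Ω).map t) e1).trans ((gam Ω).map_comp _ _))

variable {X'' S'' : Scheme.{u}} {s' : S'' ⟶ S'} {s'' : S'' ⟶ S} {f'' : X'' ⟶ S''} {v' : X'' ⟶ X'} {v'' : X'' ⟶ X}

/-- **The composition law.** -/
theorem DLam_DLam (w : u' ≫ f = f' ≫ s) (w' : v' ≫ f' = f'' ≫ s') (w'' : v'' ≫ f = f'' ≫ s'')
    (hv : v' ≫ u' = v'') (hs : s' ≫ s = s'') (ξ : pt Ω ⟶ S'') (ξ' : pt Ω ⟶ S') (ζ : pt Ω ⟶ S)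
    (h' : ξ ≫ s' = ξ') (h : ξ' ≫ s = ζ) (h'' : ξ ≫ s'' = ζ)
    {K : DCoh.DEt X} {K' : DCoh.DEt X'} {K'' : DCoh.DEt X''}
    {α : (pullD u').obj K ⟶ K'} {α' : (pullD v').obj K' ⟶ K''} {α'' : (pullD v'').obj K ⟶ K''}
    (hα : TriD v' u' v'' hv α α' α'') :
    DLam w ξ' ζ h α ≫ DLam w' ξ ξ' h' α' = DLam w'' ξ ζ h'' α'' := by
  have e := sD_sD hs ξ ξ' ζ h' h h'' (triD_PB w w' w'' hv hs hα)
  exact ((gam Ω).map_comp _ _).symm.trans (congrArg (fun t => (gam Ω).map t) e)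

end lam

end K558.DGam
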