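import Groth.Agent.EtBC.K558.DJj
import Groth.Agent.Etbc.H185.PartRange
import Groth.Agent.Dcoh.MapDer

/-!
# The stalk of `H^0 RG`: degree zero, vanishing, effaceability

* `isIso_e0A` : `st (Z (G F)) ≅ gamA st (Z (RG (F[0])))` (`G` left exact);
* `isZero_of_isGE` : `gamA st (Z (RG K)) = 0` for `K` in `D^{≥ 1}`;
* `eff_dG` : effaceability of the delta functor of `RG ⋙ Z ⋙ gamA st`.
-/

set_option autoImplicit false
set_option linter.unusedSectionVars false
universe w₁ w₂ w₃ v₁ v₂ v₃ v₆ u₁ u₂ u₃ u₆ w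
open CategoryTheory CategoryTheory.Limits

noncomputable section
namespace K558.DJe
open Groth.Agent.Etrest Groth.Agent.Etrest.RDer1 Groth.Agent.Etrest.RDer2 Groth.Agent.Etrest.RDer3
  Groth.Agent.Etrest.RDer4 Groth.Agent.Etrest.RDer5 K2.PasteAbs K558.DAbs K558.DDelta K558.DJj

variable {A : Type u₁} [Category.{v₁} A] [Abelian A] [HasDerivedCategory.{w₁} A]
  {B : Type u₂} [Category.{v₂} B] [Abelian B] [HasDerivedCategory.{w₂} B]
  {P : Type u₃} [Category.{v₃} P] [Abelian P] [HasDerivedCategory.{w₃} P] [HasKInj A]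

section ups

variable (G : A ⥤ B) [G.Additive]

theorem isIso_ups (J : A) [Injective J] : IsIso (ups G J) := by
  have h : (sgl J).IsKInjective := by
    have h1 : ∀ n : ℤ, Injective ((sgl J).X n) := by
      intro n
      by_cases h : n = 0
      · subst h
        exact Injective.of_iso (HomologicalComplex.singleObjXSelf (.up ℤ) 0 J).symm inferInstance
      · exact (HomologicalComplex.isZero_single_obj_X (.up ℤ) 0 J n h).injective
    exact CochainComplex.isKInjective_of_injective _ 0
  have h1 := isIso_unitQ_of_isKInjective G (sgl J) h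
  have h2 : IsIso (DerivedCategory.Q.map (smc G J).inv) := inferInstance
  exact IsIso.comp_isIso' h2 h1

variable [PreservesFiniteLimits G] [EnoughInjectives A]

theorem isIso_H0_ups (F : A) : IsIso ((DerivedCategory.homologyFunctor B 0).map (ups G F)) := by
  have h1 := Groth.Agent.Etbc.H185.PartRange.isIso_homology_unitQ G (sgl F) 0 0
    (fun i q h1 h2 => absurd (h1.trans h2) (by decide)) 0 (by decide)
  have h2 : IsIso ((DerivedCategory.homologyFunctor B 0).map (DerivedCategory.Q.map (smc G F).inv)) := inferInstance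
  unfold ups
  rw [Functor.map_comp]
  exact IsIso.comp_isIso' h2 h1

end ups

section stg

variable {E : Type u₆} [Category.{v₆} E] (st : P ⥤ E) (G : A ⥤ B) [G.Additive] [PreservesFiniteLimits G]
  [EnoughInjectives A] (Z : B ⥤ P) [Z.Additive] [PreservesFiniteLimits Z] [PreservesFiniteColimits Z]

theorem isIso_e0A (F : A) : IsIso (e0A st G Z F) := by
  have h1 := Groth.Agent.Dcoh.MapDer.isIso_homology_map Z (ups G F) 0 (isIso_H0_ups G F)
  have h2 : IsIso ((gamA st).map (Z.mapDerivedCategory.map (ups G F))) :=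
    inferInstanceAs (IsIso (st.map ((DerivedCategory.homologyFunctor P 0).map (Z.mapDerivedCategory.map (ups G F)))))
  unfold e0A
  infer_instance

end stg

section van

variable {E : Type u₆} [Category.{v₆} E] [Preadditive E] (st : P ⥤ E) [st.Additive] (G : A ⥤ B) [G.Additive]
  [EnoughInjectives A] (Z : B ⥤ P) [Z.Additive] [PreservesFiniteLimits Z] [PreservesFiniteColimits Z]

theorem gamA_isZero (K : DerivedCategory P) (h : IsZero ((DerivedCategory.homologyFunctor P 0).obj K)) :
    IsZero ((gamA st).obj K) := Functor.map_isZero st h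

/-- Left t-exactness. -/
theorem isZero_of_isGE (K : DerivedCategory A) [K.IsGE 1] :
    IsZero ((gamA st).obj (Z.mapDerivedCategory.obj ((TR G).obj K))) := by
  have h1 := TR_isGE G K 1
  have h2 := Groth.Agent.Dcoh.MapDer.isGE_map Z 1 ((TR G).obj K)
  exact gamA_isZero st _ (DerivedCategory.isZero_of_isGE _ 1 0 (by decide))

omit [HasKInj A] [EnoughInjectives A] in
theorem isLE_Sn (n : ℤ) (F : A) : (Sn n F).IsLE (-n) :=
  DerivedCategory.TStructure.t.isLE_shift (S0 F) 0 n (-n) (by simp)

/-- Effaceability. -/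
theorem isZero_of_injective (J : A) [Injective J] (n : ℕ) :
    IsZero ((gamA st).obj (Z.mapDerivedCategory.obj ((TR G).obj (Sn ((n + 1 : ℕ) : ℤ) J)))) := by
  have h0 := isIso_ups G J
  have e : (TR G).obj (Sn ((n + 1 : ℕ) : ℤ) J) ≅ Sn ((n + 1 : ℕ) : ℤ) (G.obj J) :=
    ((TR G).commShiftIso ((n + 1 : ℕ) : ℤ)).app (S0 J) ≪≫
      (shiftFunctor _ ((n + 1 : ℕ) : ℤ)).mapIso (asIso (ups G J)).symm
  refine IsZero.of_iso ?_ ((gamA st).mapIso (Z.mapDerivedCategory.mapIso e))
  have h1 := isLE_Sn ((n + 1 : ℕ) : ℤ) (G.obj J)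
  have h2 := Groth.Agent.Dcoh.MapDer.isLE_map Z (-((n + 1 : ℕ) : ℤ)) (Sn ((n + 1 : ℕ) : ℤ) (G.obj J))
  exact gamA_isZero st _ (DerivedCategory.isZero_of_isLE _ (-((n + 1 : ℕ) : ℤ)) 0 (by simp; omega))

end van

end K558.DJe
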