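import Groth.Agent.EtBC.K558.DShift

/-!
# The stalk of `H^0`, abstractly

For `st : P ⥤ E` (thought of as a stalk functor), `gamA st : D(P) ⥤ E`:

* `jj st Z M : st (Z M) ⟶ gamA st (Z (M[0]))`, `jj_nat`, `jj_comp`;
* `e0A st G Z F : st (Z (G F)) ⟶ gamA st (Z (RG (F[0])))`, `e0A_nat`, `e0A_bc`.
-/

set_option autoImplicit false
set_option linter.unusedSectionVars false
universe w₁ w₂ w₃ w₄ w₅ v₁ v₂ v₃ v₄ v₅ v₆ u₁ u₂ u₃ u₄ u₅ u₆
open CategoryTheory CategoryTheory.Limits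

noncomputable section
namespace K558.DJj
open Groth.Agent.Etrest Groth.Agent.Etrest.RDer1 Groth.Agent.Etrest.RDer2 Groth.Agent.Etrest.RDer3
  Groth.Agent.Etrest.RDer4 Groth.Agent.Etrest.RDer5 K2.PasteAbs K558.DAbs K558.DDelta

variable {A : Type u₁} [Category.{v₁} A] [Abelian A] [HasDerivedCategory.{w₁} A]
  {B : Type u₂} [Category.{v₂} B] [Abelian B] [HasDerivedCategory.{w₂} B]
  {P : Type u₃} [Category.{v₃} P] [Abelian P] [HasDerivedCategory.{w₃} P]
  {E : Type u₆} [Category.{v₆} E]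

section jj

variable (st : P ⥤ E)

/-- `st ∘ H^0` -/
def gamA : DerivedCategory P ⥤ E := DerivedCategory.homologyFunctor P 0 ⋙ st

/-- `st N ≅ gamA st (N[0])` -/
def hsA (N : P) : st.obj N ⟶ (gamA st).obj (S0 N) :=
  st.map ((DerivedCategory.singleFunctorCompHomologyFunctorIso P 0).inv.app N)

instance (N : P) : IsIso (hsA st N) := inferInstanceAs (IsIso (st.map
  ((DerivedCategory.singleFunctorCompHomologyFunctorIso P 0).inv.app N)))

@[reassoc]
theorem hsA_nat {N N' : P} (φ : N ⟶ N') : st.map φ ≫ hsA st N' =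
    hsA st N ≫ (gamA st).map ((DerivedCategory.singleFunctor P 0).map φ) := by
  have h := (DerivedCategory.singleFunctorCompHomologyFunctorIso P 0).inv.naturality φ
  exact (st.map_comp _ _).symm.trans ((congrArg (fun t => st.map t) h).trans (st.map_comp _ _))

variable (Z : A ⥤ P) [Z.Additive] [PreservesFiniteLimits Z] [PreservesFiniteColimits Z]

/-- `st (Z M) ≅ gamA st (Z (M[0]))` -/
def jj (M : A) : st.obj (Z.obj M) ⟶ (gamA st).obj (Z.mapDerivedCategory.obj (S0 M)) :=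
  hsA st (Z.obj M) ≫ (gamA st).map (inv (kap Z M))

instance (M : A) : IsIso (jj st Z M) := by
  unfold jj
  infer_instance

@[reassoc]
theorem jj_nat {M M' : A} (φ : M ⟶ M') : st.map (Z.map φ) ≫ jj st Z M' =
    jj st Z M ≫ (gamA st).map (Z.mapDerivedCategory.map ((DerivedCategory.singleFunctor A 0).map φ)) := by
  have h3 : (DerivedCategory.singleFunctor P 0).map (Z.map φ) ≫
      inv (kap Z M') = inv (kap Z M) ≫ Z.mapDerivedCategory.map ((DerivedCategory.singleFunctor A 0).map φ) := by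
    rw [IsIso.comp_inv_eq, Category.assoc, kap_nat, IsIso.inv_hom_id_assoc]
  have h4 := congrArg (fun t => (gamA st).map t) h3
  simp only [Functor.map_comp] at h4
  rw [jj, jj, Category.assoc, ← h4, hsA_nat_assoc]

variable {st Z}
variable {L : A ⥤ B} [L.Additive] [PreservesFiniteLimits L] [PreservesFiniteColimits L]
  {X : B ⥤ P} [X.Additive] [PreservesFiniteLimits X] [PreservesFiniteColimits X]

theorem jj_aux {C : Type*} [Category* C] {a b c d e : C} {θ : a ⟶ b} [IsIso θ] {k₁ : a ⟶ c} {k₂ : c ⟶ d} [IsIso k₂]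
    {s : d ⟶ e} [IsIso s] {k₃ : b ⟶ e} [IsIso k₃] (h : θ ≫ k₃ = k₁ ≫ k₂ ≫ s) :
    inv k₃ ≫ inv θ ≫ k₁ = inv s ≫ inv k₂ := by
  have : k₁ = θ ≫ k₃ ≫ inv s ≫ inv k₂ := by
    rw [reassoc_of% h]
    simp
  rw [this]
  simp

theorem jj_comp (θ : L ⋙ X ⟶ Z) [IsIso θ] (M : A) :
    jj st Z M ≫ (gamA st).map (inv ((compD θ).app (S0 M)) ≫ X.mapDerivedCategory.map (kap L M)) =
      st.map (inv (θ.app M)) ≫ jj st X (L.obj M) := by
  have h := kap_compD θ M
  have h1 := congrArg (fun t => (gamA st).map t) (jj_aux h)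
  simp only [Functor.map_comp] at h1
  have h2 := hsA_nat st (inv (θ.app M))
  rw [Functor.map_inv (DerivedCategory.singleFunctor P 0) (θ.app M)] at h2
  rw [jj, jj, Category.assoc, Functor.map_comp, h1, ← reassoc_of% h2]

end jj

section e0

variable [HasKInj A] (st : P ⥤ E) (G : A ⥤ B) [G.Additive]
  (Z : B ⥤ P) [Z.Additive] [PreservesFiniteLimits Z] [PreservesFiniteColimits Z]

/-- `st (Z (G F)) ⟶ gamA st (Z (RG (F[0])))` -/
def e0A (F : A) : st.obj (Z.obj (G.obj F)) ⟶ (gamA st).obj (Z.mapDerivedCategory.obj ((TR G).obj (S0 F))) :=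
  jj st Z (G.obj F) ≫ (gamA st).map (Z.mapDerivedCategory.map (ups G F))

theorem e0A_nat {F F' : A} (φ : F ⟶ F') : st.map (Z.map (G.map φ)) ≫ e0A st G Z F' =
    e0A st G Z F ≫ (gamA st).map (Z.mapDerivedCategory.map ((TR G).map ((DerivedCategory.singleFunctor A 0).map φ))) := by
  have h := congrArg (fun t => (gamA st).map (Z.mapDerivedCategory.map t)) (ups_nat G φ)
  simp only [Functor.map_comp] at h
  rw [e0A, e0A, jj_nat_assoc, Category.assoc, h]

end e0

section bc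

variable [HasKInj A] {A₂ : Type u₄} [Category.{v₄} A₂] [Abelian A₂] [HasDerivedCategory.{w₄} A₂] [HasKInj A₂]
  {B₂ : Type u₅} [Category.{v₅} B₂] [Abelian B₂] [HasDerivedCategory.{w₅} B₂] {st : P ⥤ E}
  {G : A ⥤ B} [G.Additive] {G₂ : A₂ ⥤ B₂} [G₂.Additive]
  {K : A ⥤ A₂} [K.Additive] [PreservesFiniteLimits K] [PreservesFiniteColimits K]
  {L : B ⥤ B₂} [L.Additive] [PreservesFiniteLimits L] [PreservesFiniteColimits L]
  {X : B₂ ⥤ P} [X.Additive] [PreservesFiniteLimits X] [PreservesFiniteColimits X]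
  {Z : B ⥤ P} [Z.Additive] [PreservesFiniteLimits Z] [PreservesFiniteColimits Z]

theorem bc_aux₁ {D D' : Type*} [Category* D] [Category* D'] (XD : D' ⥤ D) {d1 d2 : D} {y1 y2 y3 y4 y5 : D'}
    {zu : d1 ⟶ d2} {t' : XD.obj y1 ⟶ d2} [IsIso t'] {t : XD.obj y2 ⟶ d1} [IsIso t] {lu : y2 ⟶ y1}
    (h : XD.map lu ≫ t' = t ≫ zu) {b : y1 ⟶ y3} {k : y3 ⟶ y4} {kL : y2 ⟶ y5} {sb : y5 ⟶ y4}
    (h' : lu ≫ b ≫ k = kL ≫ sb) :
    zu ≫ inv t' ≫ XD.map (b ≫ k) = (inv t ≫ XD.map kL) ≫ XD.map sb := by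
  have h1 : zu ≫ inv t' = inv t ≫ XD.map lu := by
    rw [IsIso.comp_inv_eq, Category.assoc, h, IsIso.inv_hom_id_assoc]
  rw [reassoc_of% h1, Category.assoc, ← XD.map_comp, h', XD.map_comp]

theorem bc_aux₂ {D D' : Type*} [Category* D] [Category* D'] (T : D ⥤ D') {a b c : D'} {x y : D} {lu : a ⟶ b}
    {bc : b ⟶ T.obj x} {r : a ⟶ c} {t : c ⟶ T.obj y} {k : x ⟶ y} [IsIso k] (h : lu ≫ bc = r ≫ t ≫ T.map (inv k)) :
    lu ≫ bc ≫ T.map k = r ≫ t := by
  rw [← Category.assoc, h, Category.assoc, Category.assoc, ← T.map_comp, IsIso.inv_hom_id, T.map_id, Category.comp_id]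

/-- Compatibility with base change. -/
theorem e0A_bc (bc : G ⋙ L ⟶ K ⋙ G₂) (θ : L ⋙ X ⟶ Z) [IsIso θ] (F : A) :
    e0A st G Z F ≫ (gamA st).map (inv ((compD θ).app ((TR G).obj (S0 F))) ≫
        X.mapDerivedCategory.map ((bcD bc).app (S0 F) ≫ (TR G₂).map (kap K F))) =
      st.map (inv (θ.app (G.obj F)) ≫ X.map (bc.app F)) ≫ e0A st G₂ X (K.obj F) := by
  have h1 := bcD_ups bc F
  have h1' : L.mapDerivedCategory.map (ups G F) ≫ (bcD bc).app (S0 F) ≫ (TR G₂).map (kap K F) =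
      kap L (G.obj F) ≫ (DerivedCategory.singleFunctor B₂ 0).map (bc.app F) ≫ ups G₂ (K.obj F) := by
    have := bc_aux₂ (TR G₂) (k := kap K F)
      (r := kap L (G.obj F) ≫ (DerivedCategory.singleFunctor B₂ 0).map (bc.app F)) (t := ups G₂ (K.obj F))
      (h1.trans (by simp only [Category.assoc]))
    exact this.trans (Category.assoc _ _ _)
  have h2 := (compD θ).naturality (ups G F)
  have h5 := congrArg (fun t => (gamA st).map t) (bc_aux₁ X.mapDerivedCategory h2 h1')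
  have h3 := jj_comp (st := st) θ (G.obj F)
  have h4 := jj_nat st X (bc.app F)
  simp only [Functor.map_comp] at h3 h5
  rw [e0A, e0A, Category.assoc]
  simp only [Functor.map_comp, Category.assoc] at h3 h5 ⊢
  rw [reassoc_of% h4, h5, reassoc_of% h3]

end bc

end K558.DJj
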