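import Groth.Agent.EtBC.K558.DDelta
import Groth.Agent.Sga4h.RPairDer

/-!
# `compD` and shifts

`commShift_compD`; `kapn_compD`.
-/

set_option autoImplicit false
set_option linter.unusedSectionVars false
universe w₁ w₂ w₃ v₁ v₂ v₃ u₁ u₂ u₃
open CategoryTheory CategoryTheory.Limits

noncomputable section
namespace K558.DShift
open Groth.Agent.Etrest Groth.Agent.Etrest.RDer4 Groth.Agent.Etrest.RDer5 K2.PasteAbs K558.DAbs K558.DDelta

variable {A : Type u₁} [Category.{v₁} A] [Abelian A] [HasDerivedCategory.{w₁} A]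
  {B : Type u₂} [Category.{v₂} B] [Abelian B] [HasDerivedCategory.{w₂} B]
  {C : Type u₃} [Category.{v₃} C] [Abelian C] [HasDerivedCategory.{w₃} C]
  {L : A ⥤ B} {M : B ⥤ C} {N : A ⥤ C} [L.Additive] [M.Additive] [N.Additive]
  [PreservesFiniteLimits L] [PreservesFiniteColimits L] [PreservesFiniteLimits M] [PreservesFiniteColimits M]
  [PreservesFiniteLimits N] [PreservesFiniteColimits N]

instance commShift_natCx (α : L ⋙ M ⟶ N) : NatTrans.CommShift (natCx α) ℤ where
  shift_comm n := by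
    ext K i
    simp [Functor.commShiftIso_comp_hom_app]
    erw [CategoryTheory.Functor.map_id, Category.id_comp, Category.id_comp, Category.comp_id]

instance commShift_compD (α : L ⋙ M ⟶ N) : NatTrans.CommShift (compD α) ℤ := by
  apply Groth.Agent.Sga4h.RPair.commShift_of_Q
  have : Functor.whiskerLeft DerivedCategory.Q (compD α) =
    (Functor.associator _ _ _).inv ≫
    Functor.whiskerRight L.mapDerivedCategoryFactors.hom M.mapDerivedCategory ≫
    (Functor.associator _ _ _).hom ≫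
    Functor.whiskerLeft (L.mapHomologicalComplex (.up ℤ)) M.mapDerivedCategoryFactors.hom ≫
    (Functor.associator _ _ _).inv ≫
    Functor.whiskerRight (natCx α) DerivedCategory.Q ≫
    N.mapDerivedCategoryFactors.inv := by
    ext K
    refine (ofQ_app _ K).trans ?_
    simp
  rw [this]
  infer_instance

theorem kapn_comp_aux {D₂ D₃ : Type*} [Category* D₂] [Category* D₃] (F : D₂ ⥤ D₃) {a b c : D₂} {l : a ⟶ b} {k : b ⟶ c}
    {x0 x1 x2 x3 x4 x5 : D₃} {c1 : F.obj a ⟶ x0} {n1 : x0 ⟶ x1} {kN : x1 ⟶ x2} {m1 : F.obj b ⟶ x3}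
    {c1' : x3 ⟶ x1} (h1 : c1 ≫ n1 = F.map l ≫ m1 ≫ c1') {m2 : F.obj c ⟶ x4} {k1 : x3 ⟶ x4}
    (n2 : F.map k ≫ m2 = m1 ≫ k1) {kM : x4 ⟶ x5} {al : x5 ⟶ x2} (h3 : c1' ≫ kN = k1 ≫ kM ≫ al) :
    c1 ≫ n1 ≫ kN = F.map (l ≫ k) ≫ (m2 ≫ kM) ≫ al := by
  rw [F.map_comp]
  simp only [Category.assoc]
  rw [reassoc_of% n2, reassoc_of% h1, h3]

/-- `kapn` and `compD`. -/
theorem kapn_compD (α : L ⋙ M ⟶ N) (n : ℤ) (F : A) : (compD α).app (Sn n F) ≫ kapn N n F =
    M.mapDerivedCategory.map (kapn L n F) ≫ kapn M n (L.obj F) ≫ (Snf n).map (α.app F) := by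
  have h1 := NatTrans.shift_app_comm (compD α) n (S0 F)
  rw [Functor.commShiftIso_comp_hom_app] at h1
  have h2 := (M.mapDerivedCategory.commShiftIso n).hom.naturality (kap L F)
  have h3 := congrArg (fun t => t⟦n⟧') (kap_compD α F)
  simp only [Functor.map_comp] at h3
  have h4 : (compD α).app ((S0 F)⟦n⟧) ≫ (N.mapDerivedCategory.commShiftIso n).hom.app (S0 F) =
      M.mapDerivedCategory.map ((L.mapDerivedCategory.commShiftIso n).hom.app (S0 F)) ≫
        (M.mapDerivedCategory.commShiftIso n).hom.app (L.mapDerivedCategory.obj (S0 F)) ≫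
          ((compD α).app (S0 F))⟦n⟧' := by
    simpa using h1.symm
  exact kapn_comp_aux M.mapDerivedCategory h4 h2 h3

end K558.DShift
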