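import Groth.Agent.EtBC.K558.DAbs
import Groth.Agent.EtBC.K2.Paste
import Groth.Agent.Etrest.DEtMate
import Groth.Agent.Etcore.PullCoh

/-!
# Derived inverse images and base change: composition laws

* `thD g f gf w : pullD f ⋙ pullD g ⟶ pullD gf`, `thD_assoc`;
* `TriD`: `g⁻¹ α ≫ β = γ` up to `thD`;
* `PB w α : s⁻¹ Rf_* K ⟶ Rf'_* K'` for `α : u'⁻¹ K ⟶ K'`, `triD_PB`;
* `sD`: for `β : s⁻¹ P ⟶ P'` and `ξ ≫ s = ζ` the map `ζ⁻¹ P ⟶ ξ⁻¹ P'`, `sD_sD`.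
-/

set_option autoImplicit false
universe u
open CategoryTheory CategoryTheory.Limits Opposite AlgebraicGeometry

attribute [local instance] HasDerivedCategory.standard

noncomputable section
namespace K558.DTh
open Groth.Agent Groth.Agent.Etrest.DEtPush Groth.Agent.Etrest.DEtMate Groth.Agent.EtpbcB K2.PasteAbs
  Groth.Agent.Etcore.PullCoh K558.DAbs

section th

variable {X Y Z T : Scheme.{u}}

/-- `g⁻¹ f⁻¹ ⟶ (g ≫ f)⁻¹` -/
def thD (g : X ⟶ Y) (f : Y ⟶ Z) (gf : X ⟶ Z) (w : g ≫ f = gf) : pullD f ⋙ pullD g ⟶ pullD gf :=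
  compD (theta g f gf w).hom

instance (g : X ⟶ Y) (f : Y ⟶ Z) (gf : X ⟶ Z) (w : g ≫ f = gf) : IsIso (thD g f gf w) := isIso_compD _

theorem thD_rfl (g : X ⟶ Y) (f : Y ⟶ Z) : thD g f (g ≫ f) rfl = compD (BCCalc.pullComp f g).hom := by
  have h : (theta g f (g ≫ f) rfl).hom = (BCCalc.pullComp f g).hom := by
    rw [pullComp_hom_eq]
    ext1
    funext G
    exact theta_rfl_hom_app g f G
  rw [thD, h]

theorem thD_assoc (f : X ⟶ Y) (t : Y ⟶ Z) (s : Z ⟶ T) (ft : X ⟶ Z) (ts : Y ⟶ T) (fts : X ⟶ T) (w₁ : f ≫ t = ft)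
    (w₂ : t ≫ s = ts) (w₃ : f ≫ ts = fts) (w₄ : ft ≫ s = fts) (K : DCoh.DEt T) :
    (pullD f).map ((thD t s ts w₂).app K) ≫ (thD f ts fts w₃).app K =
      (thD f t ft w₁).app ((pullD s).obj K) ≫ (thD ft s fts w₄).app K :=
  compD_assoc _ _ _ _ (th_assoc f t s ft ts fts w₁ w₂ w₃ w₄) K

@[reassoc]
theorem thD_nat (g : X ⟶ Y) (f : Y ⟶ Z) (gf : X ⟶ Z) (w : g ≫ f = gf) {K K' : DCoh.DEt Z} (φ : K ⟶ K') :
    (pullD g).map ((pullD f).map φ) ≫ (thD g f gf w).app K' = (thD g f gf w).app K ≫ (pullD gf).map φ :=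
  (thD g f gf w).naturality φ

/-- `g⁻¹ α ≫ β = γ` up to `g⁻¹ f⁻¹ ≅ (g ≫ f)⁻¹`. -/
def TriD (g : X ⟶ Y) (f : Y ⟶ Z) (gf : X ⟶ Z) (w : g ≫ f = gf) {K : DCoh.DEt Z} {M : DCoh.DEt Y}
    {N : DCoh.DEt X} (α : (pullD f).obj K ⟶ M) (β : (pullD g).obj M ⟶ N) (γ : (pullD gf).obj K ⟶ N) : Prop :=
  (thD g f gf w).app K ≫ γ = (pullD g).map α ≫ β

end th

section PB

variable {X S X' S' : Scheme.{u}} {f : X ⟶ S} {s : S' ⟶ S} {f' : X' ⟶ S'} {u' : X' ⟶ X}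

/-- The base change map followed by `Rf'_* α`. -/
def PB (w : u' ≫ f = f' ≫ s) {K : DCoh.DEt X} {K' : DCoh.DEt X'} (α : (pullD u').obj K ⟶ K') :
    (pullD s).obj ((pushD f).obj K) ⟶ (pushD f').obj K' := (bcEt w).app K ≫ (pushD f').map α

theorem PB_nat (w : u' ≫ f = f' ≫ s) {K L : DCoh.DEt X} {K' L' : DCoh.DEt X'} (α : (pullD u').obj K ⟶ K')
    (β : (pullD u').obj L ⟶ L') (φ : K ⟶ L) (φ' : K' ⟶ L') (h : (pullD u').map φ ≫ β = α ≫ φ') :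
    (pullD s).map ((pushD f).map φ) ≫ PB w β = PB w α ≫ (pushD f').map φ' := by
  have n : (pullD s).map ((pushD f).map φ) ≫ (bcEt w).app L = (bcEt w).app K ≫ (pushD f').map ((pullD u').map φ) :=
    (bcEt w).naturality φ
  rw [PB, PB, reassoc_of% n, Category.assoc, ← Functor.map_comp, ← Functor.map_comp, h]

variable {X'' S'' : Scheme.{u}} {s' : S'' ⟶ S'} {s'' : S'' ⟶ S} {f'' : X'' ⟶ S''} {v' : X'' ⟶ X'} {v'' : X'' ⟶ X}

theorem hpaste (w : u' ≫ f = f' ≫ s) (w' : v' ≫ f' = f'' ≫ s') (w'' : v'' ≫ f = f'' ≫ s'')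
    (hv : v' ≫ u' = v'') (hs : s' ≫ s = s'') (K : DCoh.DEt X) :
    (thD s' s s'' hs).app ((pushD f).obj K) ≫ (bcEt w'').app K =
      (pullD s').map ((bcEt w).app K) ≫ (bcEt w').app ((pullD u').obj K) ≫
        (pushD f'').map ((thD v' u' v'' hv).app K) := by
  subst hv hs
  rw [thD_rfl, thD_rfl]
  exact K2.Paste.bcEt_hpaste w w' w'' K

theorem triD_PB (w : u' ≫ f = f' ≫ s) (w' : v' ≫ f' = f'' ≫ s') (w'' : v'' ≫ f = f'' ≫ s'')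
    (hv : v' ≫ u' = v'') (hs : s' ≫ s = s'') {K : DCoh.DEt X} {K' : DCoh.DEt X'} {K'' : DCoh.DEt X''}
    {α : (pullD u').obj K ⟶ K'} {α' : (pullD v').obj K' ⟶ K''} {α'' : (pullD v'').obj K ⟶ K''}
    (hα : TriD v' u' v'' hv α α' α'') : TriD s' s s'' hs (PB w α) (PB w' α') (PB w'' α'') := by
  have e1 := hpaste w w' w'' hv hs K
  have e2 : (pullD s').map ((pushD f').map α) ≫ (bcEt w').app K' = (bcEt w').app ((pullD u').obj K) ≫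
      (pushD f'').map ((pullD v').map α) := (bcEt w').naturality α
  have e3 : (pushD f'').map ((thD v' u' v'' hv).app K) ≫ (pushD f'').map α'' =
      (pushD f'').map ((pullD v').map α) ≫ (pushD f'').map α' := by
    rw [← Functor.map_comp, ← Functor.map_comp]
    exact congrArg _ hα
  unfold TriD PB
  rw [reassoc_of% e1, e3, Functor.map_comp, Category.assoc, reassoc_of% e2]

end PB

section sD

variable {P S S' S'' : Scheme.{u}}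

/-- For `β : s⁻¹ P ⟶ P'` and `ξ ≫ s = ζ` the map `ζ⁻¹ P ⟶ ξ⁻¹ P'`. -/
def sD (s : S' ⟶ S) (ξ : P ⟶ S') (ζ : P ⟶ S) (h : ξ ≫ s = ζ) {K : DCoh.DEt S} {K' : DCoh.DEt S'}
    (β : (pullD s).obj K ⟶ K') : (pullD ζ).obj K ⟶ (pullD ξ).obj K' :=
  inv ((thD ξ s ζ h).app K) ≫ (pullD ξ).map β

theorem sD_nat (s : S' ⟶ S) (ξ : P ⟶ S') (ζ : P ⟶ S) (h : ξ ≫ s = ζ) {K L : DCoh.DEt S} {K' L' : DCoh.DEt S'}
    (β : (pullD s).obj K ⟶ K') (γ : (pullD s).obj L ⟶ L') (φ : K ⟶ L) (φ' : K' ⟶ L')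
    (e : (pullD s).map φ ≫ γ = β ≫ φ') :
    (pullD ζ).map φ ≫ sD s ξ ζ h γ = sD s ξ ζ h β ≫ (pullD ξ).map φ' := by
  have n := thD_nat ξ s ζ h φ
  have n' : (pullD ζ).map φ ≫ inv ((thD ξ s ζ h).app L) =
      inv ((thD ξ s ζ h).app K) ≫ (pullD ξ).map ((pullD s).map φ) := by
    rw [IsIso.comp_inv_eq, Category.assoc, n, IsIso.inv_hom_id_assoc]
  rw [sD, sD, reassoc_of% n', Category.assoc, ← Functor.map_comp, ← Functor.map_comp, e]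

theorem abs_sD {C : Type*} [Category* C] {a b c d e f g : C} {p : a ⟶ b} {q : b ⟶ c} {r : a ⟶ d} {t : d ⟶ c}
    [IsIso q] [IsIso r] [IsIso t] (h₁ : p ≫ q = r ≫ t) {x : d ⟶ e} {r' : f ⟶ e} [IsIso r'] {x' : a ⟶ f}
    (n : x' ≫ r' = r ≫ x) {y : f ⟶ g} {z : b ⟶ g} (h₂ : p ≫ z = x' ≫ y) :
    (inv t ≫ x) ≫ inv r' ≫ y = inv q ≫ z := by
  have h3 : x ≫ inv r' = inv r ≫ x' := by
    rw [IsIso.comp_inv_eq, Category.assoc, n, IsIso.inv_hom_id_assoc]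
  have h4 : inv r ≫ p = t ≫ inv q := by
    rw [IsIso.inv_comp_eq, ← Category.assoc, ← h₁, Category.assoc, IsIso.hom_inv_id, Category.comp_id]
  rw [Category.assoc, reassoc_of% h3, ← h₂, reassoc_of% h4, IsIso.inv_hom_id_assoc]

/-- The composition law. -/
theorem sD_sD {s : S' ⟶ S} {s' : S'' ⟶ S'} {s'' : S'' ⟶ S} (hs : s' ≫ s = s'')
    (ξ : P ⟶ S'') (ξ' : P ⟶ S') (ζ : P ⟶ S) (h' : ξ ≫ s' = ξ') (h : ξ' ≫ s = ζ) (h'' : ξ ≫ s'' = ζ)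
    {K : DCoh.DEt S} {K' : DCoh.DEt S'} {K'' : DCoh.DEt S''} {β : (pullD s).obj K ⟶ K'}
    {β' : (pullD s').obj K' ⟶ K''} {β'' : (pullD s'').obj K ⟶ K''} (hβ : TriD s' s s'' hs β β' β'') :
    sD s ξ' ζ h β ≫ sD s' ξ ξ' h' β' = sD s'' ξ ζ h'' β'' := by
  have e1 := thD_assoc ξ s' s ξ' s'' ζ h' hs h'' h K
  have n := thD_nat ξ s' ξ' h' β
  have e2 : (pullD ξ).map ((thD s' s s'' hs).app K) ≫ (pullD ξ).map β'' =
      (pullD ξ).map ((pullD s').map β) ≫ (pullD ξ).map β' := by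
    rw [← Functor.map_comp, ← Functor.map_comp]
    exact congrArg _ hβ
  exact abs_sD e1 n e2

end sD

end K558.DTh
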