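import Groth.Agent.Etcore.LimBC1
import Groth.Agent.Topos.H573.SysFrozen

/-!
# Pulling back classes along a map of sheaves over a map of schemes

For `u : T' ⟶ T`, `α : u⁻¹ F ⟶ F'` and a square `π ≫ z = d = z' ≫ u`:

* `sh` : the map `π⁻¹ z⁻¹ F ⟶ z'⁻¹ F'`, with the composition law `sh_tri`;
* `cl` : the map `H^n(Z, z⁻¹ F) → H^n(Z', z'⁻¹ F')`, with `cl_cl`, `cl_res`, `res_cl`, `cl_map`.
-/

set_option autoImplicit false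
universe u
open CategoryTheory CategoryTheory.Limits AlgebraicGeometry Opposite Abelian
open scoped Groth.Agent.Etcore.EtInst
open Groth.Agent.Etcore.EtInst

namespace K558.LimCl

open Groth.Agent Groth.Agent.Etcore.HQ Groth.Agent.Etcore.PullCoh Groth.Agent.Etcore.HpullCalc

section Abs

variable {C : Type*} [Category* C]

theorem abs_comp {A A' B B' D E G H K L M N : C} {a₁ : A ⟶ B} {a₂ : B' ⟶ B} [IsIso a₂] {a₃ : B ⟶ D}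
    {a₄ : B' ⟶ E} {a₅ : E ⟶ D} [IsIso a₅] {a₆ : G ⟶ H} {a₇ : H ⟶ D} [IsIso a₇] {a₈ : G ⟶ E} [IsIso a₈]
    {b₁ : A ⟶ A'} {b₂ : A' ⟶ D} (e₁ : a₁ ≫ a₃ = b₁ ≫ b₂) (e₂ : a₂ ≫ a₃ = a₄ ≫ a₅)
    (e₃ : a₆ ≫ a₇ = a₈ ≫ a₅) {m₁ : B' ⟶ K} {a₉ : K ⟶ L} {m₂ : E ⟶ L} (n₁ : m₁ ≫ a₉ = a₄ ≫ m₂)
    {t : M ⟶ L} [IsIso t] {m₃ : G ⟶ M} (n₂ : m₃ ≫ t = a₈ ≫ m₂) {m₄ : M ⟶ N} {m₅ : H ⟶ N}
    (n₃ : m₃ ≫ m₄ = a₆ ≫ m₅) :
    b₁ ≫ b₂ ≫ inv a₇ ≫ m₅ = (a₁ ≫ inv a₂ ≫ m₁) ≫ a₉ ≫ inv t ≫ m₄ := by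
  have h1 : inv a₂ ≫ a₄ = a₃ ≫ inv a₅ := by
    rw [IsIso.inv_comp_eq, ← Category.assoc, e₂, Category.assoc, IsIso.hom_inv_id, Category.comp_id]
  have h2 : inv a₈ ≫ a₆ = a₅ ≫ inv a₇ := by
    rw [IsIso.inv_comp_eq, ← Category.assoc, ← e₃, Category.assoc, IsIso.hom_inv_id, Category.comp_id]
  have h3 : m₂ ≫ inv t = inv a₈ ≫ m₃ := by
    rw [← cancel_epi a₈, ← Category.assoc, ← n₂, Category.assoc, IsIso.hom_inv_id, Category.comp_id,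
      IsIso.hom_inv_id_assoc]
  calc b₁ ≫ b₂ ≫ inv a₇ ≫ m₅ = a₁ ≫ a₃ ≫ inv a₇ ≫ m₅ := by
        rw [← Category.assoc, ← e₁, Category.assoc]
    _ = a₁ ≫ (a₃ ≫ inv a₅) ≫ (a₅ ≫ inv a₇) ≫ m₅ := by
        rw [Category.assoc, Category.assoc, IsIso.inv_hom_id_assoc]
    _ = a₁ ≫ (inv a₂ ≫ a₄) ≫ (inv a₈ ≫ a₆) ≫ m₅ := by rw [h1, h2]
    _ = a₁ ≫ inv a₂ ≫ a₄ ≫ (inv a₈ ≫ m₃) ≫ m₄ := by
        rw [Category.assoc, Category.assoc, Category.assoc, n₃]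
    _ = a₁ ≫ inv a₂ ≫ (a₄ ≫ m₂) ≫ inv t ≫ m₄ := by
        rw [← h3, Category.assoc, Category.assoc]
    _ = (a₁ ≫ inv a₂ ≫ m₁) ≫ a₉ ≫ inv t ≫ m₄ := by
        rw [← n₁, Category.assoc, Category.assoc, Category.assoc]

theorem abs_res {A A' B B' D E K L : C} {a₁ : A ⟶ B} {a₂ : B' ⟶ B} [IsIso a₂] {a₃ : B ⟶ D} {a₄ : B' ⟶ E}
    {a₅ : E ⟶ D} [IsIso a₅] {b₁ : A ⟶ A'} {b₂ : A' ⟶ D} (e₁ : a₁ ≫ a₃ = b₁ ≫ b₂) (e₂ : a₂ ≫ a₃ = a₄ ≫ a₅)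
    {m₁ : B' ⟶ K} {a₉ : K ⟶ L} {m₂ : E ⟶ L} (n₁ : m₁ ≫ a₉ = a₄ ≫ m₂) :
    b₁ ≫ b₂ ≫ inv a₅ ≫ m₂ = (a₁ ≫ inv a₂ ≫ m₁) ≫ a₉ := by
  have h1 : inv a₂ ≫ a₄ = a₃ ≫ inv a₅ := by
    rw [IsIso.inv_comp_eq, ← Category.assoc, e₂, Category.assoc, IsIso.hom_inv_id, Category.comp_id]
  calc b₁ ≫ b₂ ≫ inv a₅ ≫ m₂ = a₁ ≫ (a₃ ≫ inv a₅) ≫ m₂ := by
        rw [← Category.assoc, ← e₁, Category.assoc, Category.assoc]
    _ = (a₁ ≫ inv a₂ ≫ m₁) ≫ a₉ := by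
        rw [← h1, Category.assoc, ← n₁, Category.assoc, Category.assoc]

end Abs

variable {T T' T'' Z Z' Z'' : Scheme.{u}}

/-- `g⁻¹ α ≫ β = γ` up to `g⁻¹ f⁻¹ ≅ (g ≫ f)⁻¹`. -/
def Tri (g : T'' ⟶ T') (f : T' ⟶ T) (gf : T'' ⟶ T) (w : g ≫ f = gf) {F : EtCoh.Ab T} {M : EtCoh.Ab T'}
    {N : EtCoh.Ab T''} (α : (EtCoh.pull f).obj F ⟶ M) (β : (EtCoh.pull g).obj M ⟶ N)
    (γ : (EtCoh.pull gf).obj F ⟶ N) : Prop :=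
  th g f gf w F ≫ γ = (EtCoh.pull g).map α ≫ β

section sh

variable {u : T' ⟶ T} {F : EtCoh.Ab T} {F' : EtCoh.Ab T'} (α : (EtCoh.pull u).obj F ⟶ F')
  (π : Z' ⟶ Z) (z : Z ⟶ T) (z' : Z' ⟶ T') (d : Z' ⟶ T) (h₁ : π ≫ z = d) (h₂ : z' ≫ u = d)

/-- The map induced by `α` on `Z'`. -/
noncomputable def sh : (EtCoh.pull π).obj ((EtCoh.pull z).obj F) ⟶ (EtCoh.pull z').obj F' :=
  th π z d h₁ F ≫ inv (th z' u d h₂ F) ≫ (EtCoh.pull z').map α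

theorem sh_eq : sh α π z z' d h₁ h₂ = th π z d h₁ F ≫ inv (th z' u d h₂ F) ≫ (EtCoh.pull z').map α := rfl

instance [IsIso α] : IsIso (sh α π z z' d h₁ h₂) := by
  unfold sh
  infer_instance

theorem sh_map {F'' : EtCoh.Ab T'} (φ : F' ⟶ F'') :
    sh (α ≫ φ) π z z' d h₁ h₂ = sh α π z z' d h₁ h₂ ≫ (EtCoh.pull z').map φ := by
  rw [sh_eq, sh_eq, Functor.map_comp, Category.assoc, Category.assoc]

end sh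

/-- The composition law. -/
theorem sh_tri {u : T' ⟶ T} {u' : T'' ⟶ T'} {u'' : T'' ⟶ T} (w : u' ≫ u = u'') {F : EtCoh.Ab T}
    {F' : EtCoh.Ab T'} {F'' : EtCoh.Ab T''} {α : (EtCoh.pull u).obj F ⟶ F'} {α' : (EtCoh.pull u').obj F' ⟶ F''}
    {α'' : (EtCoh.pull u'').obj F ⟶ F''} (hα : Tri u' u u'' w α α' α'')
    (π : Z' ⟶ Z) (π' : Z'' ⟶ Z') (π'' : Z'' ⟶ Z) (v : π' ≫ π = π'') (z : Z ⟶ T) (z' : Z' ⟶ T') (z'' : Z'' ⟶ T'')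
    (d : Z' ⟶ T) (h₁ : π ≫ z = d) (h₂ : z' ≫ u = d) (d' : Z'' ⟶ T') (h₁' : π' ≫ z' = d') (h₂' : z'' ≫ u' = d')
    (d'' : Z'' ⟶ T) (h₁'' : π'' ≫ z = d'') (h₂'' : z'' ≫ u'' = d'') :
    Tri π' π π'' v (sh α π z z' d h₁ h₂) (sh α' π' z' z'' d' h₁' h₂') (sh α'' π'' z z'' d'' h₁'' h₂'') := by
  have k1 : π' ≫ d = d'' := by rw [← h₁, ← Category.assoc, v, h₁'']
  have k2 : d' ≫ u = d'' := by rw [← h₂', Category.assoc, w, h₂'']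
  have e1 := th_assoc π' π z π'' d d'' v h₁ k1 h₁'' F
  have e2 := th_assoc π' z' u d' d d'' h₁' h₂ k1 k2 F
  have e3 := th_assoc z'' u' u d' u'' d'' h₂' w h₂'' k2 F
  have n1 := th_nat π' z' d' h₁' α
  have n2 := th_nat z'' u' d' h₂' α
  have n3 : (EtCoh.pull z'').map ((EtCoh.pull u').map α) ≫ (EtCoh.pull z'').map α' =
      (EtCoh.pull z'').map (th u' u u'' w F) ≫ (EtCoh.pull z'').map α'' := by
    rw [← Functor.map_comp, ← Functor.map_comp]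
    exact congrArg _ hα.symm
  have := abs_comp e1 e2 e3 n1 n2 n3
  unfold Tri
  rw [sh_eq, sh_eq, sh_eq, Functor.map_comp, Functor.map_comp, Functor.map_inv]
  exact this

section cl

variable {u : T' ⟶ T} {F : EtCoh.Ab T} {F' : EtCoh.Ab T'} (α : (EtCoh.pull u).obj F ⟶ F')
  (π : Z' ⟶ Z) (z : Z ⟶ T) (z' : Z' ⟶ T') (d : Z' ⟶ T) (h₁ : π ≫ z = d) (h₂ : z' ≫ u = d)

attribute [local instance] pfl

/-- Pullback of classes. -/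
noncomputable def cl (n : ℕ) : HQ F z n →+ HQ F' z' n :=
  (HHmap (sh α π z z' d h₁ h₂) n).comp (hp π ((EtCoh.pull z).obj F) n)

theorem cl_apply (n : ℕ) (c : HQ F z n) :
    cl α π z z' d h₁ h₂ n c = HHmap (sh α π z z' d h₁ h₂) n (hp π ((EtCoh.pull z).obj F) n c) := rfl

theorem cl_congr {π π' : Z' ⟶ Z} (e : π = π') {d d' : Z' ⟶ T} (h₁ : π ≫ z = d) (h₂ : z' ≫ u = d)
    (h₁' : π' ≫ z = d') (h₂' : z' ≫ u = d') (n : ℕ) (c : HQ F z n) :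
    cl α π z z' d h₁ h₂ n c = cl α π' z z' d' h₁' h₂' n c := by
  subst e
  subst h₁
  subst h₁'
  rfl

theorem hp_tri (g : T'' ⟶ T') (f : T' ⟶ T) (gf : T'' ⟶ T) (w : g ≫ f = gf) {F : EtCoh.Ab T} {M : EtCoh.Ab T'}
    {N : EtCoh.Ab T''} {α : (EtCoh.pull f).obj F ⟶ M} {β : (EtCoh.pull g).obj M ⟶ N}
    {γ : (EtCoh.pull gf).obj F ⟶ N} (h : Tri g f gf w α β γ) (n : ℕ) (c : HH T F n) :
    HHmap β n (hp g M n (HHmap α n (hp f F n c))) = HHmap γ n (hp gf F n c) := by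
  rw [hp_map, ← HHmap_comp, ← hp_comp_th g f gf w F n c, ← HHmap_comp]
  exact congrArg (fun t => HHmap t n (hp g _ n (hp f F n c))) h.symm

theorem cl_map {F'' : EtCoh.Ab T'} (φ : F' ⟶ F'') (n : ℕ) (c : HQ F z n) :
    Etcore.HQ.map φ z' n (cl α π z z' d h₁ h₂ n c) = cl (α ≫ φ) π z z' d h₁ h₂ n c := by
  rw [cl_apply, cl_apply, map_apply, ← HHmap_comp, sh_map]

/-- Restriction before. -/
theorem cl_res {Z₁ : Scheme.{u}} (z₁ : Z₁ ⟶ T) (k : Z ⟶ Z₁) (hk : k ≫ z₁ = z) (π₁ : Z' ⟶ Z₁)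
    (e : π ≫ k = π₁) (h₁' : π₁ ≫ z₁ = d) (n : ℕ) (c : HQ F z₁ n) :
    cl α π z z' d h₁ h₂ n (res F k hk n c) = cl α π₁ z₁ z' d h₁' h₂ n c := by
  have e1 := th_assoc π k z₁ π₁ z d e hk h₁ h₁' F
  rw [cl_apply, cl_apply, res_apply, hp_map, ← HHmap_comp, ← hp_comp_th π k π₁ e _ n c, ← HHmap_comp, sh_eq,
    sh_eq, ← Category.assoc, e1, Category.assoc]

/-- Restriction after. -/
theorem res_cl {Z'' : Scheme.{u}} (k : Z'' ⟶ Z') (z'' : Z'' ⟶ T') (hk : k ≫ z' = z'') (π'' : Z'' ⟶ Z)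
    (e : k ≫ π = π'') (d'' : Z'' ⟶ T) (h₁'' : π'' ≫ z = d'') (h₂'' : z'' ≫ u = d'') (n : ℕ) (c : HQ F z n) :
    res F' k hk n (cl α π z z' d h₁ h₂ n c) = cl α π'' z z'' d'' h₁'' h₂'' n c := by
  have k1 : k ≫ d = d'' := by rw [← h₁, ← Category.assoc, e, h₁'']
  have e1 := th_assoc k π z π'' d d'' e h₁ k1 h₁'' F
  have e2 := th_assoc k z' u z'' d d'' hk h₂ k1 h₂'' F
  have n1 := th_nat k z' z'' hk α
  have := abs_res e1 e2 n1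
  rw [cl_apply, cl_apply, res_apply, hp_map, ← HHmap_comp, ← hp_comp_th k π π'' e _ n c, ← HHmap_comp, sh_eq,
    sh_eq, Functor.map_comp, Functor.map_comp, Functor.map_inv]
  exact congrArg (fun t => HHmap t n (hp k _ n (hp π _ n c))) this.symm

end cl

/-- The composition law for classes. -/
theorem cl_cl {u : T' ⟶ T} {u' : T'' ⟶ T'} {u'' : T'' ⟶ T} (w : u' ≫ u = u'') {F : EtCoh.Ab T}
    {F' : EtCoh.Ab T'} {F'' : EtCoh.Ab T''} {α : (EtCoh.pull u).obj F ⟶ F'} {α' : (EtCoh.pull u').obj F' ⟶ F''}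
    {α'' : (EtCoh.pull u'').obj F ⟶ F''} (hα : Tri u' u u'' w α α' α'')
    (π : Z' ⟶ Z) (π' : Z'' ⟶ Z') (π'' : Z'' ⟶ Z) (v : π' ≫ π = π'') (z : Z ⟶ T) (z' : Z' ⟶ T') (z'' : Z'' ⟶ T'')
    (d : Z' ⟶ T) (h₁ : π ≫ z = d) (h₂ : z' ≫ u = d) (d' : Z'' ⟶ T') (h₁' : π' ≫ z' = d') (h₂' : z'' ≫ u' = d')
    (d'' : Z'' ⟶ T) (h₁'' : π'' ≫ z = d'') (h₂'' : z'' ≫ u'' = d'') (n : ℕ) (c : HQ F z n) :
    cl α' π' z' z'' d' h₁' h₂' n (cl α π z z' d h₁ h₂ n c) = cl α'' π'' z z'' d'' h₁'' h₂'' n c :=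
  hp_tri π' π π'' v (sh_tri w hα π π' π'' v z z' z'' d h₁ h₂ d' h₁' h₂' d'' h₁'' h₂'') n c

end K558.LimCl
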