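import Groth.Agent.EtBC.K558.RhoBC
import Groth.Agent.EtBC.K558.LimCl
import Groth.Agent.SGA4h.K557.BcQ

/-!
# Base change maps on stalks

`Lam w ξ ζ hζ α n : (R^n f_* F)_ζ → (R^n f'_* F')_ξ` for a square `w : u ≫ f = f' ≫ s`, `ξ ≫ s = ζ` and
`α : u⁻¹ F ⟶ F'`.

* `Lam_rho`: its description on classes; `Lam_Lam`: the composition law;
* `isIso_bcQ_iff_lam`.
-/

set_option autoImplicit false
universe u
open CategoryTheory CategoryTheory.Limits AlgebraicGeometry Opposite Abelian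
open scoped Groth.Agent.Sga4B.EtAbInst
open scoped Groth.Agent.Etcore.EtInst
open Groth.Agent.Etcore.EtInst

namespace K558.LamBC

open Groth.Agent Groth.Agent.Localalg.DeltaFun Groth.Agent.Sga4B Groth.Agent.Sga4B.BCDelta
  Groth.Agent.Etcore.HQ K558.Rho K558.LimCl Groth.Agent.Etcore.PullCoh Groth.Agent.Etcore.SecPull
  Groth.Agent.Etcore.IntBC
open Groth.Agent.Etcore.RpushLoc (pr mm mm_pr)
open Groth.Agent.Etbase.StalkPull (stalkPullIso)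
open Groth.Agent.Etcore.StalkSec (mkLift ext_hom hom_mkLift)

variable {X S X' S' : Scheme.{u}} {f : X ⟶ S} {s : S' ⟶ S} {f' : X' ⟶ S'} {u' : X' ⟶ X}
  {Ω : Type u} [Field Ω] [IsSepClosed Ω]

/-- The map on stalks. -/
noncomputable def Lam₀ (w : u' ≫ f = f' ≫ s) (ξ : Spec (CommRingCat.of Ω) ⟶ S') {F : EtCoh.Ab X}
    {F' : EtCoh.Ab X'} (α : (EtCoh.pull u').obj F ⟶ F') (n : ℕ) : St f (ξ ≫ s) n F →+ St f' ξ n F' :=
  (((EtCoh.stalk ξ).map ((EtCoh.Rpush f' n).map α)).hom.comp ((EtCoh.stalk ξ).map ((BCq w n).app F)).hom).comp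
    ((stalkPullIso s ξ).hom.app ((EtCoh.Rpush f n).obj F)).hom

theorem Lam₀_apply (w : u' ≫ f = f' ≫ s) (ξ : Spec (CommRingCat.of Ω) ⟶ S') {F : EtCoh.Ab X}
    {F' : EtCoh.Ab X'} (α : (EtCoh.pull u').obj F ⟶ F') (n : ℕ) (x : St f (ξ ≫ s) n F) :
    Lam₀ w ξ α n x = ((EtCoh.stalk ξ).map ((EtCoh.Rpush f' n).map α)).hom
      (((EtCoh.stalk ξ).map ((BCq w n).app F)).hom
        (((stalkPullIso s ξ).hom.app ((EtCoh.Rpush f n).obj F)).hom x)) := rfl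

/-- The map on stalks. -/
noncomputable def Lam (w : u' ≫ f = f' ≫ s) (ξ : Spec (CommRingCat.of Ω) ⟶ S') (ζ : Spec (CommRingCat.of Ω) ⟶ S)
    (hζ : ξ ≫ s = ζ) {F : EtCoh.Ab X} {F' : EtCoh.Ab X'} (α : (EtCoh.pull u').obj F ⟶ F') (n : ℕ) :
    St f ζ n F →+ St f' ξ n F' :=
  match ζ, hζ with
  | _, rfl => Lam₀ w ξ α n

theorem Lam_rfl (w : u' ≫ f = f' ≫ s) (ξ : Spec (CommRingCat.of Ω) ⟶ S') {F : EtCoh.Ab X}
    {F' : EtCoh.Ab X'} (α : (EtCoh.pull u').obj F ⟶ F') (n : ℕ) : Lam w ξ (ξ ≫ s) rfl α n = Lam₀ w ξ α n := rfl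

theorem theta_rfl_hom_app' (f : X' ⟶ X) (t : X ⟶ S) (G : EtCoh.Ab S) :
    th f t (f ≫ t) rfl G = (EtCore.pullComp f t).inv.app G := theta_rfl_hom_app f t G

theorem th_inv_pullComp (r : X' ⟶ X) (g' : X ⟶ S) (F : EtCoh.Ab S) :
    inv (th r g' (r ≫ g') rfl F) = (EtCore.pullComp r g').hom.app F := by
  rw [← cancel_epi (th r g' (r ≫ g') rfl F), IsIso.hom_inv_id, theta_rfl_hom_app' r g' F]
  exact ((EtCore.pullComp r g').inv_hom_id_app F).symm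

theorem map_exch_res {Z Z' : Scheme.{u}} {z : Z ⟶ X} {z' : Z' ⟶ X'} (k : Z' ⟶ Z) (h : k ≫ z = z' ≫ u') (n : ℕ)
    {F : EtCoh.Ab X} {F' : EtCoh.Ab X'} (α : (EtCoh.pull u').obj F ⟶ F') (c : HQ F z n) :
    Etcore.HQ.map α z' n (exch u' z' n F (res F k h n c)) = cl α k z z' (z' ≫ u') h rfl n c := by
  rw [exch, map_apply, cl_apply, res_apply, ← HHmap_comp, ← HHmap_comp, sh_eq, th_inv_pullComp]

theorem map_pc {V : S.Etale} {U : S'.Etale} (q : U.left ⟶ V.left) (hq : q ≫ V.hom = U.hom ≫ s)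
    (w : u' ≫ f = f' ≫ s) (n : ℕ) {F : EtCoh.Ab X} {F' : EtCoh.Ab X'} (α : (EtCoh.pull u').obj F ⟶ F')
    (c : HQ F (pr f V) n) :
    Etcore.HQ.map α (pr f' U) n (pc q hq w n F c) =
      cl α (bcSq f s f' u' w q hq) (pr f V) (pr f' U) (pr f' U ≫ u') (bcSq_hom f s f' u' w q hq) rfl n c :=
  map_exch_res (bcSq f s f' u' w q hq) (bcSq_hom f s f' u' w q hq) n α c

/-- **The maps on stalks in terms of classes.** -/
theorem Lam_rho (w : u' ≫ f = f' ≫ s) (ξ : Spec (CommRingCat.of Ω) ⟶ S') (ζ : Spec (CommRingCat.of Ω) ⟶ S)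
    (hζ : ξ ≫ s = ζ) {F : EtCoh.Ab X} {F' : EtCoh.Ab X'} (α : (EtCoh.pull u').obj F ⟶ F') (n : ℕ)
    {V : S.Etale} {U : S'.Etale} (q : U.left ⟶ V.left) (hq : q ≫ V.hom = U.hom ≫ s) (x : Fib ζ V) (y : Fib ξ U)
    (hxy : Etcore.StalkSec.hom ξ y ≫ q = Etcore.StalkSec.hom ζ x)
    (c : HQ F (pr f V) n) :
    Lam w ξ ζ hζ α n (rho f ζ x n F c) = rho f' ξ y n F'
      (cl α (bcSq f s f' u' w q hq) (pr f V) (pr f' U) (pr f' U ≫ u') (bcSq_hom f s f' u' w q hq) rfl n c) := by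
  subst hζ
  have e : x = down ξ q hq y := ext_hom _ _ _ (hxy.symm.trans (hom_down ξ q hq y).symm)
  subst e
  rw [Lam_rfl, Lam₀_apply, ← rho_bc, ← rho_map, map_pc]

/-- The projection `X ×_S V ⟶ V`. -/
noncomputable def toV (f : X ⟶ S) (V : S.Etale) : ((EtCoh.bc f).obj V).left ⟶ V.left := pullback.fst V.hom f

theorem toV_hom (f : X ⟶ S) (V : S.Etale) : toV f V ≫ V.hom = pr f V ≫ f := pullback.condition

theorem ext_bc (f : X ⟶ S) (V : S.Etale) {Z : Scheme.{u}} (a b : Z ⟶ ((EtCoh.bc f).obj V).left)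
    (h₁ : a ≫ toV f V = b ≫ toV f V) (h₂ : a ≫ pr f V = b ≫ pr f V) : a = b := pullback.hom_ext h₁ h₂

/-- Maps into `X ×_S V`. -/
noncomputable def liftV (f : X ⟶ S) (V : S.Etale) {Z : Scheme.{u}} (a : Z ⟶ V.left) (b : Z ⟶ X)
    (h : a ≫ V.hom = b ≫ f) : Z ⟶ ((EtCoh.bc f).obj V).left := pullback.lift a b h

@[reassoc (attr := simp)]
theorem liftV_toV (f : X ⟶ S) (V : S.Etale) {Z : Scheme.{u}} (a : Z ⟶ V.left) (b : Z ⟶ X)
    (h : a ≫ V.hom = b ≫ f) : liftV f V a b h ≫ toV f V = a := pullback.lift_fst _ _ _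

@[reassoc (attr := simp)]
theorem liftV_pr (f : X ⟶ S) (V : S.Etale) {Z : Scheme.{u}} (a : Z ⟶ V.left) (b : Z ⟶ X)
    (h : a ≫ V.hom = b ≫ f) : liftV f V a b h ≫ pr f V = b := pullback.lift_snd _ _ _

theorem mm_toV (f : X ⟶ S) {V V' : S.Etale} (k : V' ⟶ V) : mm f k ≫ toV f V = toV f V' ≫ k.left :=
  pullback.lift_fst _ _ _

theorem bcSq_toV (w : u' ≫ f = f' ≫ s) {V : S.Etale} {U : S'.Etale} (q : U.left ⟶ V.left)
    (hq : q ≫ V.hom = U.hom ≫ s) : bcSq f s f' u' w q hq ≫ toV f V = toV f' U ≫ q := bcSq_fst f s f' u' w q hq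

theorem bcSq_pr (w : u' ≫ f = f' ≫ s) {V : S.Etale} {U : S'.Etale} (q : U.left ⟶ V.left)
    (hq : q ≫ V.hom = U.hom ≫ s) : bcSq f s f' u' w q hq ≫ pr f V = pr f' U ≫ u' := bcSq_snd f s f' u' w q hq

/-- Lifts of a geometric point to a base change. -/
noncomputable def liftF (s : S' ⟶ S) (ξ : Spec (CommRingCat.of Ω) ⟶ S') (V : S.Etale)
    (l : Spec (CommRingCat.of Ω) ⟶ V.left) (hl : l ≫ V.hom = ξ ≫ s) : Fib ξ ((EtCoh.bc s).obj V) :=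
  mkLift ξ (liftV s V l ξ hl) (liftV_pr s V l ξ hl)

theorem hom_liftF (s : S' ⟶ S) (ξ : Spec (CommRingCat.of Ω) ⟶ S') (V : S.Etale)
    (l : Spec (CommRingCat.of Ω) ⟶ V.left) (hl : l ≫ V.hom = ξ ≫ s) :
    Etcore.StalkSec.hom ξ (liftF s ξ V l hl) ≫ toV s V = l := liftV_toV _ _ _ _ _

/-- `Lam_rho` for any form of the map `X' ×_S' U ⟶ X ×_S V`. -/
theorem Lam_rho' (w : u' ≫ f = f' ≫ s) (ξ : Spec (CommRingCat.of Ω) ⟶ S') (ζ : Spec (CommRingCat.of Ω) ⟶ S)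
    (hζ : ξ ≫ s = ζ) {F : EtCoh.Ab X} {F' : EtCoh.Ab X'} (α : (EtCoh.pull u').obj F ⟶ F') (n : ℕ)
    {V : S.Etale} {U : S'.Etale} (q : U.left ⟶ V.left) (hq : q ≫ V.hom = U.hom ≫ s) (x : Fib ζ V) (y : Fib ξ U)
    (hxy : Etcore.StalkSec.hom ξ y ≫ q = Etcore.StalkSec.hom ζ x)
    (b : ((EtCoh.bc f').obj U).left ⟶ ((EtCoh.bc f).obj V).left) (hb : b ≫ toV f V = toV f' U ≫ q)
    (d : ((EtCoh.bc f').obj U).left ⟶ X) (hb₁ : b ≫ pr f V = d) (hb₂ : pr f' U ≫ u' = d)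
    (c : HQ F (pr f V) n) :
    Lam w ξ ζ hζ α n (rho f ζ x n F c) = rho f' ξ y n F' (cl α b (pr f V) (pr f' U) d hb₁ hb₂ n c) := by
  subst hb₂
  have e : b = bcSq f s f' u' w q hq :=
    ext_bc f V _ _ (hb.trans (bcSq_toV w q hq).symm) (hb₁.trans (bcSq_pr w q hq).symm)
  subst e
  exact Lam_rho w ξ ζ hζ α n q hq x y hxy c

section comp

variable {X'' S'' : Scheme.{u}} {s' : S'' ⟶ S'} {s'' : S'' ⟶ S} {f'' : X'' ⟶ S''} {v' : X'' ⟶ X'} {v'' : X'' ⟶ X}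

/-- **The composition law.** -/
theorem Lam_Lam (w : u' ≫ f = f' ≫ s) (w' : v' ≫ f' = f'' ≫ s') (w'' : v'' ≫ f = f'' ≫ s'')
    (hv : v' ≫ u' = v'') (hs : s' ≫ s = s'')
    (ξ : Spec (CommRingCat.of Ω) ⟶ S'') (ξ' : Spec (CommRingCat.of Ω) ⟶ S') (ζ : Spec (CommRingCat.of Ω) ⟶ S)
    (h' : ξ ≫ s' = ξ') (h : ξ' ≫ s = ζ) (h'' : ξ ≫ s'' = ζ)
    {F : EtCoh.Ab X} {F' : EtCoh.Ab X'} {F'' : EtCoh.Ab X''} {α : (EtCoh.pull u').obj F ⟶ F'}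
    {α' : (EtCoh.pull v').obj F' ⟶ F''} {α'' : (EtCoh.pull v'').obj F ⟶ F''} (hα : Tri v' u' v'' hv α α' α'')
    (n : ℕ) (x : St f ζ n F) :
    Lam w' ξ ξ' h' α' n (Lam w ξ' ζ h α n x) = Lam w'' ξ ζ h'' α'' n x := by
  obtain ⟨V, x, c, rfl⟩ := exists_rho_eq f ζ n F x
  have e1 : Etcore.StalkSec.hom ζ x ≫ V.hom = ξ' ≫ s := (Etcore.StalkSec.hom_comp ζ x).trans h.symm
  let y : Fib ξ' ((EtCoh.bc s).obj V) := liftF s ξ' V _ e1
  have hy : Etcore.StalkSec.hom ξ' y ≫ toV s V = Etcore.StalkSec.hom ζ x := hom_liftF s ξ' V _ e1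
  have e2 : Etcore.StalkSec.hom ξ' y ≫ ((EtCoh.bc s).obj V).hom = ξ ≫ s' :=
    (Etcore.StalkSec.hom_comp ξ' y).trans h'.symm
  let z : Fib ξ ((EtCoh.bc s').obj ((EtCoh.bc s).obj V)) := liftF s' ξ _ _ e2
  have hz : Etcore.StalkSec.hom ξ z ≫ toV s' ((EtCoh.bc s).obj V) = Etcore.StalkSec.hom ξ' y :=
    hom_liftF s' ξ _ _ e2
  have q1 := toV_hom s V
  have q2 := toV_hom s' ((EtCoh.bc s).obj V)
  have q3 : (toV s' ((EtCoh.bc s).obj V) ≫ toV s V) ≫ V.hom =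
      ((EtCoh.bc s').obj ((EtCoh.bc s).obj V)).hom ≫ s'' := by
    rw [Category.assoc, q1, ← hs]
    exact (Category.assoc _ _ _).symm.trans ((congrArg (· ≫ s) q2).trans (Category.assoc _ _ _))
  rw [Lam_rho w ξ' ζ h α n (toV s V) q1 x y hy c, Lam_rho w' ξ ξ' h' α' n (toV s' ((EtCoh.bc s).obj V)) q2 y z hz,
    Lam_rho w'' ξ ζ h'' α'' n (toV s' ((EtCoh.bc s).obj V) ≫ toV s V) q3 x z (by
      rw [← Category.assoc, hz, hy])]
  congr 1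
  refine cl_cl hv hα _ _ _ ?_ _ _ _ _ _ _ _ _ _ _ _ _ n c
  apply ext_bc
  · rw [Category.assoc, bcSq_toV, ← Category.assoc, bcSq_toV, Category.assoc, bcSq_toV]
  · rw [Category.assoc, bcSq_pr, ← Category.assoc, bcSq_pr, Category.assoc, bcSq_pr, hv]

end comp

end K558.LamBC
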