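import Groth.Agent.EtBC.K558.Lam

/-!
# Classes on `X ×_{S₀} V₀`

For `f : X ⟶ S`, `s : S ⟶ S₀`, `V₀` étale over `S₀`: `RB : H^n(X ×_{S₀} V₀, F) → (R^n f_* F)_ξ`, `Lam_RB`.
`isIso_bcQ_iff_lam`: the base change map is an isomorphism iff the maps `Lam` are bijective.
-/

set_option autoImplicit false
universe u
open CategoryTheory CategoryTheory.Limits AlgebraicGeometry Opposite Abelian
open scoped Groth.Agent.Sga4B.EtAbInst
open scoped Groth.Agent.Etcore.EtInst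
open Groth.Agent.Etcore.EtInst

namespace K558.LamBC

open Groth.Agent Groth.Agent.Localalg.DeltaFun Groth.Agent.Sga4B Groth.Agent.Sga4B.BCDelta
  Groth.Agent.Etcore.HQ K558.Rho K558.LimCl Groth.Agent.Etcore.PullCoh Groth.Agent.Etcore.SecPull
  Groth.Agent.Etcore.IntBC
open Groth.Agent.Etcore.RpushLoc (pr mm mm_pr)
open Groth.Agent.Etbase.StalkPull (stalkPullIso)
open Groth.Agent.Etcore.StalkSec (mkLift ext_hom hom_mkLift)

variable {X S S₀ : Scheme.{u}} (f : X ⟶ S) (s : S ⟶ S₀) (t : X ⟶ S₀) (ht : f ≫ s = t) (V₀ : S₀.Etale)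

/-- The isomorphism `X ×_S (S ×_{S₀} V₀) ≅ X ×_{S₀} V₀`. -/
noncomputable def isoB : ((EtCoh.bc f).obj ((EtCoh.bc s).obj V₀)).left ≅ ((EtCoh.bc t).obj V₀).left where
  hom := liftV t V₀ (toV f ((EtCoh.bc s).obj V₀) ≫ toV s V₀) (pr f ((EtCoh.bc s).obj V₀)) (by
    rw [Category.assoc, toV_hom, ← ht, ← Category.assoc]
    exact (congrArg (· ≫ s) (toV_hom f ((EtCoh.bc s).obj V₀))).trans (Category.assoc _ _ _))
  inv := liftV f ((EtCoh.bc s).obj V₀) (liftV s V₀ (toV t V₀) (pr t V₀ ≫ f) (by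
    rw [toV_hom, Category.assoc, ht])) (pr t V₀) (liftV_pr s V₀ _ _ _)
  hom_inv_id := by
    apply ext_bc
    · rw [Category.assoc, liftV_toV, Category.id_comp]
      apply ext_bc
      · rw [Category.assoc, liftV_toV, liftV_toV]
      · rw [Category.assoc, liftV_pr, liftV_pr_assoc]
        exact (toV_hom f ((EtCoh.bc s).obj V₀)).symm
    · rw [Category.assoc, liftV_pr, liftV_pr, Category.id_comp]
  inv_hom_id := by
    apply ext_bc
    · rw [Category.assoc, liftV_toV, liftV_toV_assoc, liftV_toV, Category.id_comp]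
    · rw [Category.assoc, liftV_pr, liftV_pr, Category.id_comp]

theorem isoB_hom_toV : (isoB f s t ht V₀).hom ≫ toV t V₀ = toV f ((EtCoh.bc s).obj V₀) ≫ toV s V₀ :=
  liftV_toV _ _ _ _ _

theorem isoB_hom_pr : (isoB f s t ht V₀).hom ≫ pr t V₀ = pr f ((EtCoh.bc s).obj V₀) :=
  liftV_pr _ _ _ _ _

variable {Ω : Type u} [Field Ω] [IsSepClosed Ω] (ξ : Spec (CommRingCat.of Ω) ⟶ S)

/-- `H^n(X ×_{S₀} V₀, F) → (R^n f_* F)_ξ` -/
noncomputable def RB (x : Fib ξ ((EtCoh.bc s).obj V₀)) (n : ℕ) (F : EtCoh.Ab X) : HQ F (pr t V₀) n →+ St f ξ n F :=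
  (rho f ξ x n F).comp (res F (isoB f s t ht V₀).hom (isoB_hom_pr f s t ht V₀) n)

theorem RB_apply (x : Fib ξ ((EtCoh.bc s).obj V₀)) (n : ℕ) (F : EtCoh.Ab X) (c : HQ F (pr t V₀) n) :
    RB f s t ht V₀ ξ x n F c = rho f ξ x n F (res F (isoB f s t ht V₀).hom (isoB_hom_pr f s t ht V₀) n c) := rfl

theorem exists_RB (x : Fib ξ ((EtCoh.bc s).obj V₀)) (n : ℕ) (F : EtCoh.Ab X)
    (c : HQ F (pr f ((EtCoh.bc s).obj V₀)) n) : ∃ c' : HQ F (pr t V₀) n, RB f s t ht V₀ ξ x n F c' = rho f ξ x n F c := by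
  obtain ⟨c', h⟩ := (Etcore.LimBC1.res_bijective F (isoB f s t ht V₀).hom (isoB_hom_pr f s t ht V₀) n).2 c
  exact ⟨c', congrArg (rho f ξ x n F) h⟩

section Lam

variable {f s t V₀} {ξ} {X' S' : Scheme.{u}} {a : S' ⟶ S} {f' : X' ⟶ S'} {u' : X' ⟶ X} {s' : S' ⟶ S₀} {t' : X' ⟶ S₀}
  (ht' : f' ≫ s' = t')

/-- `Lam` on classes on `X ×_{S₀} V₀`. -/
theorem Lam_RB (w : u' ≫ f = f' ≫ a) (has : a ≫ s = s') (ξ : Spec (CommRingCat.of Ω) ⟶ S')
    (ζ : Spec (CommRingCat.of Ω) ⟶ S) (hζ : ξ ≫ a = ζ) {F : EtCoh.Ab X} {F' : EtCoh.Ab X'}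
    (α : (EtCoh.pull u').obj F ⟶ F') (n : ℕ) (x : Fib ζ ((EtCoh.bc s).obj V₀)) (y : Fib ξ ((EtCoh.bc s').obj V₀))
    (hxy : Etcore.StalkSec.hom ξ y ≫ toV s' V₀ = Etcore.StalkSec.hom ζ x ≫ toV s V₀)
    (b : ((EtCoh.bc t').obj V₀).left ⟶ ((EtCoh.bc t).obj V₀).left) (hb : b ≫ toV t V₀ = toV t' V₀)
    (d : ((EtCoh.bc t').obj V₀).left ⟶ X) (hb₁ : b ≫ pr t V₀ = d) (hb₂ : pr t' V₀ ≫ u' = d)
    (c : HQ F (pr t V₀) n) :
    Lam w ξ ζ hζ α n (RB f s t ht V₀ ζ x n F c) =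
      RB f' s' t' ht' V₀ ξ y n F' (cl α b (pr t V₀) (pr t' V₀) d hb₁ hb₂ n c) := by
  have q0 : toV s' V₀ ≫ V₀.hom = (((EtCoh.bc s').obj V₀).hom ≫ a) ≫ s := by
    rw [Category.assoc, has]
    exact toV_hom s' V₀
  let q : ((EtCoh.bc s').obj V₀).left ⟶ ((EtCoh.bc s).obj V₀).left :=
    liftV s V₀ (toV s' V₀) (((EtCoh.bc s').obj V₀).hom ≫ a) q0
  have hq : q ≫ ((EtCoh.bc s).obj V₀).hom = ((EtCoh.bc s').obj V₀).hom ≫ a := liftV_pr s V₀ _ _ q0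
  have hqt : q ≫ toV s V₀ = toV s' V₀ := liftV_toV s V₀ _ _ q0
  have hy : Etcore.StalkSec.hom ξ y ≫ q = Etcore.StalkSec.hom ζ x := by
    apply ext_bc
    · rw [Category.assoc, hqt, hxy]
    · refine (Category.assoc _ _ _).trans ?_
      refine (congrArg (Etcore.StalkSec.hom ξ y ≫ ·) hq).trans ?_
      refine (Category.assoc _ _ _).symm.trans ?_
      refine (congrArg (· ≫ a) (Etcore.StalkSec.hom_comp ξ y)).trans ?_
      exact hζ.trans (Etcore.StalkSec.hom_comp ζ x).symm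
  rw [RB_apply, RB_apply, Lam_rho w ξ ζ hζ α n q hq x y hy,
    cl_res α _ _ _ _ _ _ (pr t V₀) (isoB f s t ht V₀).hom (isoB_hom_pr f s t ht V₀)
      (bcSq f a f' u' w q hq ≫ (isoB f s t ht V₀).hom) rfl
      (by rw [Category.assoc, isoB_hom_pr, bcSq_pr]) n c,
    res_cl α b _ _ _ _ _ (isoB f' s' t' ht' V₀).hom _ (isoB_hom_pr f' s' t' ht' V₀)
      (bcSq f a f' u' w q hq ≫ (isoB f s t ht V₀).hom) ?_ (pr f' ((EtCoh.bc s').obj V₀) ≫ u')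
      (by rw [Category.assoc, isoB_hom_pr, bcSq_pr]) rfl n c]
  apply ext_bc
  · rw [Category.assoc, hb, isoB_hom_toV, Category.assoc, isoB_hom_toV, ← Category.assoc (bcSq f a f' u' w q hq),
      bcSq_toV, Category.assoc, hqt]
  · rw [Category.assoc, hb₁, Category.assoc, isoB_hom_pr, bcSq_pr, ← hb₂, ← Category.assoc, isoB_hom_pr]

end Lam

section iso

variable {X' S' : Scheme.{u}} {g : S' ⟶ S} {f' : X' ⟶ S'} {g' : X' ⟶ X}

theorem Lam₀_bijective_iff (w : g' ≫ f = f' ≫ g) (ξ : Spec (CommRingCat.of Ω) ⟶ S') (F : EtCoh.Ab X) (n : ℕ) :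
    Function.Bijective (Lam₀ w ξ (𝟙 ((EtCoh.pull g').obj F)) n) ↔
      IsIso ((EtCoh.stalk ξ).map ((BCq w n).app F)) := by
  have h1 : Function.Bijective ((stalkPullIso g ξ).hom.app ((EtCoh.Rpush f n).obj F)).hom :=
    ConcreteCategory.bijective_of_isIso ((stalkPullIso g ξ).hom.app ((EtCoh.Rpush f n).obj F))
  have h2 : ⇑(Lam₀ w ξ (𝟙 ((EtCoh.pull g').obj F)) n) = ⇑((EtCoh.stalk ξ).map ((BCq w n).app F)).hom ∘
      ⇑((stalkPullIso g ξ).hom.app ((EtCoh.Rpush f n).obj F)).hom := by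
    funext x
    rw [Lam₀_apply, CategoryTheory.Functor.map_id, CategoryTheory.Functor.map_id]
    rfl
  rw [h2, Function.Bijective.of_comp_iff _ h1]
  exact (ConcreteCategory.isIso_iff_bijective _).symm

theorem isIso_bcQ_iff_lam (w : g' ≫ f = f' ≫ g) [PreservesFiniteLimits (EtCoh.pull g')] (F : EtCoh.Ab X) (n : ℕ) :
    IsIso (EtBC.bcQ f g f' g' w n F) ↔ ∀ (Ω : Type u) [Field Ω] [IsSepClosed Ω]
      (ξ : Spec (CommRingCat.of Ω) ⟶ S'), Function.Bijective (Lam₀ w ξ (𝟙 ((EtCoh.pull g').obj F)) n) := by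
  rw [K557.BcQ.isIso_bcQ_iff, Etcore.Stalks.isIso_iff_stalks]
  exact ⟨fun h Ω _ _ ξ => (Lam₀_bijective_iff f w ξ F n).2 (h Ω ξ),
    fun h Ω _ _ ξ => (Lam₀_bijective_iff f w ξ F n).1 (h Ω ξ)⟩

end iso

end K558.LamBC
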