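import Groth.Agent.Etcore.RpushLoc
import Groth.Agent.Sga4B.BCDelta0
import Groth.Agent.Etcore.StalkUnit
import Groth.Agent.EtBC.K558.RhoAbs

/-!
# Stalks of higher direct images in terms of classes

For `f : X ⟶ S`, a geometric point `ξ` of `S`, and `V` étale over `S` with a lift `x` of `ξ`:

* `rho f ξ x n F : HQ F (pr f V) n →+ (EtCoh.stalk ξ).obj ((EtCoh.Rpush f n).obj F)`, a morphism of delta functors
  (`rhoD`, `rho_map`) which in degree `0` is the germ (`rho_secP`);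
* `rho_res`, `exists_rho_eq` (joint surjectivity), `exists_res_eq_zero` (the kernel).
-/

set_option autoImplicit false
universe u
open CategoryTheory CategoryTheory.Limits AlgebraicGeometry Opposite Abelian
open scoped Groth.Agent.Sga4B.EtAbInst
open scoped Groth.Agent.Etcore.EtInst
open Groth.Agent.Etcore.EtInst

namespace K558.Rho

open Groth.Agent Groth.Agent.Localalg.DeltaFun Groth.Agent.Sga4B Groth.Agent.Sga4B.BCDelta
  Groth.Agent.Etcore.HQ K558.RhoAbs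
open Groth.Agent.Etcore.RpushLoc (pr mm mm_pr secP secP_bijective res_secP map_secP)
open Groth.Agent.Etcore.Stalks (germ germ_res germ_map exists_germ germ_eq_iff)

variable {X S : Scheme.{u}}

/-- The lifts of `ξ` to `V`. -/
abbrev Fib {S : Scheme.{u}} {Ω : Type u} [Field Ω] [IsSepClosed Ω] (ξ : Spec (CommRingCat.of Ω) ⟶ S)
    (V : S.Etale) := (Scheme.pointSmallEtale ξ).fiber.obj V

/-- The action of morphisms on lifts. -/
noncomputable abbrev fmap {S : Scheme.{u}} {Ω : Type u} [Field Ω] [IsSepClosed Ω] (ξ : Spec (CommRingCat.of Ω) ⟶ S)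
    {V V' : S.Etale} (k : V' ⟶ V) (y : Fib ξ V') : Fib ξ V := (Scheme.pointSmallEtale ξ).fiber.map k y

section T

variable {Z Z' Z'' : Scheme.{u}} (q : Z ⟶ X)

/-- `n ↦ H^n(Z, q⁻¹ F)` -/
noncomputable def tD : DeltaFunctor (EtCoh.Ab X) AddCommGrpCat.{u + 1} :=
  (DeltaH.ofExt (EtCoh.const Z ℤ)).precomp (EtCoh.pull q)

theorem tD_obj (n : ℕ) (F : EtCoh.Ab X) : ((tD q).T n).obj F = AddCommGrpCat.of (HQ F q n) := rfl

theorem tD_map (n : ℕ) {F G : EtCoh.Ab X} (φ : F ⟶ G) (c : HQ F q n) :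
    (((tD q).T n).map φ).hom c = Etcore.HQ.map φ q n c := rfl

theorem tD_δ {A : ShortComplex (EtCoh.Ab X)} (hA : A.ShortExact) (n : ℕ) (c : HQ A.X₃ q n) :
    ((tD q).δ hA n).hom c = Etcore.HQ.δ hA q n c := rfl

theorem tD_eff [Etale q] : (tD q).Effaceable := fun J _ n => by
  have : Subsingleton (HQ J q (n + 1)) :=
    ⟨fun a b => (eq_zero_of_injective J q n a).trans (eq_zero_of_injective J q n b).symm⟩
  exact AddCommGrpCat.isZero_of_subsingleton (AddCommGrpCat.of (HQ J q (n + 1)))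

/-- Pullback of classes as a morphism of delta functors. -/
noncomputable def resD {q : Z ⟶ X} {q' : Z' ⟶ X} (k : Z' ⟶ Z) (h : k ≫ q = q') : DeltaHom (tD q) (tD q') where
  app n :=
    { app := fun F => AddCommGrpCat.ofHom (res F k h n)
      naturality := fun F G φ => by
        ext c
        exact res_map φ k h n c }
  comm {A} hA n := by
    ext c
    exact (res_δ hA k h n c).symm

theorem resD_app {q : Z ⟶ X} {q' : Z' ⟶ X} (k : Z' ⟶ Z) (h : k ≫ q = q') (n : ℕ) (F : EtCoh.Ab X)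
    (c : HQ F q n) : (((resD k h).app n).app F).hom c = res F k h n c := rfl

theorem resD_comp {q : Z ⟶ X} {q' : Z' ⟶ X} {q'' : Z'' ⟶ X} (k : Z' ⟶ Z) (h : k ≫ q = q')
    (k' : Z'' ⟶ Z') (h' : k' ≫ q' = q'') (k'' : Z'' ⟶ Z) (e : k' ≫ k = k'') (h'' : k'' ≫ q = q'') (n : ℕ) :
    (resD k'' h'').app n = (resD k h).app n ≫ (resD k' h').app n := by
  ext F c
  exact (res_res F k h k' h' k'' e h'' n c).symm

end T

variable (f : X ⟶ S) {Ω : Type u} [Field Ω] [IsSepClosed Ω] (ξ : Spec (CommRingCat.of Ω) ⟶ S)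

/-- `n ↦ (R^n f_* F)_ξ` -/
noncomputable def rD : DeltaFunctor (EtCoh.Ab X) AddCommGrpCat.{u + 1} :=
  (RpushD f).postcomp (EtCoh.stalk ξ)

theorem rD_T (n : ℕ) : (rD f ξ).T n = EtCoh.Rpush f n ⋙ EtCoh.stalk ξ := rfl

/-- The stalk of `R^n f_* F`. -/
noncomputable abbrev St (n : ℕ) (F : EtCoh.Ab X) : AddCommGrpCat.{u + 1} :=
  (EtCoh.stalk ξ).obj ((EtCoh.Rpush f n).obj F)

variable {V V' : S.Etale} (x : Fib ξ V)

theorem secP_add (F : EtCoh.Ab X) (V : S.Etale) (a b : EtCoh.sect F ((EtCoh.bc f).obj V)) :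
    secP f F V (a + b) = secP f F V a + secP f F V b := sec_add F (pr f V) (𝟙 _) _ a b

/-- The inverse of `secP`. -/
noncomputable def toSec (F : EtCoh.Ab X) (V : S.Etale) (c : HQ F (pr f V) 0) :
    EtCoh.sect F ((EtCoh.bc f).obj V) := ((secP_bijective f F V).2 c).choose

theorem secP_toSec (F : EtCoh.Ab X) (V : S.Etale) (c : HQ F (pr f V) 0) : secP f F V (toSec f F V c) = c :=
  ((secP_bijective f F V).2 c).choose_spec

theorem toSec_secP (F : EtCoh.Ab X) (V : S.Etale) (s : EtCoh.sect F ((EtCoh.bc f).obj V)) :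
    toSec f F V (secP f F V s) = s := (secP_bijective f F V).1 (secP_toSec f F V _)

theorem toSec_add (F : EtCoh.Ab X) (V : S.Etale) (a b : HQ F (pr f V) 0) :
    toSec f F V (a + b) = toSec f F V a + toSec f F V b := by
  apply (secP_bijective f F V).1
  rw [secP_toSec, secP_add, secP_toSec, secP_toSec]

theorem toSec_zero (F : EtCoh.Ab X) (V : S.Etale) : toSec f F V (0 : HQ F (pr f V) 0) = 0 := by
  apply (secP_bijective f F V).1
  rw [secP_toSec]
  exact (sec_zero F _ _ _).symm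

/-- The germ of a class of degree zero. -/
noncomputable def germC (F : EtCoh.Ab X) : HQ F (pr f V) 0 →+ ((EtCoh.stalk ξ).obj ((EtCoh.push f).obj F)) where
  toFun c := (germ ξ ((EtCoh.push f).obj F) x).hom (toSec f F V c)
  map_zero' := by
    rw [toSec_zero]
    exact map_zero _
  map_add' a b := by
    rw [toSec_add]
    exact map_add _ _ _

theorem germC_secP (F : EtCoh.Ab X) (s : EtCoh.sect F ((EtCoh.bc f).obj V)) :
    germC f ξ x F (secP f F V s) = germ ξ ((EtCoh.push f).obj F) x s :=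
  congrArg (germ ξ ((EtCoh.push f).obj F) x).hom (toSec_secP f F V s)

theorem germC_map {F G : EtCoh.Ab X} (φ : F ⟶ G) (c : HQ F (pr f V) 0) :
    germC f ξ x G (Etcore.HQ.map φ (pr f V) 0 c) =
      ((EtCoh.stalk ξ).map ((EtCoh.push f).map φ)).hom (germC f ξ x F c) := by
  obtain ⟨s, rfl⟩ := (secP_bijective f F V).2 c
  rw [map_secP, germC_secP, germC_secP]
  exact (germ_map ξ ((EtCoh.push f).map φ) x s).symm

/-- Degree zero as a natural transformation. -/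
noncomputable def phi1 : (tD (pr f V)).T 0 ⟶ EtCoh.push f ⋙ EtCoh.stalk ξ where
  app F := AddCommGrpCat.ofHom (germC f ξ x F)
  naturality F G φ := by
    ext c
    exact germC_map f ξ x φ c

/-- Degree zero. -/
noncomputable def phi0 : (tD (pr f V)).T 0 ⟶ (rD f ξ).T 0 :=
  phi1 f ξ x ≫ Functor.whiskerRight (zeroIso f).inv (EtCoh.stalk ξ)

theorem phi0_apply (F : EtCoh.Ab X) (c : HQ F (pr f V) 0) :
    ((phi0 f ξ x).app F).hom c = ((EtCoh.stalk ξ).map ((zeroIso f).inv.app F)).hom (germC f ξ x F c) := rfl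

theorem germC_res (k : V' ⟶ V) (y : Fib ξ V') (F : EtCoh.Ab X) (c : HQ F (pr f V) 0) :
    germC f ξ y F (res F (mm f k) (mm_pr f k) 0 c) = germC f ξ (fmap ξ k y) F c := by
  obtain ⟨s, rfl⟩ := (secP_bijective f F V).2 c
  rw [res_secP, germC_secP, germC_secP]
  exact germ_res ξ (F := (EtCoh.push f).obj F) k y s

/-- The étale neighbourhoods of `ξ`. -/
abbrev Nbhd := Σ V : S.Etale, Fib ξ V

/-- The maps of étale neighbourhoods. -/
abbrev NRef (i j : Nbhd ξ) := {k : j.1 ⟶ i.1 // fmap ξ k j.2 = i.2}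

theorem stalk_inj (F : EtCoh.Ab X) :
    Function.Bijective ((EtCoh.stalk ξ).map ((zeroIso f).inv.app F)).hom :=
  ConcreteCategory.bijective_of_isIso ((EtCoh.stalk ξ).map ((zeroIso f).inv.app F))

theorem funMap_comp {D : Type*} [Category* D] (P : D ⥤ Type u) {A B E : D} (b : A ⟶ B) (a : B ⟶ E)
    (z : P.obj A) : P.map (b ≫ a) z = P.map a (P.map b z) := by
  rw [P.map_comp]
  rfl

theorem nref_comp {i j k : Nbhd ξ} (a : NRef ξ i j) (b : NRef ξ j k) : fmap ξ (b.1 ≫ a.1) k.2 = i.2 := by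
  have h1 := a.2
  have h2 := b.2
  refine (funMap_comp (Scheme.pointSmallEtale ξ).fiber b.1 a.1 k.2).trans ?_
  exact (congrArg (fmap ξ a.1) h2).trans h1

theorem mm_comp {V₁ V₂ V₃ : S.Etale} (b : V₃ ⟶ V₂) (a : V₂ ⟶ V₁) : mm f b ≫ mm f a = mm f (b ≫ a) :=
  (congrArg (fun t => t.left) ((EtCoh.bc f).map_comp b a)).symm

theorem resD_nref {i j k : Nbhd ξ} (a : NRef ξ i j) (b : NRef ξ j k) (n : ℕ) :
    (resD (mm f (b.1 ≫ a.1)) (mm_pr f (b.1 ≫ a.1))).app n =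
      (resD (mm f a.1) (mm_pr f a.1)).app n ≫ (resD (mm f b.1) (mm_pr f b.1)).app n :=
  resD_comp _ _ _ _ _ (mm_comp f b.1 a.1) _ n

theorem phi0_nref {i j : Nbhd ξ} (a : NRef ξ i j) :
    (resD (mm f a.1) (mm_pr f a.1)).app 0 ≫ phi0 f ξ j.2 = phi0 f ξ i.2 := by
  ext F c
  change ((EtCoh.stalk ξ).map ((zeroIso f).inv.app F)).hom (germC f ξ j.2 F (res F (mm f a.1) (mm_pr f a.1) 0 c)) =
    ((EtCoh.stalk ξ).map ((zeroIso f).inv.app F)).hom (germC f ξ i.2 F c)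
  rw [germC_res, a.2]

theorem phi0_surj (F : EtCoh.Ab X) (z : St f ξ 0 F) :
    ∃ (i : Nbhd ξ) (c : HQ F (pr f i.1) 0), ((phi0 f ξ i.2).app F).hom c = z := by
  obtain ⟨z', rfl⟩ := (stalk_inj f ξ F).2 z
  obtain ⟨V, x, s, rfl⟩ := exists_germ ξ ((EtCoh.push f).obj F) z'
  exact ⟨⟨V, x⟩, secP f F V s, congrArg _ (germC_secP f ξ x F s)⟩

theorem phi0_ker (F : EtCoh.Ab X) (i : Nbhd ξ) (c : HQ F (pr f i.1) 0) (hc : ((phi0 f ξ i.2).app F).hom c = 0) :
    ∃ (j : Nbhd ξ) (a : NRef ξ i j), res F (mm f a.1) (mm_pr f a.1) 0 c = 0 := by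
  obtain ⟨s, rfl⟩ := (secP_bijective f F i.1).2 c
  have h1 : germ ξ ((EtCoh.push f).obj F) i.2 s = germ ξ ((EtCoh.push f).obj F) i.2 0 := by
    apply (stalk_inj f ξ F).1
    rw [map_zero, map_zero, ← germC_secP]
    exact hc
  obtain ⟨V', k, y, hy, h2⟩ := (germ_eq_iff ξ ((EtCoh.push f).obj F) i.2 s 0).1 h1
  refine ⟨⟨V', y⟩, ⟨k, hy⟩, ?_⟩
  have h3 : F.obj.map ((EtCoh.bc f).map k).op s = 0 := h2.trans (map_zero _)
  refine (res_secP f F k s).trans ?_
  rw [h3]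
  exact sec_zero F _ _ _

theorem nbhd_dir (i j : Nbhd ξ) : ∃ k, Nonempty (NRef ξ i k) ∧ Nonempty (NRef ξ j k) := by
  obtain ⟨W, a, b, w, h1, h2⟩ := EtpbcA.StalkTools.exists_common ξ i.2 j.2
  exact ⟨⟨W, w⟩, ⟨⟨a, h1⟩⟩, ⟨⟨b, h2⟩⟩⟩

/-- The system of classes. -/
noncomputable def data : Data (fun i : Nbhd ξ => tD (pr f i.1)) (rD f ξ) where
  hT i := tD_eff (pr f i.1)
  hR J _ n := (EtCoh.stalk ξ).map_isZero (RpushD_eff f J n)
  Ref i j := NRef ξ i j
  res a := resD (mm f a.1) (mm_pr f a.1)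
  dir i j := nbhd_dir ξ i j
  res_comp {i j k} a b := ⟨⟨b.1 ≫ a.1, nref_comp ξ a b⟩, fun n => resD_nref f ξ a b n⟩
  φ i := phi0 f ξ i.2
  hφ {i j} a := phi0_nref f ξ a
  surj F z := phi0_surj f ξ F z
  ker F i c hc := phi0_ker f ξ F i c hc

/-- The morphism of delta functors `H^n(X ×_S V, F) → (R^n f_* F)_ξ`. -/
noncomputable def rhoD : DeltaHom (tD (pr f V)) (rD f ξ) := (data f ξ).rho ⟨V, x⟩

theorem rhoD_zero : (rhoD f ξ x).app 0 = phi0 f ξ x := (data f ξ).rho_zero ⟨V, x⟩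

/-- The map `H^n(X ×_S V, F) → (R^n f_* F)_ξ`. -/
noncomputable def rho (n : ℕ) (F : EtCoh.Ab X) : HQ F (pr f V) n →+ St f ξ n F :=
  (((rhoD f ξ x).app n).app F).hom

theorem rho_zero (F : EtCoh.Ab X) (c : HQ F (pr f V) 0) :
    rho f ξ x 0 F c = ((EtCoh.stalk ξ).map ((zeroIso f).inv.app F)).hom (germC f ξ x F c) := by
  rw [rho, rhoD_zero]
  rfl

theorem rho_map (n : ℕ) {F G : EtCoh.Ab X} (φ : F ⟶ G) (c : HQ F (pr f V) n) :
    rho f ξ x n G (Etcore.HQ.map φ (pr f V) n c) =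
      ((EtCoh.stalk ξ).map ((EtCoh.Rpush f n).map φ)).hom (rho f ξ x n F c) :=
  (congrArg (((rhoD f ξ x).app n).app G).hom (tD_map (pr f V) n φ c).symm).trans
    (nat_apply (rhoD f ξ x) n φ c)

theorem rho_res (k : V' ⟶ V) (y : Fib ξ V') (h : fmap ξ k y = x) (n : ℕ) (F : EtCoh.Ab X) (c : HQ F (pr f V) n) :
    rho f ξ y n F (res F (mm f k) (mm_pr f k) n c) = rho f ξ x n F c :=
  (data f ξ).rho_res_apply (i := ⟨V, x⟩) (j := ⟨V', y⟩) ⟨k, h⟩ n F c

theorem exists_rho_eq (n : ℕ) (F : EtCoh.Ab X) (z : St f ξ n F) :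
    ∃ (V : S.Etale) (x : Fib ξ V) (c : HQ F (pr f V) n), rho f ξ x n F c = z := by
  obtain ⟨i, c, h⟩ := ((data f ξ).main n F).1 z
  exact ⟨i.1, i.2, c, h⟩

theorem exists_res_eq_zero (n : ℕ) (F : EtCoh.Ab X) (c : HQ F (pr f V) n) (hc : rho f ξ x n F c = 0) :
    ∃ (V' : S.Etale) (k : V' ⟶ V) (y : Fib ξ V'), fmap ξ k y = x ∧ res F (mm f k) (mm_pr f k) n c = 0 := by
  obtain ⟨j, a, h⟩ := ((data f ξ).main n F).2 ⟨V, x⟩ c hc
  exact ⟨j.1, a.1, j.2, a.2, h⟩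

end K558.Rho
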