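import Groth.Agent.EtBC.K558.Rho
import Groth.Agent.SGA4h.K557.DeltaCalc
import Groth.Agent.Etcore.IntBC

/-!
# The base change map on classes

`rho_bc`: for a square `w : g' ≫ f = f' ≫ g`, `U ⟶ V` over `g` and a lift `y` of `ξ` to `U`, the base change map
`BCq w n` on stalks takes `rho c` to `rho` of the pullback of `c`.
-/

set_option autoImplicit false
universe u
open CategoryTheory CategoryTheory.Limits AlgebraicGeometry Opposite Abelian
open scoped Groth.Agent.Sga4B.EtAbInst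
open scoped Groth.Agent.Etcore.EtInst
open Groth.Agent.Etcore.EtInst

namespace K558.Rho

open Groth.Agent Groth.Agent.Localalg.DeltaFun Groth.Agent.Sga4B Groth.Agent.Sga4B.BCDelta
  Groth.Agent.Etcore.HQ K558.RhoAbs Groth.Agent.Etcore.SecPull Groth.Agent.Etcore.IntBC
open Groth.Agent.Etcore.RpushLoc (pr mm mm_pr secP secP_bijective res_secP map_secP)
open Groth.Agent.Etcore.Stalks (germ germ_res germ_map exists_germ germ_eq_iff)
open Groth.Agent.Etbase.StalkPull (stalkPullIso fiberIso)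

variable {X S X' S' : Scheme.{u}} {f : X ⟶ S} {g : S' ⟶ S} {f' : X' ⟶ S'} {g' : X' ⟶ X}
  {Ω : Type u} [Field Ω] [IsSepClosed Ω] (ξ : Spec (CommRingCat.of Ω) ⟶ S')
  {U : S'.Etale} {V : S.Etale} (q : U.left ⟶ V.left) (hq : q ≫ V.hom = U.hom ≫ g) (y : Fib ξ U)

/-- The image of a lift of `ξ`. -/
noncomputable def down : Fib (ξ ≫ g) V :=
  Etcore.StalkSec.mkLift (ξ ≫ g) (Etcore.StalkSec.hom ξ y ≫ q) (by
    rw [Category.assoc, hq, ← Category.assoc, Etcore.StalkSec.hom_comp])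

theorem hom_down : Etcore.StalkSec.hom (ξ ≫ g) (down ξ q hq y) = Etcore.StalkSec.hom ξ y ≫ q := rfl

set_option backward.isDefEq.respectTransparency.types false in
theorem hom_fiberIso (x : Fib (ξ ≫ g) V) :
    Etcore.StalkSec.hom ξ ((fiberIso g ξ).hom.app V x) ≫
      (pullback.fst V.hom g : ((EtCoh.bc g).obj V).left ⟶ V.left) = Etcore.StalkSec.hom (ξ ≫ g) x :=
  pullback.lift_fst _ _ _

theorem fmap_liftBC : fmap ξ (liftBC g q hq) y = (fiberIso g ξ).hom.app V (down ξ q hq y) := by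
  apply Etcore.StalkSec.ext_hom
  rw [Etcore.StalkSec.hom_map]
  apply pullback.hom_ext
  · refine Eq.trans ?_ (hom_fiberIso ξ (down ξ q hq y)).symm
    rw [hom_down]
    exact (Category.assoc _ _ _).trans (congrArg (Etcore.StalkSec.hom ξ y ≫ ·) (toFst_liftBC g q hq))
  · refine Eq.trans ?_ (Etcore.StalkSec.hom_comp ξ ((fiberIso g ξ).hom.app V (down ξ q hq y))).symm
    refine ((Category.assoc _ _ _).trans ?_)
    exact (congrArg (Etcore.StalkSec.hom ξ y ≫ ·) (EtpbcB.Big.et_w (liftBC g q hq))).trans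
      (Etcore.StalkSec.hom_comp ξ y)

theorem germ_sq (G : EtCoh.Ab S) (s : EtCoh.sect G V) :
    ((stalkPullIso g ξ).hom.app G).hom (germ (ξ ≫ g) G (down ξ q hq y) s) =
      germ ξ ((EtCoh.pull g).obj G) y (sq g G q hq s) := by
  refine (Etcore.StalkUnit.stalkPullIso_hom_germ g ξ G (down ξ q hq y) s).trans ?_
  rw [← fmap_liftBC]
  exact (germ_res ξ (F := (EtCoh.pull g).obj G) (liftBC g q hq) y (unitApp g G V s)).symm

section exch

variable {Z : Scheme.{u}} (g' : X' ⟶ X) (r : Z ⟶ X')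

/-- `H^n(Z, (r ≫ g')⁻¹ F) → H^n(Z, r⁻¹ g'⁻¹ F)` -/
noncomputable def exch (n : ℕ) (F : EtCoh.Ab X) : HQ F (r ≫ g') n →+ HQ ((EtCoh.pull g').obj F) r n :=
  HHmap ((EtCore.pullComp r g').hom.app F) n

theorem exch_bijective (n : ℕ) (F : EtCoh.Ab X) : Function.Bijective (exch g' r n F) :=
  HHmap_bijective ((EtCore.pullComp r g').hom.app F) n

theorem exch_map (n : ℕ) {F G : EtCoh.Ab X} (φ : F ⟶ G) (c : HQ F (r ≫ g') n) :
    exch g' r n G (Etcore.HQ.map φ (r ≫ g') n c) =
      Etcore.HQ.map ((EtCoh.pull g').map φ) r n (exch g' r n F c) := by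
  rw [exch, exch, map_apply, map_apply, ← HHmap_comp, ← HHmap_comp]
  exact congrArg (fun t => HHmap t n c) ((EtCore.pullComp r g').hom.naturality φ)

/-- The components of `pullComp` for a short complex. -/
noncomputable def exchS (A : ShortComplex (EtCoh.Ab X)) :
    A.map (EtCoh.pull (r ≫ g')) ⟶ (A.map (EtCoh.pull g')).map (EtCoh.pull r) where
  τ₁ := (EtCore.pullComp r g').hom.app A.X₁
  τ₂ := (EtCore.pullComp r g').hom.app A.X₂
  τ₃ := (EtCore.pullComp r g').hom.app A.X₃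
  comm₁₂ := ((EtCore.pullComp r g').hom.naturality A.f).symm
  comm₂₃ := ((EtCore.pullComp r g').hom.naturality A.g).symm

theorem exch_δ {A : ShortComplex (EtCoh.Ab X)} (hA : A.ShortExact) (n : ℕ) (c : HQ A.X₃ (r ≫ g') n) :
    exch g' r (n + 1) A.X₁ (Etcore.HQ.δ hA (r ≫ g') n c) =
      Etcore.HQ.δ (hA.map_of_exact (EtCoh.pull g')) r n (exch g' r n A.X₃ c) :=
  comp_aux (ShortComplex.ShortExact.extClass_naturality (hA.map_of_exact (EtCoh.pull (r ≫ g')))
    ((hA.map_of_exact (EtCoh.pull g')).map_of_exact (EtCoh.pull r)) (exchS g' r A)) c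

/-- The same map as a morphism of delta functors. -/
noncomputable def exchD : DeltaHom (tD (r ≫ g')) ((tD r).precomp (EtCoh.pull g')) where
  app n :=
    { app := fun F => AddCommGrpCat.ofHom (exch g' r n F)
      naturality := fun F G φ => by
        ext c
        exact exch_map g' r n φ c }
  comm {A} hA n := by
    ext c
    exact (exch_δ g' r hA n c).symm

theorem exchD_app (n : ℕ) (F : EtCoh.Ab X) (c : HQ F (r ≫ g') n) :
    (((exchD g' r).app n).app F).hom c = exch g' r n F c := rfl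

theorem sq_congr {T S : Scheme.{u}} (g : T ⟶ S) (G : EtCoh.Ab S) {V : S.Etale} {W : T.Etale} {q q' : W.left ⟶ V.left}
    (e : q = q') (hq : q ≫ V.hom = W.hom ≫ g) (hq' : q' ≫ V.hom = W.hom ≫ g) (s : EtCoh.sect G V) :
    (sq g G q hq).hom s = (sq g G q' hq').hom s := by
  subst e
  rfl

theorem idq {W : Scheme.{u}} {V : X.Etale} (a : W ⟶ V.left) (b : W ⟶ X) (h : a ≫ V.hom = b) :
    (𝟙 W ≫ a) ≫ V.hom = b := by
  rw [Category.id_comp, h]

theorem exch_sec (F : EtCoh.Ab X) {V : X.Etale} {W : X'.Etale} (a : W.left ⟶ V.left)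
    (ha : a ≫ V.hom = W.hom ≫ g') (s : EtCoh.sect F V) :
    exch g' W.hom 0 F (sec F (W.hom ≫ g') a ha s) =
      sec ((EtCoh.pull g').obj F) W.hom (𝟙 W.left) (Category.id_comp _) (sq g' F a ha s) := by
  apply (Etcore.HpullCalc.H0 W.left _).injective
  rw [exch, Etcore.HpullCalc.H0_map, H0_sec, H0_sec]
  have h1 := sq_comp W.hom g' F (V := V) (W := W) (W' := EtCoh.top W.left) a ha (𝟙 W.left)
    (sq_cond W.hom (𝟙 W.left) (Category.id_comp _)) (idq a _ (sq_cond (W.hom ≫ g') a ha))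
  have h2 := ConcreteCategory.congr_hom h1 s
  refine Eq.trans ?_ h2.symm
  exact congrArg (((EtCore.pullComp W.hom g').hom.app F).hom.app (op (EtCoh.top W.left))).hom
    (sq_congr (W.hom ≫ g') F (W := EtCoh.top W.left) (Category.id_comp a).symm _ _ s)

end exch

section bc

variable (w : g' ≫ f = f' ≫ g)

/-- The pullback of classes along `X' ×_S' U ⟶ X ×_S V`. -/
noncomputable def pc (n : ℕ) (F : EtCoh.Ab X) : HQ F (pr f V) n →+ HQ ((EtCoh.pull g').obj F) (pr f' U) n :=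
  (exch g' (pr f' U) n F).comp (res F (bcSq f g f' g' w q hq) (bcSq_hom f g f' g' w q hq) n)

theorem pc_apply (n : ℕ) (F : EtCoh.Ab X) (c : HQ F (pr f V) n) :
    pc q hq w n F c = exch g' (pr f' U) n F (res F (bcSq f g f' g' w q hq) (bcSq_hom f g f' g' w q hq) n c) := rfl

theorem pc_secP (F : EtCoh.Ab X) (s : EtCoh.sect F ((EtCoh.bc f).obj V)) :
    pc q hq w 0 F (secP f F V s) = secP f' ((EtCoh.pull g').obj F) U
      (sq g' F (V := (EtCoh.bc f).obj V) (W := (EtCoh.bc f').obj U)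
        (bcSq f g f' g' w q hq) (bcSq_hom f g f' g' w q hq) s) := by
  refine (congrArg (exch g' (pr f' U) 0 F) (res_sec F (bcSq f g f' g' w q hq) (bcSq_hom f g f' g' w q hq)
    (𝟙 _) (Category.id_comp _) (bcSq f g f' g' w q hq) (bcSq_hom f g f' g' w q hq) (Category.comp_id _) s)).trans ?_
  exact exch_sec g' F (W := (EtCoh.bc f').obj U) (bcSq f g f' g' w q hq) (bcSq_hom f g f' g' w q hq) s

/-- One path. -/
noncomputable def path₁ : DeltaHom (tD (pr f V)) ((rD f' ξ).precomp (EtCoh.pull g')) :=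
  comp (resD (bcSq f g f' g' w q hq) (bcSq_hom f g f' g' w q hq))
    (comp (exchD g' (pr f' U)) (K557.DeltaCalc.preW (rhoD f' ξ y) (EtCoh.pull g')))

/-- The other path. -/
noncomputable def path₂ : DeltaHom (tD (pr f V)) ((tgtD f' g').postcomp (EtCoh.stalk ξ)) :=
  comp (rhoD f (ξ ≫ g) (down ξ q hq y))
    (comp (K557.DeltaCalc.ofPost (RpushD f) (stalkPullIso g ξ).hom) (K557.DeltaCalc.postW (BC w) (EtCoh.stalk ξ)))

theorem path₁_zero (F : EtCoh.Ab X) (s : EtCoh.sect F ((EtCoh.bc f).obj V)) :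
    (((path₁ ξ q hq y w).app 0).app F).hom (secP f F V s) =
      ((EtCoh.stalk ξ).map ((zeroIso f').inv.app ((EtCoh.pull g').obj F))).hom
        (germ ξ ((EtCoh.push f').obj ((EtCoh.pull g').obj F)) y
          (sq g' F (V := (EtCoh.bc f).obj V) (W := (EtCoh.bc f').obj U)
            (bcSq f g f' g' w q hq) (bcSq_hom f g f' g' w q hq) s)) := by
  change rho f' ξ y 0 ((EtCoh.pull g').obj F) (pc q hq w 0 F (secP f F V s)) = _
  rw [pc_secP, rho_zero, germC_secP]

theorem path₂_zero (F : EtCoh.Ab X) (s : EtCoh.sect F ((EtCoh.bc f).obj V)) :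
    (((path₂ ξ q hq y w).app 0).app F).hom (secP f F V s) =
      ((EtCoh.stalk ξ).map ((zeroIso f').inv.app ((EtCoh.pull g').obj F))).hom
        (germ ξ ((EtCoh.push f').obj ((EtCoh.pull g').obj F)) y
          (sq g' F (V := (EtCoh.bc f).obj V) (W := (EtCoh.bc f').obj U)
            (bcSq f g f' g' w q hq) (bcSq_hom f g f' g' w q hq) s)) := by
  change ((EtCoh.stalk ξ).map (((BC w).app 0).app F)).hom (((stalkPullIso g ξ).hom.app ((EtCoh.Rpush f 0).obj F)).hom
    (rho f (ξ ≫ g) (down ξ q hq y) 0 F (secP f F V s))) = _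
  rw [rho_zero, germC_secP]
  have h1 : ((stalkPullIso g ξ).hom.app ((EtCoh.Rpush f 0).obj F)).hom
      (((EtCoh.stalk (ξ ≫ g)).map ((zeroIso f).inv.app F)).hom (germ (ξ ≫ g) ((EtCoh.push f).obj F) (down ξ q hq y) s)) =
      ((EtCoh.stalk ξ).map ((EtCoh.pull g).map ((zeroIso f).inv.app F))).hom
        (germ ξ ((EtCoh.pull g).obj ((EtCoh.push f).obj F)) y (sq g ((EtCoh.push f).obj F) q hq s)) := by
    rw [← germ_sq]
    exact ConcreteCategory.congr_hom ((stalkPullIso g ξ).hom.naturality ((zeroIso f).inv.app F)) _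
  refine (congrArg ((EtCoh.stalk ξ).map (((BC w).app 0).app F)).hom h1).trans ?_
  have h2 : ((BC w).app 0).app F = (EtCoh.pull g).map ((zeroIso f).app F).hom ≫
      EtCoh.baseChange0 f g f' g' w F ≫ (zeroIso f').inv.app ((EtCoh.pull g').obj F) := by
    rw [BC_app_zero, bc0_app]
    rfl
  refine (conj_apply (EtCoh.pull g) (EtCoh.stalk ξ) ((zeroIso f).app F) (EtCoh.baseChange0 f g f' g' w F)
    ((zeroIso f').inv.app ((EtCoh.pull g').obj F)) (((BC w).app 0).app F) h2
    (germ ξ ((EtCoh.pull g).obj ((EtCoh.push f).obj F)) y (sq g ((EtCoh.push f).obj F) q hq s))).trans ?_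
  refine congrArg ((EtCoh.stalk ξ).map ((zeroIso f').inv.app ((EtCoh.pull g').obj F))).hom ?_
  refine (germ_map ξ (EtCoh.baseChange0 f g f' g' w F) y (sq g ((EtCoh.push f).obj F) q hq s)).trans ?_
  exact congrArg (germ ξ ((EtCoh.push f').obj ((EtCoh.pull g').obj F)) y).hom
    (ConcreteCategory.congr_hom (baseChange0_sq f g f' g' w F q hq) s)

theorem paths (n : ℕ) (F : EtCoh.Ab X) :
    ((path₁ ξ q hq y w).app n).app F = ((path₂ ξ q hq y w).app n).app F := by
  refine assoc_ext (tD_eff (pr f V)) (RpushD f') (EtCoh.pull g') (EtCoh.stalk ξ) (path₁ ξ q hq y w)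
    (path₂ ξ q hq y w) (fun F => ?_) n F
  ext c
  obtain ⟨s, rfl⟩ := (secP_bijective f F V).2 c
  exact (path₁_zero ξ q hq y w F s).trans (path₂_zero ξ q hq y w F s).symm

theorem path₁_apply (n : ℕ) (F : EtCoh.Ab X) (c : HQ F (pr f V) n) :
    (((path₁ ξ q hq y w).app n).app F).hom c = rho f' ξ y n ((EtCoh.pull g').obj F) (pc q hq w n F c) := rfl

theorem path₂_apply (n : ℕ) (F : EtCoh.Ab X) (c : HQ F (pr f V) n) :
    (((path₂ ξ q hq y w).app n).app F).hom c =
      ((EtCoh.stalk ξ).map ((BCq w n).app F)).hom (((stalkPullIso g ξ).hom.app ((EtCoh.Rpush f n).obj F)).hom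
        (rho f (ξ ≫ g) (down ξ q hq y) n F c)) := rfl

/-- **Base change on classes.** -/
theorem rho_bc (n : ℕ) (F : EtCoh.Ab X) (c : HQ F (pr f V) n) :
    rho f' ξ y n ((EtCoh.pull g').obj F) (pc q hq w n F c) =
      ((EtCoh.stalk ξ).map ((BCq w n).app F)).hom (((stalkPullIso g ξ).hom.app ((EtCoh.Rpush f n).obj F)).hom
        (rho f (ξ ≫ g) (down ξ q hq y) n F c)) := by
  rw [← path₁_apply, ← path₂_apply, paths]
  rfl

end bc

end K558.Rho
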