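import Groth.Agent.EtBC.K558.StageLim

/-!
# Stalks of higher direct images on a limit (continued)

See `Groth.Agent.EtBC.K558.StageLim`.
-/

set_option autoImplicit false
universe u
open CategoryTheory CategoryTheory.Limits AlgebraicGeometry Opposite Abelian
open scoped Groth.Agent.Sga4B.EtAbInst
open scoped Groth.Agent.Etcore.EtInst
open Groth.Agent.Etcore.EtInst

namespace K558.StageLim

open Groth.Agent Groth.Agent.Etcore.HQ K558.Rho K558.LimCl K558.ClsLim K558.LamBC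
open Groth.Agent.Etcore.RpushLoc (pr mm mm_pr)
open Groth.Agent.Etcore.StalkSec (mkLift ext_hom hom_mkLift)
open K558.ClsLim.SSys (incl)

variable {ι : Type u} [Preorder ι] {Ss Ts : ιᵒᵖ ⥤ Scheme.{u}} (gN : Ts ⟶ Ss)
  {cS : Cone Ss} {cT : Cone Ts} {g : cT.pt ⟶ cS.pt} (hg : ∀ a, g ≫ cS.π.app a = cT.π.app a ≫ gN.app a)
  (M : SSys Ts cT) {Ω : Type u} [Field Ω] [IsSepClosed Ω] (ξ : Spec (CommRingCat.of Ω) ⟶ cS.pt) (n : ℕ)

/-- From a stage to the limit. -/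
noncomputable def lamj (j : ι) :
    St (gN.app (op j)) (ξ ≫ cS.π.app (op j)) n (M.F j) →+ St g ξ n M.t.pt :=
  Lam (hg (op j)).symm ξ (ξ ≫ cS.π.app (op j)) rfl (M.α j) n

omit [IsSepClosed Ω] in
theorem comp_π {i j : ι} (h : i ≤ j) :
    (ξ ≫ cS.π.app (op j)) ≫ Ss.map (homOfLE h).op = ξ ≫ cS.π.app (op i) := by
  rw [Category.assoc, cS.w]

/-- From a stage to a later stage. -/
noncomputable def lamij {i j : ι} (h : i ≤ j) :
    St (gN.app (op i)) (ξ ≫ cS.π.app (op i)) n (M.F i) →+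
      St (gN.app (op j)) (ξ ≫ cS.π.app (op j)) n (M.F j) :=
  Lam (gN.naturality (homOfLE h).op) (ξ ≫ cS.π.app (op j)) (ξ ≫ cS.π.app (op i)) (comp_π ξ h) (M.φ h) n

theorem lamj_lamij {i j : ι} (h : i ≤ j) (y : St (gN.app (op i)) (ξ ≫ cS.π.app (op i)) n (M.F i)) :
    lamj gN hg M ξ n j (lamij gN M ξ n h y) = lamj gN hg M ξ n i y :=
  Lam_Lam _ _ _ (cT.w (homOfLE h).op) (cS.w (homOfLE h).op) ξ (ξ ≫ cS.π.app (op j)) (ξ ≫ cS.π.app (op i)) rfl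
    (comp_π ξ h) rfl (M.hα h) n y

variable [IsDirected ι (· ≤ ·)] (haffT : ∀ ⦃a b : ιᵒᵖ⦄ (m : a ⟶ b), IsAffineHom (Ts.map m))
  (haffS : ∀ ⦃a b : ιᵒᵖ⦄ (m : a ⟶ b), IsAffineHom (Ss.map m))
  (hqc : ∀ a : ιᵒᵖ, QuasiCompact (gN.app a)) (hqs : ∀ a : ιᵒᵖ, QuasiSeparated (gN.app a)) (hcT : IsLimit cT)
  (hcS : IsLimit cS)

include haffT haffS hqc hqs hcT hcS in
/-- Every element of the stalk comes from a stage. -/
theorem lam_surj [Nonempty ι] (z : St g ξ n M.t.pt) :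
    ∃ (j : ι) (y : St (gN.app (op j)) (ξ ≫ cS.π.app (op j)) n (M.F j)), lamj gN hg M ξ n j y = z := by
  obtain ⟨V', x', c', rfl⟩ := exists_rho_eq g ξ n M.t.pt z
  have iaff : ∀ {a b : ιᵒᵖ} (m : a ⟶ b), IsAffineHom (Ss.map m) := fun m => haffS m
  obtain ⟨⟨i₀⟩, W, w, hw, hW, h, η', h1, h2⟩ := exists_nbhd Ss cS hcS V'.hom (Etcore.StalkSec.hom ξ x')
  let V₀ : (Ss.obj (op i₀)).Etale := Scheme.Etale.mk w
  have hV₀ : IsAffine V₀.left := hW
  let V : cS.pt.Etale := (EtCoh.bc (cS.π.app (op i₀))).obj V₀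
  let k : V ⟶ V' := EtpbcB.Big.etHom h h1
  have hη : η' ≫ V.hom = ξ := by
    refine (congrArg (η' ≫ ·) h1.symm).trans ?_
    refine (Category.assoc _ _ _).symm.trans ?_
    exact (congrArg (· ≫ V'.hom) h2).trans (Etcore.StalkSec.hom_comp ξ x')
  let x : Fib ξ V := mkLift ξ η' hη
  have hx : fmap ξ k x = x' := ext_hom _ _ _ h2
  obtain ⟨c₁, hc₁⟩ := exists_RB g (cS.π.app (op i₀)) (g ≫ cS.π.app (op i₀)) rfl V₀ ξ x n M.t.pt
    (res M.t.pt (mm g k) (mm_pr g k) n c')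
  obtain ⟨l, hl, y, hy⟩ := d_surj gN V₀ hg (g ≫ cS.π.app (op i₀)) rfl haffT haffS hqc hqs hcT hV₀ M n c₁
  have e1 : (Etcore.StalkSec.hom ξ x ≫ toV (cS.π.app (op i₀)) V₀) ≫ V₀.hom =
      (ξ ≫ cS.π.app (op l)) ≫ Ss.map (homOfLE hl).op := by
    rw [comp_π, Category.assoc, toV_hom, ← Category.assoc]
    exact congrArg (· ≫ cS.π.app (op i₀)) hη
  refine ⟨l, RB (gN.app (op l)) (Ss.map (homOfLE hl).op) (tau gN hl) rfl V₀ (ξ ≫ cS.π.app (op l))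
    (liftF _ _ V₀ _ e1) n (M.F l) y, ?_⟩
  rw [lamj, Lam_RB (t := tau gN hl) rfl (V₀ := V₀) (t' := g ≫ cS.π.app (op i₀)) rfl (hg (op l)).symm
    (cS.w (homOfLE hl).op) ξ (ξ ≫ cS.π.app (op l)) rfl (M.α l) n (liftF _ _ V₀ _ e1) x (hom_liftF _ _ V₀ _ e1).symm
    (prj gN V₀ hg _ rfl hl) (prj_toV gN V₀ hg _ rfl hl) _ (prj_pr gN V₀ hg _ rfl hl) rfl y, hy, hc₁]
  exact rho_res g ξ x' k x hx n M.t.pt c'

section inj

variable {i j : ι} (hij : i ≤ j) {V₀ : (Ss.obj (op i)).Etale} {W : Scheme.{u}}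
  (w : W ⟶ pullback V₀.hom (tau (𝟙 Ss) hij)) [hw : AlgebraicGeometry.Etale w]

omit [IsDirected ι (· ≤ ·)] in
theorem etale_w' : AlgebraicGeometry.Etale (w ≫ pullback.snd V₀.hom (tau (𝟙 Ss) hij)) := by
  have := V₀.prop
  infer_instance

/-- `W` as an étale scheme over `S_j`. -/
noncomputable def W' : (Ss.obj (op j)).Etale :=
  have := etale_w' hij w
  Scheme.Etale.mk (w ≫ pullback.snd V₀.hom (tau (𝟙 Ss) hij))

omit [IsDirected ι (· ≤ ·)] in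
theorem W'_hom : (W' hij w).hom = w ≫ pullback.snd V₀.hom (tau (𝟙 Ss) hij) := rfl

/-- `W ⟶ V₀` -/
noncomputable def toV₀ : (W' hij w).left ⟶ V₀.left := w ≫ pullback.fst V₀.hom (tau (𝟙 Ss) hij)

omit [IsDirected ι (· ≤ ·)] in
theorem tau_id : tau (𝟙 Ss) hij = Ss.map (homOfLE hij).op := Category.id_comp _

omit [IsDirected ι (· ≤ ·)] in
theorem toV₀_hom : toV₀ hij w ≫ V₀.hom = (W' hij w).hom ≫ Ss.map (homOfLE hij).op := by
  rw [W'_hom, ← tau_id hij]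
  refine (Category.assoc _ _ _).trans ?_
  refine (congrArg (w ≫ ·) pullback.condition).trans ?_
  exact (Category.assoc _ _ _).symm

/-- The map `T_j ×_{S_j} W ⟶ T_i ×_{S_i} V₀`. -/
noncomputable def rr : ((EtCoh.bc (tau gN (le_refl j))).obj (W' hij w)).left ⟶
    ((EtCoh.bc (gN.app (op i))).obj V₀).left :=
  liftV (gN.app (op i)) V₀ (toV (tau gN (le_refl j)) (W' hij w) ≫ toV₀ hij w)
    (pr (tau gN (le_refl j)) (W' hij w) ≫ Ts.map (homOfLE hij).op) (by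
      rw [Category.assoc, toV₀_hom, ← Category.assoc, toV_hom, Category.assoc, Category.assoc, gN.naturality, tau,
        Category.assoc, ← Ss.map_comp]
      rfl)

end inj

end K558.StageLim
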