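import Groth.Agent.EtBC.K558.LamRB
import Groth.Agent.EtBC.K558.ClsLim
import Groth.Agent.Etcore.PullbackSys
import Groth.Agent.Etcore.EtaleDescend

/-!
# Stalks of higher direct images on a limit

For a map `gN : Ts ⟶ Ss` of systems (qcqs, affine transition maps) with limit `g : T ⟶ S`, and a system of
sheaves `M : SSys Ts cT` with colimit `M.t.pt` on `T`:

* `lam_surj`: every element of `(R^n g_* M.t.pt)_ξ` comes from some `(R^n g_{j*} M.F j)_ξ_j`;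
* `lam_inj`: an element of `(R^n g_{i*} M.F i)_ξ_i` which dies in the limit dies at a stage.
-/

set_option autoImplicit false
universe u
open CategoryTheory CategoryTheory.Limits AlgebraicGeometry Opposite Abelian
open scoped Groth.Agent.Sga4B.EtAbInst
open scoped Groth.Agent.Etcore.EtInst
open Groth.Agent.Etcore.EtInst

namespace K558.StageLim

open Groth.Agent Groth.Agent.Etcore.HQ K558.Rho K558.LimCl K558.ClsLim K558.LamBC
open Groth.Agent.Etcore (PullbackSys.mapp PullbackSys.sys PullbackSys.cone PullbackSys.proj)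
open Groth.Agent.Etcore.RpushLoc (pr mm mm_pr)
open K558.ClsLim.SSys (incl)

theorem exists_nbhd {I : Type u} [Category.{u} I] [IsCofiltered I] (D : I ⥤ Scheme.{u})
    [∀ {i j : I} (f : i ⟶ j), IsAffineHom (D.map f)] (c : Cone D) (hc : IsLimit c)
    {V : Scheme.{u}} (v : V ⟶ c.pt) [AlgebraicGeometry.Etale v] {Ω : Type u} [Field Ω]
    (η : Spec (CommRingCat.of Ω) ⟶ V) :
    ∃ (i : I) (W : Scheme.{u}) (w : W ⟶ D.obj i) (_ : AlgebraicGeometry.Etale w) (_ : IsAffine W)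
      (h : pullback w (c.π.app i) ⟶ V) (η' : Spec (CommRingCat.of Ω) ⟶ pullback w (c.π.app i)),
      h ≫ v = pullback.snd w (c.π.app i) ∧ η' ≫ h = η := by
  obtain ⟨i, W, w, hw, hW, h, hh, z, h1, h2⟩ :=
    Etcore.EtaleDescend.exists_etale_nhd_isOpenImmersion D c hc v (η default)
  refine ⟨i, W, w, hw, hW, h, IsOpenImmersion.lift h η ?_, h1, IsOpenImmersion.lift_fac _ _ _⟩
  rintro _ ⟨p, rfl⟩
  rw [Subsingleton.elim p default]
  exact ⟨z, h2⟩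

section D

variable {ι : Type u} [Preorder ι] [IsDirected ι (· ≤ ·)] {Ss Ts : ιᵒᵖ ⥤ Scheme.{u}} (gN : Ts ⟶ Ss) {i₀ : ι}

instance (i₀ : ι) : IsDirected (Set.Ici i₀) (· ≤ ·) := ⟨fun a b => by
  obtain ⟨k, h1, h2⟩ := exists_ge_ge a.1 b.1
  exact ⟨⟨k, a.2.trans h1⟩, h1, h2⟩⟩

instance (i₀ : ι) : Nonempty (Set.Ici i₀) := ⟨⟨i₀, le_refl i₀⟩⟩

/-- `T_l ⟶ S_{i₀}` -/
noncomputable def tau {l : ι} (h : i₀ ≤ l) : Ts.obj (op l) ⟶ Ss.obj (op i₀) :=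
  gN.app (op l) ≫ Ss.map (homOfLE h).op

omit [IsDirected ι (· ≤ ·)] in
theorem map_tau {l m : ι} (h : i₀ ≤ l) (hlm : l ≤ m) (h' : i₀ ≤ m) :
    Ts.map (homOfLE hlm).op ≫ tau gN h = tau gN h' := by
  rw [tau, tau, ← Category.assoc, gN.naturality, Category.assoc, ← Ss.map_comp]
  rfl

omit [IsDirected ι (· ≤ ·)] in
theorem tau_w {a b : (Set.Ici i₀)ᵒᵖ} (m : a ⟶ b) :
    ((incl i₀).op ⋙ Ts).map m ≫ tau gN b.unop.2 = tau gN a.unop.2 :=
  map_tau gN b.unop.2 (leOfHom m.unop) a.unop.2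

variable (V₀ : (Ss.obj (op i₀)).Etale)

/-- The system `T_l ×_{S_{i₀}} V₀`. -/
noncomputable abbrev dsys : (Set.Ici i₀)ᵒᵖ ⥤ Scheme.{u} :=
  PullbackSys.sys ((incl i₀).op ⋙ Ts) (fun b => tau gN b.unop.2) (fun _ _ m => tau_w gN m) V₀.hom

/-- The projections to the `T_l`. -/
noncomputable def zD : dsys gN V₀ ⟶ (incl i₀).op ⋙ Ts where
  app b := pullback.snd V₀.hom (tau gN b.unop.2)
  naturality _ _ m := Etcore.PullbackSys.mapp_snd _ _ _ _ m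

variable {cS : Cone Ss} {cT : Cone Ts} {g : cT.pt ⟶ cS.pt} (hg : ∀ a, g ≫ cS.π.app a = cT.π.app a ≫ gN.app a)
  (t : cT.pt ⟶ Ss.obj (op i₀)) (ht : g ≫ cS.π.app (op i₀) = t)

include hg ht in
omit [IsDirected ι (· ≤ ·)] in
theorem π_tau {l : ι} (h : i₀ ≤ l) : cT.π.app (op l) ≫ tau gN h = t := by
  rw [tau, ← Category.assoc, ← hg, Category.assoc, cS.w, ht]

/-- The cone. -/
noncomputable abbrev dcone : Cone (dsys gN V₀) :=
  PullbackSys.cone ((incl i₀).op ⋙ Ts) (fun b => tau gN b.unop.2) (fun _ _ m => tau_w gN m) V₀.hom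
    (cT.whisker (incl i₀).op) t (fun b => π_tau gN hg t ht b.unop.2)

variable (haffT : ∀ ⦃a b : ιᵒᵖ⦄ (m : a ⟶ b), IsAffineHom (Ts.map m))
  (haffS : ∀ ⦃a b : ιᵒᵖ⦄ (m : a ⟶ b), IsAffineHom (Ss.map m))
  (hqc : ∀ a : ιᵒᵖ, QuasiCompact (gN.app a)) (hqs : ∀ a : ιᵒᵖ, QuasiSeparated (gN.app a)) (hcT : IsLimit cT)
  (hV₀ : IsAffine V₀.left)

/-- The cone is a limit cone. -/
noncomputable def dlim : IsLimit (dcone gN V₀ hg t ht) :=
  have := SSys.incl_op_initial i₀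
  Etcore.PullbackSys.isLimitCone _ _ _ _ _ _ _ ((Functor.Initial.isLimitWhiskerEquiv (incl i₀).op cT).symm hcT)

omit [IsDirected ι (· ≤ ·)] in
include haffT in
theorem d_aff {a b : (Set.Ici i₀)ᵒᵖ} (m : a ⟶ b) : IsAffineHom ((dsys gN V₀).map m) :=
  Etcore.PullbackSys.isAffineHom_mapp ((incl i₀).op ⋙ Ts) (fun b => tau gN b.unop.2)
    (fun _ _ m => tau_w gN m) V₀.hom (fun _ _ m => haffT ((incl i₀).op.map m)) m

omit [IsDirected ι (· ≤ ·)] in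
include haffS hqc hV₀ in
theorem d_qc (a : (Set.Ici i₀)ᵒᵖ) : CompactSpace ((dsys gN V₀).obj a) := by
  change CompactSpace ↥(pullback V₀.hom (tau gN a.unop.2))
  have h1 : QuasiCompact (tau gN a.unop.2) := by
    have h2 := hqc (op a.unop.1)
    have h3 := haffS (homOfLE a.unop.2).op
    unfold tau
    infer_instance
  have h4 : CompactSpace ↥((𝟭 Scheme.{u}).obj V₀.left) := inferInstanceAs (CompactSpace ↥V₀.left)
  exact QuasiCompact.compactSpace_of_compactSpace (pullback.fst V₀.hom (tau gN a.unop.2))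

omit [IsDirected ι (· ≤ ·)] in
include haffS hqs hV₀ in
theorem d_qs (a : (Set.Ici i₀)ᵒᵖ) : QuasiSeparatedSpace ((dsys gN V₀).obj a) := by
  change QuasiSeparatedSpace ↥(pullback V₀.hom (tau gN a.unop.2))
  have h1 : QuasiSeparated (tau gN a.unop.2) := by
    have h2 := hqs (op a.unop.1)
    have h3 := haffS (homOfLE a.unop.2).op
    unfold tau
    infer_instance
  have h4 : QuasiSeparatedSpace ↥((𝟭 Scheme.{u}).obj V₀.left) := inferInstanceAs (QuasiSeparatedSpace ↥V₀.left)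
  exact quasiSeparatedSpace_of_quasiSeparated (pullback.fst V₀.hom (tau gN a.unop.2))

/-- `T ×_{S_{i₀}} V₀ ⟶ T_l ×_{S_{i₀}} V₀` -/
noncomputable def prj {l : ι} (h : i₀ ≤ l) :
    ((EtCoh.bc t).obj V₀).left ⟶ ((EtCoh.bc (tau gN h)).obj V₀).left :=
  liftV (tau gN h) V₀ (toV t V₀) (pr t V₀ ≫ cT.π.app (op l)) (by
    rw [toV_hom, Category.assoc, π_tau gN hg t ht h])

/-- `T_m ×_{S_{i₀}} V₀ ⟶ T_l ×_{S_{i₀}} V₀` -/
noncomputable def trn {l m : ι} (h : i₀ ≤ l) (hlm : l ≤ m) (h' : i₀ ≤ m) :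
    ((EtCoh.bc (tau gN h')).obj V₀).left ⟶ ((EtCoh.bc (tau gN h)).obj V₀).left :=
  liftV (tau gN h) V₀ (toV (tau gN h') V₀) (pr (tau gN h') V₀ ≫ Ts.map (homOfLE hlm).op) (by
    rw [toV_hom, Category.assoc, map_tau gN h hlm h'])

omit [IsDirected ι (· ≤ ·)] in
theorem prj_pr {l : ι} (h : i₀ ≤ l) :
    prj gN V₀ hg t ht h ≫ pr (tau gN h) V₀ = pr t V₀ ≫ cT.π.app (op l) := liftV_pr _ _ _ _ _

omit [IsDirected ι (· ≤ ·)] in
theorem prj_toV {l : ι} (h : i₀ ≤ l) : prj gN V₀ hg t ht h ≫ toV (tau gN h) V₀ = toV t V₀ := liftV_toV _ _ _ _ _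

omit [IsDirected ι (· ≤ ·)] in
theorem trn_pr {l m : ι} (h : i₀ ≤ l) (hlm : l ≤ m) (h' : i₀ ≤ m) :
    trn gN V₀ h hlm h' ≫ pr (tau gN h) V₀ = pr (tau gN h') V₀ ≫ Ts.map (homOfLE hlm).op := liftV_pr _ _ _ _ _

omit [IsDirected ι (· ≤ ·)] in
theorem trn_toV {l m : ι} (h : i₀ ≤ l) (hlm : l ≤ m) (h' : i₀ ≤ m) :
    trn gN V₀ h hlm h' ≫ toV (tau gN h) V₀ = toV (tau gN h') V₀ := liftV_toV _ _ _ _ _

variable (M : SSys Ts cT) (n : ℕ)

include haffT haffS hqc hqs hcT hV₀ in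
theorem d_surj (x : HQ M.t.pt (pr t V₀) n) :
    ∃ (l : ι) (h : i₀ ≤ l) (y : HQ (M.F l) (pr (tau gN h) V₀) n),
      cl (M.α l) (prj gN V₀ hg t ht h) (pr (tau gN h) V₀) (pr t V₀) (pr t V₀ ≫ cT.π.app (op l))
        (prj_pr gN V₀ hg t ht h) rfl n y = x := by
  obtain ⟨l, y, hy⟩ := (M.restrict i₀).surj (zD gN V₀) (cD := dcone gN V₀ hg t ht)
    (pullback.snd V₀.hom t) (fun b => (Etcore.PullbackSys.proj_snd _ _ _ _ _ _ b).symm)
    (d_aff gN V₀ haffT) (dlim gN V₀ hg t ht hcT) (d_qc gN V₀ haffS hqc hV₀) (d_qs gN V₀ haffS hqs hV₀) n x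
  refine ⟨l.1, l.2, y, Eq.trans ?_ hy⟩
  exact cl_congr _ _ _ rfl _ _ _ _ n y

include haffT haffS hqc hqs hcT hV₀ in
theorem d_inj {l : ι} (h : i₀ ≤ l) (y : HQ (M.F l) (pr (tau gN h) V₀) n)
    (hy : cl (M.α l) (prj gN V₀ hg t ht h) (pr (tau gN h) V₀) (pr t V₀) (pr t V₀ ≫ cT.π.app (op l))
        (prj_pr gN V₀ hg t ht h) rfl n y = 0) :
    ∃ (m : ι) (hlm : l ≤ m) (h' : i₀ ≤ m), cl (M.φ hlm) (trn gN V₀ h hlm h') (pr (tau gN h) V₀)
      (pr (tau gN h') V₀) (pr (tau gN h') V₀ ≫ Ts.map (homOfLE hlm).op) (trn_pr gN V₀ h hlm h') rfl n y = 0 := by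
  obtain ⟨m, hm, h2⟩ := (M.restrict i₀).inj (zD gN V₀) (cD := dcone gN V₀ hg t ht)
    (pullback.snd V₀.hom t) (fun b => (Etcore.PullbackSys.proj_snd _ _ _ _ _ _ b).symm)
    (d_aff gN V₀ haffT) (dlim gN V₀ hg t ht hcT) (d_qc gN V₀ haffS hqc hV₀) (d_qs gN V₀ haffS hqs hV₀) n ⟨l, h⟩ y
    ((cl_congr _ _ _ rfl _ _ _ _ n y).trans hy)
  exact ⟨m.1, hm, m.2, (cl_congr _ _ _ rfl _ _ _ _ n y).trans h2⟩

end D

end K558.StageLim
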